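import Mathlib

set_option autoImplicit false

namespace Cfsg.Agent.Helper65.TU

/-- multiplication by a unit maps a finite additive subgroup ONTO itself as soon as INTO -/
theorem h65_mul_mem_iff {F : Type*} [Field F] [Finite F] (A : AddSubgroup F) (d : F) (hd : d ≠ 0)
    (h : ∀ x ∈ A, d * x ∈ A) : ∀ x ∈ A, d⁻¹ * x ∈ A := by
  -- the injective self-map of the finite set A is surjective
  let f : A → A := fun x => ⟨d * x.1, h x.1 x.2⟩
  have hinj : Function.Injective f := by
    intro x y hxy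
    have : d * x.1 = d * y.1 := congrArg Subtype.val hxy
    exact Subtype.ext (mul_left_cancel₀ hd this)
  have hsurj : Function.Surjective f := Finite.surjective_of_injective hinj
  intro x hx
  obtain ⟨y, hy⟩ := hsurj ⟨x, hx⟩
  have hy' : d * y.1 = x := congrArg Subtype.val hy
  rw [← hy', ← mul_assoc, inv_mul_cancel₀ hd, one_mul]
  exact y.2

/-- in a finite field of characteristic `p`, if `c` generates `Fˣ` then so does `c ^ (p ^ a)` -/
theorem h65_pow_frob_gen {F : Type*} [Field F] [Finite F] (p : ℕ) [Fact p.Prime] [CharP F p] (c : F)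
    (hc : ∀ x : F, x ≠ 0 → ∃ k : ℕ, x = c ^ k) (a : ℕ) :
    ∀ x : F, x ≠ 0 → ∃ k : ℕ, x = (c ^ (p ^ a)) ^ k := by
  intro x hx
  have hbij : Function.Bijective (fun y : F => y ^ (p ^ a)) := by
    have hinj : Function.Injective (fun y : F => y ^ (p ^ a)) := by
      have := (iterateFrobenius F p a).injective
      intro y z hyz
      apply this
      simpa [iterateFrobenius_def] using hyz
    exact ⟨hinj, Finite.surjective_of_injective hinj⟩
  obtain ⟨y, hy⟩ := hbij.2 x
  have hy' : y ^ (p ^ a) = x := hy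
  have hy0 : y ≠ 0 := by
    intro h0
    apply hx
    rw [← hy', h0, zero_pow (pow_ne_zero _ (Fact.out : p.Prime).ne_zero)]
  obtain ⟨k, hk⟩ := hc y hy0
  refine ⟨k, ?_⟩
  rw [← hy', hk, ← pow_mul, ← pow_mul, mul_comm]

/-- (ALG, general form) -/
theorem h65_alg_full {F : Type*} [Field F] [Finite F] (p : ℕ) [Fact p.Prime] [CharP F p] (c : F)
    (hc : ∀ x : F, x ≠ 0 → ∃ k : ℕ, x = c ^ k) (A : AddSubgroup F) (n a : ℕ)
    (a0 : F) (ha0 : a0 ≠ 0) (ha0A : a0 ∈ A)
    (hn : ∀ x ∈ A, c ^ n * x ∈ A) (hns : ∀ x ∈ A, c ^ (n + p ^ a) * x ∈ A) : A = ⊤ := by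
  have hs : ∀ y ∈ A, c ^ (p ^ a) * y ∈ A := by
    intro y hy
    by_cases hc0 : c = 0
    · have hpa : p ^ a ≠ 0 := pow_ne_zero _ (Fact.out : p.Prime).ne_zero
      rw [hc0, zero_pow hpa, zero_mul]
      exact A.zero_mem
    · have hd : c ^ n ≠ 0 := pow_ne_zero _ hc0
      have h1 := h65_mul_mem_iff A (c ^ n) hd hn (c ^ (n + p ^ a) * y) (hns y hy)
      have h2 : (c ^ n)⁻¹ * (c ^ (n + p ^ a) * y) = c ^ (p ^ a) * y := by
        rw [pow_add, ← mul_assoc, ← mul_assoc, inv_mul_cancel₀ hd, one_mul]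
      rwa [h2] at h1
  have hpow : ∀ k : ℕ, ∀ y ∈ A, (c ^ (p ^ a)) ^ k * y ∈ A := by
    intro k
    induction k with
    | zero => intro y hy; simpa using hy
    | succ k ih =>
      intro y hy
      rw [pow_succ, mul_assoc]
      exact ih _ (hs y hy)
  rw [eq_top_iff]
  intro x _
  by_cases hx : x = 0
  · rw [hx]; exact A.zero_mem
  · have hq : x / a0 ≠ 0 := div_ne_zero hx ha0
    obtain ⟨k, hk⟩ := h65_pow_frob_gen p c hc a (x / a0) hq
    have := hpow k a0 ha0A
    rw [← hk, div_mul_cancel₀ x ha0] at this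
    exact this

end Cfsg.Agent.Helper65.TU
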