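import Mathlib
import Cfsg.Agent.Lib.Helper65.TU_ALG

set_option autoImplicit false

namespace Cfsg.Agent.Helper65.RW

variable {F : Type*} [Field F] {m : ℕ}

/-- (ROOT) the Frobenius is surjective on a finite field -/
theorem exists_root [Fintype F] (p : ℕ) [Fact p.Prime] [CharP F p] (a : ℕ) (r c0 : F) (hr : r ≠ 0) :
    ∃ c : F, r * c ^ (p ^ a) = c0 := by
  have hinj : Function.Injective (fun y : F => y ^ (p ^ a)) := by
    have := (iterateFrobenius F p a).injective
    intro y z hyz
    apply this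
    simpa [iterateFrobenius_def] using hyz
  obtain ⟨c, hc⟩ := Finite.surjective_of_injective hinj (c0 / r)
  refine ⟨c, ?_⟩
  have hc' : c ^ (p ^ a) = c0 / r := hc
  rw [hc', mul_div_cancel₀ c0 hr]

/-- (INJ) in a finite field an additive subgroup stable under multiplication by `f1 ≠ 0` and by
`f1 * t` is stable under multiplication by `t` (`x ↦ f1 x` is a bijection of `S`) -/
theorem stable_div [Finite F] (S : AddSubgroup F) (f1 t : F) (hf : f1 ≠ 0)
    (h1 : ∀ x ∈ S, f1 * x ∈ S) (h2 : ∀ x ∈ S, f1 * t * x ∈ S) : ∀ x ∈ S, t * x ∈ S := by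
  intro x hx
  have h := Cfsg.Agent.Helper65.TU.h65_mul_mem_iff S f1 hf h1 (f1 * t * x) (h2 x hx)
  have h' : f1⁻¹ * (f1 * t * x) = t * x := by
    rw [← mul_assoc, ← mul_assoc, inv_mul_cancel₀ hf, one_mul]
  rwa [h'] at h

end Cfsg.Agent.Helper65.RW
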