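import Mathlib

/-!
# SR (T1), (T2): strictly triangular matrices shift levels (helper2 server, S2281)
-/

set_option autoImplicit false

namespace Cfsg.Agent.Helper65.SR

open Matrix

section T
variable {F : Type*} [Field F] {ι : Type*} [Fintype ι] [DecidableEq ι]

/-- (T1) -/
theorem tri_iter (lv : ι → ℕ) (T : Matrix ι ι F) (hT : ∀ a b, lv a ≤ lv b → T a b = 0) :
    ∀ (k r : ℕ) (x : ι → F), (∀ b, lv b < r → x b = 0) →
      ∀ a, lv a < r + k → ((T ^ k) *ᵥ x) a = 0 := by
  intro k
  induction k with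
  | zero =>
    intro r x hx a ha
    rw [pow_zero, one_mulVec]
    exact hx a (by omega)
  | succ k ih =>
    intro r x hx a ha
    rw [pow_succ', ← mulVec_mulVec]
    have hy := ih r x hx
    rw [mulVec, dotProduct]
    apply Finset.sum_eq_zero
    intro b _
    by_cases hb : lv b < r + k
    · rw [hy b hb, mul_zero]
    · rw [hT a b (by omega), zero_mul]

/-- (T2) -/
theorem tri_iter_ne (lv : ι → ℕ) (hinj : Function.Injective lv)
    (hsurj : ∀ a, ∀ j < lv a, ∃ b, lv b = j)
    (T : Matrix ι ι F) (hT : ∀ a b, lv a ≤ lv b → T a b = 0)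
    (hsub : ∀ a b, lv a = lv b + 1 → T a b ≠ 0) :
    ∀ (k r : ℕ) (x : ι → F), (∀ b, lv b < r → x b = 0) → (∃ b, lv b = r ∧ x b ≠ 0) →
      ∀ a, lv a = r + k → ((T ^ k) *ᵥ x) a ≠ 0 := by
  intro k
  induction k with
  | zero =>
    intro r x hx hxr a ha
    rw [pow_zero, one_mulVec]
    obtain ⟨b, hb, hxb⟩ := hxr
    have : a = b := hinj (by omega)
    rw [this]; exact hxb
  | succ k ih =>
    intro r x hx hxr a ha
    rw [pow_succ', ← mulVec_mulVec]
    obtain ⟨b', hb'⟩ := hsurj a (r + k) (by omega)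
    have hy0 := tri_iter lv T hT k r x hx
    have hyb := ih r x hx hxr b' hb'
    rw [mulVec, dotProduct, Finset.sum_eq_single b']
    · exact mul_ne_zero (hsub a b' (by omega)) hyb
    · intro b _ hbb'
      by_cases hb : lv b < r + k
      · rw [hy0 b hb, mul_zero]
      · have hne : lv b ≠ r + k := fun h => hbb' (hinj (h.trans hb'.symm))
        rw [hT a b (by omega), zero_mul]
    · intro h; exact absurd (Finset.mem_univ b') h

end T

end Cfsg.Agent.Helper65.SR
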