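import Mathlib

/-!
# A transvection lemma for `p`-groups (used for B-G 11.5/11.6)

`P` a finite `p`-group, `A ≤ P` elementary abelian of order `p ^ 2` with `Ω₁(C_P(A)) = A`,
`Z = Ω₁(Z(P))`.  If `A` is not central in `P` then `|Z| = p`, `Z ≤ A` and some `y ∈ P` acts on `A`
as a transvection with axis `Z`: for `a0 ∈ A ∖ Z`, `y ^ j a0 y ^ (-j) = a0 z ^ j` with `1 ≠ z ∈ Z`.
-/

set_option autoImplicit false

namespace Cfsg.Agent.Helper65.BG11T

open Subgroup

variable {G : Type*} [Group G]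

theorem conj_pow_of_conj {y w : G} {k : ℕ} (h : y * w * y⁻¹ = w ^ k) (m : ℕ) :
    y ^ m * w * (y ^ m)⁻¹ = w ^ (k ^ m) := by
  induction m with
  | zero => simp
  | succ m ih =>
    have h1 : y ^ (m + 1) * w * (y ^ (m + 1))⁻¹ = y * (y ^ m * w * (y ^ m)⁻¹) * y⁻¹ := by
      rw [pow_succ']; group
    have h2 : y * w ^ (k ^ m) * y⁻¹ = (y * w * y⁻¹) ^ (k ^ m) := by
      rw [conj_pow]
    rw [h1, ih, h2, h, ← pow_mul, pow_succ, mul_comm]

/-- a `p`-element normalizing `⟨w⟩` with `w` of order `p` centralizes `w`. -/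
theorem conj_eq_self_of_conj_eq_pow {p : ℕ} [hp : Fact p.Prime] {y w : G} {k n : ℕ}
    (hw : orderOf w = p) (hy : y ^ (p ^ n) = 1) (h : y * w * y⁻¹ = w ^ k) :
    y * w * y⁻¹ = w := by
  have h1 := conj_pow_of_conj h (p ^ n)
  rw [hy] at h1
  simp only [one_mul, inv_one, mul_one] at h1
  have h2 : w ^ (k ^ (p ^ n)) = w ^ 1 := by rw [← h1, pow_one]
  rw [pow_eq_pow_iff_modEq, hw] at h2
  have h3 : ((k ^ (p ^ n) : ℕ) : ZMod p) = ((1 : ℕ) : ZMod p) :=
    (ZMod.natCast_eq_natCast_iff _ _ _).mpr h2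
  push_cast at h3
  rw [ZMod.pow_card_pow] at h3
  have h4 : k ≡ 1 [MOD p] := by
    apply (ZMod.natCast_eq_natCast_iff _ _ _).mp
    push_cast
    exact h3
  have h5 : w ^ k = w ^ 1 := by
    rw [pow_eq_pow_iff_modEq, hw]; exact h4
  rw [h, h5, pow_one]

/-- a `p`-element normalizing a subgroup of order `p` centralizes it. -/
theorem conj_eq_self_of_card_eq_prime [Finite G] {p : ℕ} [hp : Fact p.Prime] (W : Subgroup G)
    (hW : Nat.card W = p) {y : G} {n : ℕ} (hy : y ^ (p ^ n) = 1)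
    (hyW : ∀ w ∈ W, y * w * y⁻¹ ∈ W) : ∀ w ∈ W, y * w * y⁻¹ = w := by
  intro w hw
  by_cases hw1 : w = 1
  · subst hw1; simp
  have hwp : w ^ p = 1 := by
    have := pow_card_eq_one' (G := W) (x := ⟨w, hw⟩)
    rw [hW] at this
    exact congrArg Subtype.val this
  have ho : orderOf w = p := orderOf_eq_prime hwp hw1
  have hle : zpowers w ≤ W := by
    rw [zpowers_le]; exact hw
  have heq : zpowers w = W := by
    apply Subgroup.eq_of_le_of_card_ge hle
    rw [Nat.card_zpowers, ho, hW]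
  have h1 : y * w * y⁻¹ ∈ zpowers w := heq ▸ hyW w hw
  rw [← mem_powers_iff_mem_zpowers] at h1
  obtain ⟨k, hk⟩ := h1
  exact conj_eq_self_of_conj_eq_pow ho hy hk.symm


/-- normalizers grow in `p`-groups. -/
theorem exists_mem_normalizer_not_mem' [Finite G] {p : ℕ} [Fact p.Prime] {P X : Subgroup G}
    (hP : IsPGroup p P) (hXP : X ≤ P) (hne : X ≠ P) :
    ∃ q ∈ P, q ∈ normalizer (X : Set G) ∧ q ∉ X := by
  have : Group.IsNilpotent P := hP.isNilpotent
  have hnc := Group.normalizerCondition_of_isNilpotent (G := P)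
  have hlt : X.subgroupOf P < ⊤ := by
    rw [lt_top_iff_ne_top]
    intro h
    rw [Subgroup.subgroupOf_eq_top] at h
    exact hne (le_antisymm hXP h)
  have h2 := hnc _ hlt
  obtain ⟨q, hqN, hqX⟩ := SetLike.exists_of_lt h2
  rw [← Subgroup.subgroupOf_normalizer_eq hXP] at hqN
  exact ⟨q.1, q.2, hqN, hqX⟩

/-- a subgroup `Y` with `Z ≤ Y ≤ A`, `Z ≠ ⊥`, `Y ≠ A`, `|A| = p ^ 2` has order `p`. -/
theorem card_eq_prime_of_between [Finite G] {p : ℕ} [hp : Fact p.Prime] {Y A : Subgroup G}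
    (hAcard : Nat.card A = p ^ 2) (hYA : Y ≤ A) (hY1 : Y ≠ ⊥) (hYA' : Y ≠ A) :
    Nat.card Y = p := by
  have hdvd : Nat.card Y ∣ p ^ 2 := hAcard ▸ Subgroup.card_dvd_of_le hYA
  obtain ⟨i, hi, hiY⟩ := (Nat.dvd_prime_pow hp.out).1 hdvd
  interval_cases i
  · exfalso
    apply hY1
    rw [pow_zero] at hiY
    exact Subgroup.card_eq_one.mp hiY
  · simpa using hiY
  · exfalso
    apply hYA'
    apply Subgroup.eq_of_le_of_card_ge hYA
    rw [hAcard, hiY]

theorem transvection [Finite G] {p : ℕ} [hp : Fact p.Prime] (P A Z : Subgroup G)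
    (hP : IsPGroup p P) (hAP : A ≤ P)
    (hAc : ∀ a ∈ A, ∀ b ∈ A, a * b = b * a) (hAp : ∀ a ∈ A, a ^ p = 1)
    (hAcard : Nat.card A = p ^ 2)
    (hmax : ∀ y ∈ P, (∀ a ∈ A, a * y = y * a) → y ^ p = 1 → y ∈ A)
    (hZ : ∀ z, z ∈ Z ↔ z ∈ P ∧ (∀ y ∈ P, z * y = y * z) ∧ z ^ p = 1)
    (hnc : ¬ ∀ a ∈ A, ∀ y ∈ P, a * y = y * a) :
    Nat.card Z = p ∧ Z ≤ A ∧
    ∃ y ∈ P, ∀ a0 ∈ A, a0 ∉ Z →
      ∃ z ∈ Z, z ≠ 1 ∧ ∀ j : ℕ, y ^ j * a0 * (y ^ j)⁻¹ = a0 * z ^ j := by
  classical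
  have hp1 : 1 < p := hp.out.one_lt
  -- (1) `Z ≤ A`
  have hZA : Z ≤ A := by
    intro z hz
    obtain ⟨hzP, hzc, hzp⟩ := (hZ z).1 hz
    exact hmax z hzP (fun a ha => (hzc a (hAP ha)).symm) hzp
  -- (2) `Z ≠ ⊥`
  have hA1 : A ≠ ⊥ := by
    intro h
    rw [h, Subgroup.card_bot] at hAcard
    nlinarith
  have hZne : Z ≠ ⊥ := by
    have : Nontrivial P := by
      obtain ⟨a, ha1⟩ := (Subgroup.ne_bot_iff_exists_ne_one).1 hA1
      refine ⟨⟨⟨a.1, hAP a.2⟩, 1, ?_⟩⟩
      intro h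
      apply ha1
      have := congrArg Subtype.val h
      exact Subtype.ext (by simpa using this)
    have hcen : IsPGroup p (center P) := hP.to_subgroup (center P)
    have hnt : Nontrivial (center P) := hP.center_nontrivial
    have hdvd : p ∣ Nat.card (center P) := by
      rcases hcen.card_eq_or_dvd with h | h
      · exfalso
        have h2 := (Nat.card_eq_one_iff_unique.mp h).1
        exact not_subsingleton _ h2
      · exact h
    obtain ⟨c, hc⟩ := exists_prime_orderOf_dvd_card' p hdvd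
    have hc1 : c ≠ 1 := by
      intro h; rw [h, orderOf_one] at hc; omega
    have hcp : c ^ p = 1 := by rw [← hc]; exact pow_orderOf_eq_one c
    intro hbot
    have hmem : ((c : P) : G) ∈ Z := by
      rw [hZ]
      refine ⟨(c : P).2, ?_, ?_⟩
      · intro y hy
        have h1 := (Subgroup.mem_center_iff.mp c.2) ⟨y, hy⟩
        have h2 := congrArg Subtype.val h1
        simpa using h2.symm
      · have h2 := congrArg (fun t : center P => ((t : P) : G)) hcp
        simpa using h2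
    rw [hbot, Subgroup.mem_bot] at hmem
    apply hc1
    apply Subtype.ext
    apply Subtype.ext
    simpa using hmem
  -- (3) `|Z| = p`
  have hZneA : Z ≠ A := by
    intro h
    apply hnc
    intro a ha y hy
    exact ((hZ a).1 (h ▸ ha)).2.1 y hy
  have hZcard : Nat.card Z = p := card_eq_prime_of_between hAcard hZA hZne hZneA
  refine ⟨hZcard, hZA, ?_⟩
  -- (4) `C = C_P(A)`
  set C : Subgroup G := P ⊓ centralizer (A : Set G) with hC
  have hAC : A ≤ C := by
    intro a ha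
    rw [hC, Subgroup.mem_inf]
    refine ⟨hAP ha, ?_⟩
    rw [mem_centralizer_iff]
    intro b hb
    exact hAc b hb a ha
  have hCP : C ≤ P := inf_le_left
  have hCne : C ≠ P := by
    intro h
    apply hnc
    intro a ha y hy
    have hy' : y ∈ C := h ▸ hy
    exact (mem_centralizer_iff.mp hy'.2 a ha)
  obtain ⟨y, hyP, hyN, hyC⟩ := exists_mem_normalizer_not_mem' hP hCP hCne
  -- (6) `y` normalizes `A`
  have hyA : ∀ a ∈ A, y * a * y⁻¹ ∈ A := by
    intro a ha
    have h1 : y * a * y⁻¹ ∈ C := (mem_normalizer_iff.mp hyN a).1 (hAC ha)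
    apply hmax _ h1.1
    · intro b hb
      exact (mem_centralizer_iff.mp h1.2 b hb)
    · rw [conj_pow, hAp a ha]; group
  have hynA : ¬ ∀ a ∈ A, y * a = a * y := by
    intro h
    apply hyC
    rw [hC, Subgroup.mem_inf]
    refine ⟨hyP, ?_⟩
    rw [mem_centralizer_iff]
    intro a ha
    exact (h a ha).symm
  obtain ⟨n, hyn⟩ : ∃ n : ℕ, y ^ (p ^ n) = 1 := by
    obtain ⟨n, hn⟩ := hP ⟨y, hyP⟩
    exact ⟨n, by simpa using congrArg Subtype.val hn⟩
  -- (8) `C_A(y) = Z`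
  have hZy : ∀ z ∈ Z, y * z = z * y := fun z hz => (((hZ z).1 hz).2.1 y hyP).symm
  set CA : Subgroup G := A ⊓ centralizer ({y} : Set G) with hCA
  have hZCA : Z ≤ CA := by
    intro z hz
    rw [hCA, Subgroup.mem_inf]
    refine ⟨hZA hz, ?_⟩
    rw [mem_centralizer_iff]
    intro t ht
    rw [Set.mem_singleton_iff] at ht
    subst ht
    exact hZy z hz
  have hCAA : CA ≤ A := inf_le_left
  have hCAne : CA ≠ A := by
    intro h
    apply hynA
    intro a ha
    have ha' : a ∈ CA := h ▸ ha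
    exact (mem_centralizer_iff.mp ha'.2 y rfl)
  have hCA1 : CA ≠ ⊥ := by
    intro h
    apply hZne
    rw [eq_bot_iff, ← h]
    exact hZCA
  have hCAcard : Nat.card CA = p := card_eq_prime_of_between hAcard hCAA hCA1 hCAne
  have hCAZ : Z = CA := Subgroup.eq_of_le_of_card_ge hZCA (by rw [hCAcard, hZcard])
  have hfix : ∀ a ∈ A, y * a = a * y → a ∈ Z := by
    intro a ha h
    rw [hCAZ, hCA, Subgroup.mem_inf]
    refine ⟨ha, ?_⟩
    rw [mem_centralizer_iff]
    intro t ht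
    rw [Set.mem_singleton_iff] at ht
    subst ht
    exact h
  -- (9) the commutator homomorphism
  have hcomm_mem : ∀ a ∈ A, y * a * y⁻¹ * a⁻¹ ∈ A := fun a ha => A.mul_mem (hyA a ha) (A.inv_mem ha)
  let φ : A →* A :=
    { toFun := fun a => ⟨y * a.1 * y⁻¹ * a.1⁻¹, hcomm_mem a.1 a.2⟩
      map_one' := by
        apply Subtype.ext
        simp
      map_mul' := by
        intro a b
        apply Subtype.ext
        show y * (a.1 * b.1) * y⁻¹ * (a.1 * b.1)⁻¹ = (y * a.1 * y⁻¹ * a.1⁻¹) * (y * b.1 * y⁻¹ * b.1⁻¹)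
        have h1 : a.1⁻¹ * (y * b.1 * y⁻¹ * b.1⁻¹) = (y * b.1 * y⁻¹ * b.1⁻¹) * a.1⁻¹ :=
          hAc _ (A.inv_mem a.2) _ (hcomm_mem b.1 b.2)
        calc y * (a.1 * b.1) * y⁻¹ * (a.1 * b.1)⁻¹
            = (y * a.1 * y⁻¹) * ((y * b.1 * y⁻¹ * b.1⁻¹) * a.1⁻¹) := by group
          _ = (y * a.1 * y⁻¹) * (a.1⁻¹ * (y * b.1 * y⁻¹ * b.1⁻¹)) := by rw [h1]
          _ = (y * a.1 * y⁻¹ * a.1⁻¹) * (y * b.1 * y⁻¹ * b.1⁻¹) := by group }
  have hφ : ∀ a : A, ((φ a : A) : G) = y * a.1 * y⁻¹ * a.1⁻¹ := fun a => rfl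
  have hker : ∀ a : A, a ∈ φ.ker ↔ y * a.1 = a.1 * y := by
    intro a
    rw [MonoidHom.mem_ker]
    constructor
    · intro h
      have h1 : y * a.1 * y⁻¹ * a.1⁻¹ = 1 := by
        rw [← hφ a, h]; rfl
      calc y * a.1 = (y * a.1 * y⁻¹ * a.1⁻¹) * (a.1 * y) := by group
        _ = a.1 * y := by rw [h1, one_mul]
    · intro h
      apply Subtype.ext
      rw [hφ a]
      show y * a.1 * y⁻¹ * a.1⁻¹ = 1
      rw [h]; group
  -- the kernel has order `p`
  have hkercard : Nat.card φ.ker = p := by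
    have hAcard' : Nat.card (⊤ : Subgroup A) = p ^ 2 := by
      rw [Subgroup.card_top]; exact hAcard
    apply card_eq_prime_of_between (G := A) hAcard' le_top
    · intro h
      obtain ⟨z', hz'⟩ := (Subgroup.ne_bot_iff_exists_ne_one).1 hZne
      obtain ⟨z, hzZ, hz1⟩ : ∃ z : G, z ∈ Z ∧ z ≠ 1 :=
        ⟨z'.1, z'.2, fun h => hz' (Subtype.ext h)⟩
      have hzk : (⟨z, hZA hzZ⟩ : A) ∈ φ.ker := (hker _).2 (hZy z hzZ)
      rw [h, Subgroup.mem_bot] at hzk
      exact hz1 (congrArg Subtype.val hzk)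
    · intro h
      apply hynA
      intro a ha
      have : (⟨a, ha⟩ : A) ∈ φ.ker := h ▸ Subgroup.mem_top _
      exact (hker _).1 this
  have hrangecard : Nat.card φ.range = p := by
    have h1 := Subgroup.card_mul_index φ.ker
    rw [Subgroup.index_ker, hkercard, hAcard] at h1
    have : p * Nat.card φ.range = p * p := by rw [h1]; ring
    exact Nat.eq_of_mul_eq_mul_left hp.out.pos this
  -- `W`, the image, as a subgroup of `G`
  set W : Subgroup G := φ.range.map A.subtype with hW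
  have hWcard : Nat.card W = p := by
    rw [hW, Subgroup.card_map_of_injective (Subgroup.subtype_injective A)]
    exact hrangecard
  have hWmem : ∀ a ∈ A, y * a * y⁻¹ * a⁻¹ ∈ W := by
    intro a ha
    exact ⟨φ ⟨a, ha⟩, ⟨⟨a, ha⟩, rfl⟩, rfl⟩
  have hWA : W ≤ A := by
    rintro _ ⟨w, -, rfl⟩
    exact w.2
  have hyW : ∀ w ∈ W, y * w * y⁻¹ ∈ W := by
    rintro _ ⟨_, ⟨a, rfl⟩, rfl⟩
    have h1 := hWmem (y * a.1 * y⁻¹) (hyA a.1 a.2)
    have h2 : y * (A.subtype (φ a)) * y⁻¹ = y * (y * a.1 * y⁻¹) * y⁻¹ * (y * a.1 * y⁻¹)⁻¹ := by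
      show y * (y * a.1 * y⁻¹ * a.1⁻¹) * y⁻¹ = _
      group
    rw [h2]; exact h1
  have hWfix := conj_eq_self_of_card_eq_prime W hWcard hyn hyW
  have hWZ : W ≤ Z := by
    intro w hw
    apply hfix w (hWA hw)
    have := hWfix w hw
    calc y * w = (y * w * y⁻¹) * y := by group
      _ = w * y := by rw [this]
  -- (12) the conclusion
  refine ⟨y, hyP, ?_⟩
  intro a0 ha0 ha0Z
  refine ⟨y * a0 * y⁻¹ * a0⁻¹, hWZ (hWmem a0 ha0), ?_, ?_⟩
  · intro h
    apply ha0Z
    apply hfix a0 ha0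
    calc y * a0 = (y * a0 * y⁻¹ * a0⁻¹) * (a0 * y) := by group
      _ = a0 * y := by rw [h, one_mul]
  · set z := y * a0 * y⁻¹ * a0⁻¹ with hz
    have hzZ : z ∈ Z := hWZ (hWmem a0 ha0)
    have hzy : y * z = z * y := hZy z hzZ
    have hza : z * a0 = a0 * z := hAc z (hZA hzZ) a0 ha0
    have hya : y * a0 * y⁻¹ = z * a0 := by rw [hz]; group
    intro j
    induction j with
    | zero => simp
    | succ j ih =>
      have hzj : y * z ^ j * y⁻¹ = z ^ j := by
        have h1 : Commute y (z ^ j) := (show Commute y z from hzy).pow_right j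
        calc y * z ^ j * y⁻¹ = (z ^ j * y) * y⁻¹ := by rw [h1.eq]
          _ = z ^ j := by group
      have hzja : z ^ j * a0 = a0 * z ^ j := (show Commute z a0 from hza).pow_left j |>.eq
      calc y ^ (j + 1) * a0 * (y ^ (j + 1))⁻¹
          = y * (y ^ j * a0 * (y ^ j)⁻¹) * y⁻¹ := by rw [pow_succ']; group
        _ = y * (a0 * z ^ j) * y⁻¹ := by rw [ih]
        _ = (y * a0 * y⁻¹) * (y * z ^ j * y⁻¹) := by group
        _ = (z * a0) * z ^ j := by rw [hya, hzj]
        _ = a0 * z ^ (j + 1) := by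
            rw [hza, mul_assoc, ← pow_succ']


/-- `Ω₁(Z(P))` as a subgroup of `G`: the central elements of `P` of order dividing `p`. -/
def omegaCenter (p : ℕ) (P : Subgroup G) : Subgroup G where
  carrier := {z | z ∈ P ∧ (∀ y ∈ P, z * y = y * z) ∧ z ^ p = 1}
  one_mem' := ⟨P.one_mem, fun y _ => by simp, one_pow p⟩
  mul_mem' := by
    rintro a b ⟨haP, hac, hap⟩ ⟨hbP, hbc, hbp⟩
    refine ⟨P.mul_mem haP hbP, ?_, ?_⟩
    · intro y hy
      calc a * b * y = a * (b * y) := by group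
        _ = a * (y * b) := by rw [hbc y hy]
        _ = (a * y) * b := by group
        _ = (y * a) * b := by rw [hac y hy]
        _ = y * (a * b) := by group
    · have hab : Commute a b := hac b hbP
      rw [hab.mul_pow, hap, hbp, one_mul]
  inv_mem' := by
    rintro a ⟨haP, hac, hap⟩
    refine ⟨P.inv_mem haP, ?_, ?_⟩
    · intro y hy
      have h := hac y hy
      calc a⁻¹ * y = a⁻¹ * (y * a) * a⁻¹ := by group
        _ = a⁻¹ * (a * y) * a⁻¹ := by rw [h]
        _ = y * a⁻¹ := by group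
    · rw [inv_pow, hap, inv_one]

theorem mem_omegaCenter {p : ℕ} {P : Subgroup G} {z : G} :
    z ∈ omegaCenter p P ↔ z ∈ P ∧ (∀ y ∈ P, z * y = y * z) ∧ z ^ p = 1 := Iff.rfl

/-- `N_G(P)` normalizes `Ω₁(Z(P))`. -/
theorem conj_mem_omegaCenter {p : ℕ} {P : Subgroup G} {g z : G}
    (hg : g ∈ normalizer (P : Set G)) (hz : z ∈ omegaCenter p P) :
    g * z * g⁻¹ ∈ omegaCenter p P := by
  obtain ⟨hzP, hzc, hzp⟩ := hz
  refine ⟨(mem_normalizer_iff.mp hg z).1 hzP, ?_, ?_⟩
  · intro y hy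
    have hy' : g⁻¹ * y * g ∈ P := by
      have := (mem_normalizer_iff.mp hg (g⁻¹ * y * g)).2
      apply this
      have e : g * (g⁻¹ * y * g) * g⁻¹ = y := by group
      rw [e]; exact hy
    have h := hzc _ hy'
    calc g * z * g⁻¹ * y = g * (z * (g⁻¹ * y * g)) * g⁻¹ := by group
      _ = g * ((g⁻¹ * y * g) * z) * g⁻¹ := by rw [h]
      _ = y * (g * z * g⁻¹) := by group
  · rw [conj_pow, hzp]; group

theorem normalizer_le_normalizer_omegaCenter (p : ℕ) (P : Subgroup G) :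
    normalizer (P : Set G) ≤ normalizer ((omegaCenter p P : Subgroup G) : Set G) := by
  intro g hg
  rw [mem_normalizer_iff]
  intro z
  constructor
  · exact conj_mem_omegaCenter hg
  · intro h
    have hg' : g⁻¹ ∈ normalizer (P : Set G) := inv_mem hg
    have := conj_mem_omegaCenter hg' h
    have e : g⁻¹ * (g * z * g⁻¹) * g⁻¹⁻¹ = z := by group
    rwa [e] at this

/-- in a group of prime order every non-identity element is a generator. -/
theorem zpowers_eq_of_card_prime [Finite G] {p : ℕ} [hp : Fact p.Prime] (W : Subgroup G)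
    (hW : Nat.card W = p) {w : G} (hw : w ∈ W) (hw1 : w ≠ 1) : zpowers w = W := by
  have hwp : w ^ p = 1 := by
    have := pow_card_eq_one' (G := W) (x := ⟨w, hw⟩)
    rw [hW] at this
    exact congrArg Subtype.val this
  have ho : orderOf w = p := orderOf_eq_prime hwp hw1
  have hle : zpowers w ≤ W := by
    rw [zpowers_le]; exact hw
  apply Subgroup.eq_of_le_of_card_ge hle
  rw [Nat.card_zpowers, ho, hW]

theorem centralizer_singleton_le_of_card_prime [Finite G] {p : ℕ} [hp : Fact p.Prime]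
    (W : Subgroup G) (hW : Nat.card W = p) {w : G} (hw : w ∈ W) (hw1 : w ≠ 1) :
    centralizer ({w} : Set G) ≤ centralizer (W : Set G) := by
  intro x hx
  rw [mem_centralizer_iff]
  intro v hv
  have hv' : v ∈ zpowers w := by rw [zpowers_eq_of_card_prime W hW hw hw1]; exact hv
  obtain ⟨k, rfl⟩ := mem_zpowers_iff.mp hv'
  have h1 : Commute w x := mem_centralizer_iff.mp hx w rfl
  exact (h1.zpow_left k).eq

end Cfsg.Agent.Helper65.BG11T
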