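import Cfsg.Agent.Lib.Helper33.BG11I
import Cfsg.Agent.Lib.Helper29.CoprimeGen
import Cfsg.Agent.Lib.Helper95.BG15.FitSigma
import Cfsg.Agent.Lib.Helper65.BG11T
import Cfsg.Agent.S1403

/-!
# B-G 11.5 / 11.6 (first half) under Hypothesis 11.1 alone

For an exceptional quadruple `Exc M p A A0` and a Sylow `p`-subgroup `P` of `M` containing `A`:
`A ≤ Z(P)`, the elements of `P` of order dividing `p` are exactly those of `A`, and
`N_G(P)` is not contained in `M`; hence `N_G(A)` is not contained in `M`.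
(That `P` is abelian is `Helper79.BG11b2`.)
-/

set_option autoImplicit false
open Pointwise

namespace Cfsg.Agent.Helper65.BG11b

open Subgroup Cfsg
open Cfsg.Agent.Helper33
open Cfsg.Agent.Helper33.BG125
open Cfsg.Agent.Helper33.BG11I
open Cfsg.Agent.Helper24.BG11 (Exc)
open Cfsg.Agent.Helper65.BG11T
open Cfsg.Agent.Helper34.BG (isElementaryAbelian_isPGroup isElementaryAbelian_conj
  commute_of_isElementaryAbelian not_normalizer_le_of_not_mem_sigma)
open Cfsg.Agent.Helper55.BGB (sigmaCore_le isPi_sigmaCore le_normalizer_sigmaCore)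

variable {G : Type*} [Group G] [Finite G]

/-- the Uniqueness Theorem, from the landed S1403. -/
theorem uniqHyp (hG : Cfsg.IsMinSimpleOddOrder G) : Cfsg.Agent.Helper34.BG.UniqHyp G :=
  fun K hK h1 h2 => Cfsg.Agent.S1403.result hG K hK h1 h2

theorem sigmaCore_ne_bot (hG : Cfsg.IsMinSimpleOddOrder G) {M : Subgroup G} (hM : IsCoatom M) :
    Cfsg.sigmaCore M ≠ ⊥ :=
  Cfsg.Agent.Helper95.BG15.FitSigma.sigmaCore_ne_bot hG (uniqHyp hG) hM
    (Cfsg.Agent.S1350.result hG M hM).1

/-- **B-G 11.5/11.6, central part**: under Hypothesis 11.1, `A` is central in every Sylow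
`p`-subgroup of `M` containing it. -/
theorem le_center (hG : Cfsg.IsMinSimpleOddOrder G) {M A A0 : Subgroup G} {p : ℕ}
    (hE : Exc M p A A0) (P : Sylow p M) (hAP : A ≤ (P : Subgroup M).map M.subtype) :
    ∀ a ∈ A, ∀ x ∈ (P : Subgroup M).map M.subtype, a * x = x * a := by
  have hpp : Fact p.Prime := hE.fact
  have hM := hE.coatom
  have hp : p ∈ Cfsg.tau2 M := exc_tau2 hG hE
  have hA := hE.hA
  have hAM := hA.1
  have hAe := hA.2.1
  have hAc := hA.2.2
  have hCA := hE.cent_le
  have hpσ := hE.not_sigma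
  by_contra hnc
  set Pg : Subgroup G := (P : Subgroup M).map M.subtype with hPg
  have hPgM : Pg ≤ M := Subgroup.map_subtype_le _
  have hPgp : IsPGroup p Pg := P.2.map _
  have hPsyl : IsSylIn p Pg M := isSylIn_of_sylow M P
  have hdvd : p ∣ Nat.card M := by
    have h1 : p ∣ Nat.card A := by rw [hAc]; exact dvd_pow_self p (by norm_num)
    exact h1.trans (Subgroup.card_dvd_of_le hAM)
  have hNP : ¬ normalizer (Pg : Set G) ≤ M := not_normalizer_le_of_not_mem_sigma hPsyl hdvd hpσ
  obtain ⟨g, hgN, hgM⟩ := SetLike.not_le_iff_exists.mp hNP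
  -- the transvection
  set Z : Subgroup G := omegaCenter p Pg with hZ
  have hmax : ∀ y ∈ Pg, (∀ a ∈ A, a * y = y * a) → y ^ p = 1 → y ∈ A := by
    intro y _ hy hyp
    have hyc : y ∈ centralizer (A : Set G) := by
      rw [mem_centralizer_iff]; exact hy
    exact (mem_of_centralizer_pow hG M hM p hp A hA y hyc).1 hyp
  obtain ⟨hZcard, hZA, y, hyP, hT⟩ := transvection Pg A Z hPgp hAP
    (fun a ha b hb => commute_of_isElementaryAbelian hAe ha hb) hAe.2 hAc hmax
    (fun z => mem_omegaCenter) hnc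
  have hgZ : g ∈ normalizer (Z : Set G) := normalizer_le_normalizer_omegaCenter p Pg hgN
  -- a generator `a0` of `A0`, not in `Z`
  have hA01 : A0 ≠ ⊥ := by
    intro h
    have h1 := hE.card0
    rw [h, Subgroup.card_bot] at h1
    exact hpp.out.one_lt.ne h1
  obtain ⟨a0', ha0'⟩ := (Subgroup.ne_bot_iff_exists_ne_one).1 hA01
  obtain ⟨a0, ha0, ha01⟩ : ∃ a0 : G, a0 ∈ A0 ∧ a0 ≠ 1 :=
    ⟨a0'.1, a0'.2, fun h => ha0' (Subtype.ext h)⟩
  have hA0z : zpowers a0 = A0 := zpowers_eq_of_card_prime A0 hE.card0 ha0 ha01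
  have ha0A : a0 ∈ A := hE.le0 ha0
  have ha0Z : a0 ∉ Z := by
    intro h
    have h1 : zpowers a0 = Z := zpowers_eq_of_card_prime Z hZcard h ha01
    have h2 : A0 = Z := by rw [← hA0z, h1]
    apply hgM
    apply hE.norm0
    rw [h2]; exact hgZ
  obtain ⟨z, hzZ, hz1, hform⟩ := hT a0 ha0A ha0Z
  -- notation
  set K : Subgroup G := Cfsg.sigmaCore M with hK
  have hKM : K ≤ M := sigmaCore_le M
  have hpK : ¬ p ∣ Nat.card K := fun h => hpσ (isPi_sigmaCore M p hpp.out h)
  have hcopK : (Nat.card K).Coprime p :=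
    (Nat.Coprime.symm ((Nat.Prime.coprime_iff_not_dvd hpp.out).mpr hpK))
  have hgP : MulAut.conj g • Pg = Pg := smul_eq_of_mem_normalizer hgN
  set B : Subgroup G := MulAut.conj g • A with hB
  have hBP : B ≤ Pg := by
    rw [← hgP]; exact conj_smul_le_conj_smul hAP
  have hBe : IsElementaryAbelian p B := isElementaryAbelian_conj hAe g
  have hBK : B ≤ normalizer (K : Set G) := (hBP.trans hPgM).trans (le_normalizer_sigmaCore M)
  set b : G := g * z * g⁻¹ with hb
  set a : G := g * a0 * g⁻¹ with ha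
  have hbZ : b ∈ Z := (mem_normalizer_iff.mp hgZ z).1 hzZ
  have hb1 : b ≠ 1 := by
    intro h
    apply hz1
    have : z = g⁻¹ * b * g := by rw [hb]; group
    rw [this, h]; group
  have haB : a ∈ B := conj_mem_conj_smul ha0A
  have hbB : b ∈ B := conj_mem_conj_smul (hZA hzZ)
  have hbp : b ^ p = 1 := (mem_omegaCenter.mp hbZ).2.2
  have hbo : orderOf b = p := orderOf_eq_prime hbp hb1
  -- the set of generators used
  set S : Set G := {c | c ∈ B ∧ ((∃ i : ℕ, 0 < i ∧ i < p ∧ c = b ^ i) ∨ ∃ j : ℕ, c = a * b ^ j)}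
    with hS
  have hSB : S ⊆ (B : Set G) := fun c hc => hc.1
  have hgen : K ≤ Cfsg.Agent.Helper29.genS S K :=
    Cfsg.Agent.Helper29.le_genS B K (fun x hx y hy => commute_of_isElementaryAbelian hBe hx hy)
      hBe.2 S hSB haB hbB
      (fun j => ⟨B.mul_mem haB (B.pow_mem hbB j), Or.inr ⟨j, rfl⟩⟩)
      (fun i h0 hi => ⟨B.pow_mem hbB i, Or.inl ⟨i, h0, hi, rfl⟩⟩) hBK hcopK
  have hyM : y ∈ M := hPgM hyP
  have hyN : y ∈ normalizer (Pg : Set G) := le_normalizer hyP
  -- every generator centralizes `b`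
  have hKb : K ≤ centralizer ({b} : Set G) := by
    refine hgen.trans ?_
    unfold Cfsg.Agent.Helper29.genS
    apply iSup_le
    rintro ⟨c, hcB, hc⟩
    rcases hc with ⟨i, h0, hi, rfl⟩ | ⟨j, rfl⟩
    · -- `c = b ^ i`, `0 < i < p`
      have hbi : b ^ i ≠ 1 := by
        intro h
        have h1 : orderOf b ∣ i := orderOf_dvd_of_pow_eq_one h
        rw [hbo] at h1
        have := Nat.le_of_dvd h0 h1
        omega
      have h1 : centralizer ({b ^ i} : Set G) ≤ centralizer (Z : Set G) :=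
        centralizer_singleton_le_of_card_prime Z hZcard (Z.pow_mem hbZ i) hbi
      intro x hx
      have hx2 := h1 hx.2
      rw [mem_centralizer_iff] at hx2 ⊢
      intro t ht
      rw [Set.mem_singleton_iff] at ht
      rw [ht]
      exact hx2 b hbZ
    · -- `c = a * b ^ j = n a0 n⁻¹`, `n = g y ^ j`
      set n : G := g * y ^ j with hn
      have hc : a * b ^ j = n * a0 * n⁻¹ := by
        have h1 : b ^ j = g * z ^ j * g⁻¹ := by rw [hb, conj_pow]
        rw [ha, h1, hn]
        have h2 := hform j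
        calc g * a0 * g⁻¹ * (g * z ^ j * g⁻¹) = g * (a0 * z ^ j) * g⁻¹ := by group
          _ = g * (y ^ j * a0 * (y ^ j)⁻¹) * g⁻¹ := by rw [h2]
          _ = g * y ^ j * a0 * (g * y ^ j)⁻¹ := by group
      have hnM : n ∉ M := by
        intro h
        apply hgM
        have : g = n * (y ^ j)⁻¹ := by rw [hn]; group
        rw [this]
        exact M.mul_mem h (M.inv_mem (M.pow_mem hyM j))
      have hnN : n ∈ normalizer (Pg : Set G) :=
        (normalizer (Pg : Set G)).mul_mem hgN ((normalizer (Pg : Set G)).pow_mem hyN j)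
      have hnP : MulAut.conj n • Pg = Pg := smul_eq_of_mem_normalizer hnN
      have hAn : A ≤ MulAut.conj n • M := by
        calc A ≤ Pg := hAP
          _ = MulAut.conj n • Pg := hnP.symm
          _ ≤ MulAut.conj n • M := conj_smul_le_conj_smul hPgM
      have hI : K ⊓ MulAut.conj n • M = ⊥ := lemmaI_smul hG M hM p hp A hA hCA n hnM hAn
      have hcen : centralizer ({a * b ^ j} : Set G) ≤ MulAut.conj n • M := by
        intro x hx
        rw [mem_conj_smul]
        apply hE.cent0_le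
        apply centralizer_singleton_le_of_card_prime A0 hE.card0 ha0 ha01
        rw [mem_centralizer_iff]
        intro t ht
        rw [Set.mem_singleton_iff] at ht
        rw [ht]
        have hx' : (a * b ^ j) * x = x * (a * b ^ j) := mem_centralizer_iff.mp hx _ rfl
        rw [hc] at hx'
        calc a0 * (n⁻¹ * x * n) = n⁻¹ * ((n * a0 * n⁻¹) * x) * n := by group
          _ = n⁻¹ * (x * (n * a0 * n⁻¹)) * n := by rw [hx']
          _ = n⁻¹ * x * n * a0 := by group
      calc K ⊓ centralizer ({a * b ^ j} : Set G) ≤ K ⊓ MulAut.conj n • M :=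
            inf_le_inf_left _ hcen
        _ = ⊥ := hI
        _ ≤ _ := bot_le
  have hKZ : K ≤ centralizer (Z : Set G) :=
    hKb.trans (centralizer_singleton_le_of_card_prime Z hZcard hbZ hb1)
  -- the proper subgroup `H = C_G(b)`
  have : IsSimpleGroup G := hG.2.1
  have hH : centralizer ({b} : Set G) ≠ ⊤ :=
    Cfsg.Agent.Helper54.centralizer_singleton_ne_top hG.2.2.1 b hb1
  have hAH : A ≤ centralizer ({b} : Set G) := by
    intro a' ha'
    rw [mem_centralizer_iff]
    intro t ht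
    rw [Set.mem_singleton_iff] at ht
    rw [ht]
    exact (mem_omegaCenter.mp hbZ).2.1 a' (hAP ha')
  have hK2H : MulAut.conj g • K ≤ centralizer ({b} : Set G) := by
    intro x hx
    rw [mem_conj_smul] at hx
    have h1 := mem_centralizer_iff.mp (hKZ hx) z hzZ
    rw [mem_centralizer_iff]
    intro t ht
    rw [Set.mem_singleton_iff] at ht
    rw [ht]
    show g * z * g⁻¹ * x = x * (g * z * g⁻¹)
    calc g * z * g⁻¹ * x = g * (z * (g⁻¹ * x * g)) * g⁻¹ := by group
      _ = g * ((g⁻¹ * x * g) * z) * g⁻¹ := by rw [h1]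
      _ = x * (g * z * g⁻¹) := by group
  have hAg : A ≤ MulAut.conj g • M := by
    calc A ≤ Pg := hAP
      _ = MulAut.conj g • Pg := hgP.symm
      _ ≤ MulAut.conj g • M := conj_smul_le_conj_smul hPgM
  -- a prime divisor of `|K|`
  have hK1 : K ≠ ⊥ := sigmaCore_ne_bot hG hM
  have hcardK : Nat.card K ≠ 1 := fun h => hK1 (Subgroup.card_eq_one.mp h)
  obtain ⟨q, hq, hqK⟩ := Nat.exists_prime_and_dvd hcardK
  have : Fact q.Prime := ⟨hq⟩
  have h₁ : q ∣ Nat.card (centralizer ({b} : Set G) ⊓ K : Subgroup G) := by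
    rw [inf_eq_right.mpr hKb]; exact hqK
  have h₂ : q ∣ Nat.card (centralizer ({b} : Set G) ⊓ MulAut.conj g • K : Subgroup G) := by
    rw [inf_eq_right.mpr hK2H, card_conj_smul]; exact hqK
  exact hgM (key_dvd hG M hM p hp A hA hCA g hAg _ hH hAH q h₁ h₂)

/-- **B-G 11.5/11.6** (all but commutativity of `P`): under Hypothesis 11.1, for a Sylow
`p`-subgroup `P` of `M` containing `A`: `A ≤ Z(P)`, `Ω₁(P) = A`, and `N_G(P)` is not in `M`. -/
theorem omega_eq (hG : Cfsg.IsMinSimpleOddOrder G) {M A A0 : Subgroup G} {p : ℕ}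
    (hE : Exc M p A A0) (P : Sylow p M) (hAP : A ≤ (P : Subgroup M).map M.subtype) :
    (∀ a ∈ A, ∀ x ∈ (P : Subgroup M).map M.subtype, a * x = x * a) ∧
    (∀ x ∈ (P : Subgroup M).map M.subtype, x ^ p = 1 ↔ x ∈ A) ∧
    ¬ normalizer ((((P : Subgroup M).map M.subtype : Subgroup G)) : Set G) ≤ M := by
  have hpp : Fact p.Prime := hE.fact
  have hcen := le_center hG hE P hAP
  have hp : p ∈ Cfsg.tau2 M := exc_tau2 hG hE
  refine ⟨hcen, ?_, ?_⟩
  · intro x hx
    have hxc : x ∈ centralizer (A : Set G) := by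
      rw [mem_centralizer_iff]
      intro a ha
      exact hcen a ha x hx
    exact mem_of_centralizer_pow hG M hE.coatom p hp A hE.hA x hxc
  · have hdvd : p ∣ Nat.card M := by
      have h1 : p ∣ Nat.card A := by rw [hE.card]; exact dvd_pow_self p (by norm_num)
      exact h1.trans (Subgroup.card_dvd_of_le hE.le)
    exact not_normalizer_le_of_not_mem_sigma (isSylIn_of_sylow M P) hdvd hE.not_sigma

omit [Finite G] in
/-- a Sylow `p`-subgroup of `M` containing a given `p`-subgroup of `M`. -/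
theorem exists_sylow_ge {M A : Subgroup G} {p : ℕ} [Fact p.Prime] (hA : IsPGroup p A)
    (hAM : A ≤ M) : ∃ P : Sylow p M, A ≤ (P : Subgroup M).map M.subtype := by
  have h1 : IsPGroup p (A.subgroupOf M) :=
    hA.comap_of_injective M.subtype (Subgroup.subtype_injective M)
  obtain ⟨P, hP⟩ := h1.exists_le_sylow
  refine ⟨P, ?_⟩
  intro a ha
  exact ⟨⟨a, hAM ha⟩, hP (Subgroup.mem_subgroupOf.mpr ha), rfl⟩

/-- `N_G(A)` is not contained in `M` (B-G 11.6, `(b')` of the sec. 11 interface). -/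
theorem normalizer_not_le (hG : Cfsg.IsMinSimpleOddOrder G) {M A A0 : Subgroup G} {p : ℕ}
    (hE : Exc M p A A0) : ¬ normalizer (A : Set G) ≤ M := by
  have hpp : Fact p.Prime := hE.fact
  obtain ⟨P, hAP⟩ := exists_sylow_ge (isElementaryAbelian_isPGroup hE.elem) hE.le
  obtain ⟨-, hom, hN⟩ := omega_eq hG hE P hAP
  intro h
  apply hN
  refine le_trans ?_ h
  -- `N_G(P) ≤ N_G(A)` as `A = Ω₁(P)`
  have key : ∀ g ∈ normalizer ((((P : Subgroup M).map M.subtype : Subgroup G)) : Set G),
      ∀ a ∈ A, g * a * g⁻¹ ∈ A := by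
    intro g hg a ha
    have h1 : g * a * g⁻¹ ∈ (P : Subgroup M).map M.subtype :=
      (mem_normalizer_iff.mp hg a).1 (hAP ha)
    apply (hom _ h1).1
    rw [conj_pow, hE.elem.2 a ha]; group
  intro g hg
  rw [mem_normalizer_iff]
  intro a
  constructor
  · exact key g hg a
  · intro h2
    have := key g⁻¹ (inv_mem hg) _ h2
    have e : g⁻¹ * (g * a * g⁻¹) * g⁻¹⁻¹ = a := by group
    rwa [e] at this


end Cfsg.Agent.Helper65.BG11b
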