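import Mathlib
import Cfsg.Agent.Lib.Helper7.M11LADefs

/-!
# M11LA piece (K13) (helper7 server, S0435): a simple group of order 7920 has 1584 elements of order 5.
-/

set_option autoImplicit false

namespace Cfsg.Agent.Helper65.M11LA

open Subgroup Cfsg.Agent.Helper7.M11LA

variable {G : Type*} [Group G] [Finite G]

theorem h65_card_sylow5 (hord : Nat.card G = 7920) (P : Sylow 5 G) :
    Nat.card (P : Subgroup G) = 5 := by
  have : Fact (Nat.Prime 5) := ⟨by norm_num⟩
  obtain ⟨k, hk⟩ := IsPGroup.exists_card_eq P.2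
  have hdvd : Nat.card (P : Subgroup G) ∣ 7920 :=
    hord ▸ Subgroup.card_subgroup_dvd_card (P : Subgroup G)
  have h5 : 5 ∣ Nat.card (P : Subgroup G) := P.dvd_card_of_dvd_card (by rw [hord]; norm_num)
  rw [hk] at hdvd h5 ⊢
  rcases k with _ | _ | k
  · norm_num at h5
  · norm_num
  · exfalso
    have h25 : 25 ∣ 7920 := dvd_trans ⟨5 ^ k, by ring⟩ hdvd
    norm_num at h25

theorem h65_card_sylow5_set (F : Facts G) : Nat.card (Sylow 5 G) = 396 := by
  have : Fact (Nat.Prime 5) := ⟨by norm_num⟩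
  obtain ⟨P⟩ : Nonempty (Sylow 5 G) := inferInstance
  have h1 := Sylow.card_eq_index_normalizer P
  have h2 := Subgroup.index_mul_card (normalizer ((P : Subgroup G) : Set G))
  rw [F.np P, F.card] at h2
  have h3 : (normalizer ((P : Subgroup G) : Set G)).index = 396 := by omega
  rw [h1]; exact h3

theorem h65_orderOf_of_mem (hord : Nat.card G = 7920) (Q : Sylow 5 G) (y : G) (hy : y ≠ 1)
    (hQ : y ∈ Q) : orderOf y = 5 := by
  have hdvd : orderOf y ∣ 5 := by
    have := orderOf_dvd_natCard (⟨y, hQ⟩ : (Q : Subgroup G))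
    rw [h65_card_sylow5 hord Q] at this
    rwa [Subgroup.orderOf_mk] at this
  rcases (Nat.dvd_prime (by norm_num : Nat.Prime 5)).mp hdvd with h | h
  · exact absurd (orderOf_eq_one_iff.mp h) hy
  · exact h

theorem h65_eq_zpowers (hord : Nat.card G = 7920) (Q : Sylow 5 G) (y : G) (hy : y ≠ 1)
    (hQ : y ∈ Q) : (Q : Subgroup G) = zpowers y := by
  symm
  apply Subgroup.eq_of_le_of_card_ge (zpowers_le.mpr hQ)
  rw [h65_card_sylow5 hord Q, Nat.card_zpowers, h65_orderOf_of_mem hord Q y hy hQ]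

theorem h65_mem_unique (hord : Nat.card G = 7920) (P P' : Sylow 5 G) (y : G) (hy : y ≠ 1)
    (h1 : y ∈ P) (h2 : y ∈ P') : P = P' :=
  Sylow.ext ((h65_eq_zpowers hord P y hy h1).trans (h65_eq_zpowers hord P' y hy h2).symm)

omit [Finite G] in
theorem h65_exists_sylow5 (y : G) (hy : orderOf y = 5) : ∃ P : Sylow 5 G, y ∈ P := by
  have : Fact (Nat.Prime 5) := ⟨by norm_num⟩
  have hp : IsPGroup 5 (zpowers y) := by
    apply IsPGroup.of_card (n := 1)
    rw [Nat.card_zpowers, hy]; norm_num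
  obtain ⟨P, hP⟩ := hp.exists_le_sylow
  exact ⟨P, hP (mem_zpowers y)⟩

/-- (K13) There are `396 · 4` elements of order 5 (`n₅ = 7920/20`, Sylow 5-subgroups have order 5 and meet
trivially). -/
theorem card_orderOf_five (F : Facts G) : Nat.card {y : G // orderOf y = 5} = 1584 := by
  classical
  have : Fact (Nat.Prime 5) := ⟨by norm_num⟩
  haveI : Fintype (Sylow 5 G) := Fintype.ofFinite _
  have hord := F.card
  let f : (Σ P : Sylow 5 G, {y : G // y ∈ P ∧ y ≠ 1}) → {y : G // orderOf y = 5} :=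
    fun x => ⟨x.2.1, h65_orderOf_of_mem hord x.1 x.2.1 x.2.2.2 x.2.2.1⟩
  have hf : Function.Bijective f := by
    constructor
    · rintro ⟨P, y, hyP, hy1⟩ ⟨P', y', hyP', hy1'⟩ h
      have hyy : y = y' := congrArg Subtype.val h
      subst hyy
      have hPP : P = P' := h65_mem_unique hord P P' y hy1 hyP hyP'
      subst hPP
      rfl
    · rintro ⟨y, hy⟩
      obtain ⟨P, hP⟩ := h65_exists_sylow5 y hy
      have hy1 : y ≠ 1 := by
        rintro rfl
        rw [orderOf_one] at hy; norm_num at hy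
      exact ⟨⟨P, y, hP, hy1⟩, rfl⟩
  rw [← Nat.card_congr (Equiv.ofBijective f hf), Nat.card_sigma]
  have h4 : ∀ P : Sylow 5 G, Nat.card {y : G // y ∈ P ∧ y ≠ 1} = 4 := by
    intro P
    have h1 : Nat.card {y : G // y ∈ P ∧ y ≠ 1} = (((P : Subgroup G) : Set G) \ {1}).ncard := by
      rw [← Nat.card_coe_set_eq]
      rfl
    rw [h1, Set.ncard_sdiff_singleton_of_mem (Subgroup.one_mem _)]
    have h2 : (((P : Subgroup G) : Set G)).ncard = 5 := by
      rw [← Nat.card_coe_set_eq]
      exact h65_card_sylow5 hord P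
    rw [h2]
  simp_rw [h4]
  rw [Finset.sum_const, Finset.card_univ, ← Nat.card_eq_fintype_card, h65_card_sylow5_set F]
  rfl

end Cfsg.Agent.Helper65.M11LA
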