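import Mathlib
import Cfsg.Agent.Lib.Helper7.M11LADefs
import Cfsg.Agent.Lib.Helper65.M11LAK13

/-!
# M11LA piece (K14) (helper7 server, S0435): in Case II (an involution commutes with an element of
order 5) a simple group of order 7920 has 1584 elements of order 10.
-/

set_option autoImplicit false

namespace Cfsg.Agent.Helper65.M11LA

open Subgroup Cfsg.Agent.Helper7.M11LA
open scoped Pointwise

variable {G : Type*} [Group G] [Finite G]

omit [Finite G] in
theorem h65_centralizer_zpowers (y : G) :
    centralizer ((zpowers y : Subgroup G) : Set G) = centralizer ({y} : Set G) := by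
  ext g
  rw [mem_centralizer_iff, mem_centralizer_iff]
  constructor
  · intro h x hx
    rw [Set.mem_singleton_iff] at hx
    subst hx
    exact h x (mem_zpowers x)
  · intro h x hx
    obtain ⟨k, rfl⟩ := mem_zpowers_iff.mp hx
    have hc : Commute y g := h y (Set.mem_singleton y)
    exact (hc.zpow_left k).eq

theorem h65_centralizer_eq (hord : Nat.card G = 7920) (P : Sylow 5 G) (y : G) (hy1 : y ≠ 1)
    (hyP : y ∈ P) :
    centralizer ((P : Subgroup G) : Set G) = centralizer ({y} : Set G) := by
  rw [h65_eq_zpowers hord P y hy1 hyP]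
  exact h65_centralizer_zpowers y

omit [Finite G] in
theorem h65_ne_one_of_orderOf {y : G} {n : ℕ} (hy : orderOf y = n) (hn : n ≠ 1) : y ≠ 1 := by
  rintro rfl
  rw [orderOf_one] at hy
  exact hn hy.symm

/-- first part of (K10): `|C(y)| = 10`. -/
theorem h65_card_centralizer_five (F : Facts G) (z y : G) (hz : orderOf z = 2) (hy : orderOf y = 5)
    (hzy : Commute z y) : Nat.card (centralizer ({y} : Set G)) = 10 := by
  have : Fact (Nat.Prime 5) := ⟨by norm_num⟩
  have hord := F.card
  have hy1 : y ≠ 1 := h65_ne_one_of_orderOf hy (by norm_num)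
  obtain ⟨P, hP⟩ := h65_exists_sylow5 y hy
  have hC := h65_centralizer_eq hord P y hy1 hP
  have hle : centralizer ((P : Subgroup G) : Set G) ≤ normalizer ((P : Subgroup G) : Set G) :=
    Subgroup.centralizer_le_normalizer _
  have hdvd20 : Nat.card (centralizer ({y} : Set G)) ∣ 20 := by
    rw [← hC, ← F.np P]; exact Subgroup.card_dvd_of_le hle
  have h2 : 2 ∣ Nat.card (centralizer ({y} : Set G)) := by
    have hzmem : z ∈ centralizer ({y} : Set G) := by
      rw [mem_centralizer_iff]
      intro x hx
      rw [Set.mem_singleton_iff] at hx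
      subst hx
      exact hzy.eq.symm
    have := orderOf_dvd_natCard (⟨z, hzmem⟩ : centralizer ({y} : Set G))
    rwa [Subgroup.orderOf_mk, hz] at this
  have h5 : 5 ∣ Nat.card (centralizer ({y} : Set G)) := by
    have hymem : y ∈ centralizer ({y} : Set G) := by
      rw [mem_centralizer_iff]
      intro x hx
      rw [Set.mem_singleton_iff] at hx
      subst hx
      rfl
    have := orderOf_dvd_natCard (⟨y, hymem⟩ : centralizer ({y} : Set G))
    rwa [Subgroup.orderOf_mk, hy] at this
  have h10 : 10 ∣ Nat.card (centralizer ({y} : Set G)) :=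
    Nat.Coprime.mul_dvd_of_dvd_of_dvd (by norm_num : Nat.Coprime 2 5) h2 h5
  have hcases : Nat.card (centralizer ({y} : Set G)) = 10 ∨
      Nat.card (centralizer ({y} : Set G)) = 20 := by
    have hle20 : Nat.card (centralizer ({y} : Set G)) ≤ 20 := Nat.le_of_dvd (by norm_num) hdvd20
    obtain ⟨k, hk⟩ := h10
    have hpos : 0 < Nat.card (centralizer ({y} : Set G)) := Nat.card_pos
    omega
  rcases hcases with h | h
  · exact h
  · exfalso
    have heq : normalizer ((P : Subgroup G) : Set G) ≤ centralizer ((P : Subgroup G) : Set G) := by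
      have := Subgroup.eq_of_le_of_card_ge hle (by rw [hC, h, F.np P])
      rw [this]
    have hcompl := MonoidHom.ker_transferSylow_isComplement' P heq
    have hsimple := F.simple
    have hcard := hcompl.card_mul_card
    rw [h65_card_sylow5 hord P, hord] at hcard
    rcases hsimple.eq_bot_or_eq_top_of_normal _ (MonoidHom.normal_ker (MonoidHom.transferSylow P heq)) with hk | hk
    · rw [hk, Subgroup.card_bot] at hcard
      omega
    · rw [hk, Subgroup.card_top, hord] at hcard
      omega

theorem h65_exists_pair (z y : G) (hz : orderOf z = 2) (hy : orderOf y = 5)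
    (hzy : Commute z y) (P' : Sylow 5 G) :
    ∃ y' z' : G, y' ∈ P' ∧ orderOf y' = 5 ∧ orderOf z' = 2 ∧ Commute z' y' := by
  have : Fact (Nat.Prime 5) := ⟨by norm_num⟩
  obtain ⟨P, hP⟩ := h65_exists_sylow5 y hy
  obtain ⟨c, hc⟩ := MulAction.exists_smul_eq G P P'
  refine ⟨c * y * c⁻¹, c * z * c⁻¹, ?_, ?_, ?_, ?_⟩
  · rw [← hc]
    have h1 : MulAut.conj c • y ∈ MulAut.conj c • (P : Subgroup G) :=
      Subgroup.smul_mem_pointwise_smul _ _ _ hP
    exact h1
  · rw [← hy]
    exact orderOf_injective (MulAut.conj c).toMonoidHom (MulAut.conj c).injective y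
  · rw [← hz]
    exact orderOf_injective (MulAut.conj c).toMonoidHom (MulAut.conj c).injective z
  · have := hzy.eq
    show c * z * c⁻¹ * (c * y * c⁻¹) = c * y * c⁻¹ * (c * z * c⁻¹)
    calc c * z * c⁻¹ * (c * y * c⁻¹) = c * (z * y) * c⁻¹ := by group
      _ = c * (y * z) * c⁻¹ := by rw [this]
      _ = c * y * c⁻¹ * (c * z * c⁻¹) := by group

theorem h65_fiber_card (F : Facts G) (z y : G) (hz : orderOf z = 2) (hy : orderOf y = 5)
    (hzy : Commute z y) (P' : Sylow 5 G) :
    Nat.card {g : G // g ∈ centralizer ((P' : Subgroup G) : Set G) ∧ orderOf g = 10} = 4 := by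
  classical
  have hord := F.card
  obtain ⟨y', z', hy'P, hy', hz', hc'⟩ := h65_exists_pair z y hz hy hzy P'
  have hy'1 : y' ≠ 1 := h65_ne_one_of_orderOf hy' (by norm_num)
  have hC := h65_centralizer_eq hord P' y' hy'1 hy'P
  have hcard : Nat.card (centralizer ((P' : Subgroup G) : Set G)) = 10 := by
    rw [hC]; exact h65_card_centralizer_five F z' y' hz' hy' hc'
  -- element of order 10
  have hmem : z' * y' ∈ centralizer ((P' : Subgroup G) : Set G) := by
    rw [hC, mem_centralizer_iff]
    intro x hx
    rw [Set.mem_singleton_iff] at hx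
    subst hx
    have := hc'.eq
    calc x * (z' * x) = (x * z') * x := by group
      _ = (z' * x) * x := by rw [← this]
  have h10 : orderOf (z' * y') = 10 := by
    have := hc'.orderOf_mul_eq_mul_orderOf_of_coprime (by rw [hz', hy']; norm_num)
    rw [this, hz', hy']
  let C := centralizer ((P' : Subgroup G) : Set G)
  have hcyc : IsCyclic C := by
    apply isCyclic_of_orderOf_eq_card (⟨z' * y', hmem⟩ : C)
    rw [Subgroup.orderOf_mk, h10, hcard]
  have : Fintype C := Fintype.ofFinite _
  have htot := IsCyclic.card_orderOf_eq_totient (α := C) (d := 10)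
    (by rw [← Nat.card_eq_fintype_card, hcard])
  have hphi : Nat.totient 10 = 4 := by decide
  rw [hphi] at htot
  have e : {g : G // g ∈ centralizer ((P' : Subgroup G) : Set G) ∧ orderOf g = 10} ≃
      {a : C // orderOf a = 10} :=
    { toFun := fun g => ⟨⟨g.1, g.2.1⟩, by rw [Subgroup.orderOf_mk]; exact g.2.2⟩
      invFun := fun a => ⟨a.1.1, a.1.2, (Subgroup.orderOf_coe a.1).trans a.2⟩
      left_inv := fun g => rfl
      right_inv := fun a => rfl }
  rw [Nat.card_congr e, Nat.card_eq_fintype_card, Fintype.card_subtype]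
  exact htot

omit [Finite G] in
theorem h65_sq_mem (P' : Sylow 5 G) (g : G)
    (hg : g ∈ centralizer ((P' : Subgroup G) : Set G)) (h5 : orderOf (g ^ 2) = 5) :
    g ^ 2 ∈ P' := by
  have : Fact (Nat.Prime 5) := ⟨by norm_num⟩
  have hK : IsPGroup 5 (zpowers (g ^ 2)) := by
    apply IsPGroup.of_card (n := 1)
    rw [Nat.card_zpowers, h5]; norm_num
  have hle : zpowers (g ^ 2) ≤ normalizer ((P' : Subgroup G) : Set G) := by
    rw [zpowers_le]
    exact Subgroup.centralizer_le_normalizer _ (Subgroup.pow_mem _ hg 2)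
  have hsup : IsPGroup 5 (zpowers (g ^ 2) ⊔ (P' : Subgroup G) : Subgroup G) :=
    hK.to_sup_of_normal_right' P'.isPGroup' hle
  have := P'.is_maximal' hsup le_sup_right
  have h2 : zpowers (g ^ 2) ≤ (P' : Subgroup G) := by
    rw [← this]; exact le_sup_left
  exact h2 (mem_zpowers _)

/-- (K14) In Case II there are also `396 · 4` elements of order 10: every Sylow 5-subgroup `P'` has `C(P')` cyclic
of order 10 (conjugate to `C(⟨y⟩)`, (K10)), an element `g` of order 10 lies in `C(⟨g²⟩)`, and a cyclic group of order 10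
has 4 generators. -/
theorem card_orderOf_ten (F : Facts G) (z y : G) (hz : orderOf z = 2) (hy : orderOf y = 5)
    (hzy : Commute z y) : Nat.card {g : G // orderOf g = 10} = 1584 := by
  classical
  have : Fact (Nat.Prime 5) := ⟨by norm_num⟩
  have : Fintype (Sylow 5 G) := Fintype.ofFinite _
  have hord := F.card
  have hsq : ∀ g : G, orderOf g = 10 → orderOf (g ^ 2) = 5 := by
    intro g hg
    rw [orderOf_pow_of_dvd (by norm_num) (by rw [hg]; norm_num), hg]
  let f : (Σ P : Sylow 5 G, {g : G // g ∈ centralizer ((P : Subgroup G) : Set G) ∧ orderOf g = 10}) →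
      {g : G // orderOf g = 10} := fun x => ⟨x.2.1, x.2.2.2⟩
  have hf : Function.Bijective f := by
    constructor
    · rintro ⟨P, g, hgP, hg⟩ ⟨P', g', hgP', hg'⟩ h
      have hgg : g = g' := congrArg Subtype.val h
      subst hgg
      have h5 := hsq g hg
      have hne : g ^ 2 ≠ 1 := h65_ne_one_of_orderOf h5 (by norm_num)
      have hPP : P = P' := h65_mem_unique hord P P' (g ^ 2) hne
        (h65_sq_mem P g hgP h5) (h65_sq_mem P' g hgP' h5)
      subst hPP
      rfl
    · rintro ⟨g, hg⟩
      have h5 := hsq g hg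
      have hne : g ^ 2 ≠ 1 := h65_ne_one_of_orderOf h5 (by norm_num)
      obtain ⟨P, hP⟩ := h65_exists_sylow5 (g ^ 2) h5
      have hgC : g ∈ centralizer ((P : Subgroup G) : Set G) := by
        rw [h65_centralizer_eq hord P (g ^ 2) hne hP, mem_centralizer_iff]
        intro x hx
        rw [Set.mem_singleton_iff] at hx
        subst hx
        rw [← pow_succ, ← pow_succ']
      exact ⟨⟨P, g, hgC, hg⟩, rfl⟩
  rw [← Nat.card_congr (Equiv.ofBijective f hf), Nat.card_sigma]
  simp_rw [h65_fiber_card F z y hz hy hzy]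
  rw [Finset.sum_const, Finset.card_univ, ← Nat.card_eq_fintype_card, h65_card_sylow5_set F]
  rfl

end Cfsg.Agent.Helper65.M11LA
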