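import Mathlib
import Cfsg.Agent.S1017
import Cfsg.Agent.Lib.Helper25.N5400Defs

/-!
# N5400 (FREE): `P` acts freely on the Sylow 5-subgroups meeting it trivially (helper25 sub-server, S0983)
-/

set_option autoImplicit false

namespace Cfsg.Agent.Helper65.N5400

open Cfsg MulAction Cfsg.Agent.Helper25.N5400

universe u

/-- A free action of a finite group `H` on a finite type: `|H|` divides the cardinality. -/
theorem h65_card_dvd_of_free {H β : Type*} [Group H] [Finite H] [MulAction H β] [Finite β]
    (hfree : ∀ b : β, MulAction.stabilizer H b = ⊥) : Nat.card H ∣ Nat.card β := by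
  classical
  have e := MulAction.selfEquivSigmaOrbitsQuotientStabilizer H β
  rw [Nat.card_congr e]
  have := Fintype.ofFinite (Quotient (MulAction.orbitRel H β))
  rw [Nat.card_sigma]
  apply Finset.dvd_sum
  intro ω _
  rw [hfree ω.out]
  have : Nat.card (H ⧸ (⊥ : Subgroup H)) = (⊥ : Subgroup H).index := rfl
  rw [this, Subgroup.index_bot]

section NoSimple

variable {G : Type u} [Group G] [Finite G]

/-- (FREE) -/
theorem free_orbits (P : Sylow 5 G) (hP : Nat.card (P : Subgroup G) = 25) :
    25 ∣ Nat.card {R : Sylow 5 G // (P : Subgroup G) ⊓ (R : Subgroup G) = ⊥} := by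
  have : Fact (Nat.Prime 5) := ⟨by norm_num⟩
  let S : SubMulAction ↥(P : Subgroup G) (Sylow 5 G) :=
    { carrier := {R | (P : Subgroup G) ⊓ (R : Subgroup G) = ⊥}
      smul_mem' := by
        intro g R hR
        change (P : Subgroup G) ⊓ (R : Subgroup G) = ⊥ at hR
        change (P : Subgroup G) ⊓ (((g : G) • R : Sylow 5 G) : Subgroup G) = ⊥
        rw [eq_bot_iff]
        intro x hx
        obtain ⟨hxP, hxR⟩ := Subgroup.mem_inf.1 hx
        rw [Cfsg.Agent.S1017.mem_smul_sylow_iff] at hxR
        have hgP : (g : G) ∈ (P : Subgroup G) := g.2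
        have hxP' : x ∈ (P : Subgroup G) := hxP
        have h0 : (g : G)⁻¹ * x * (g : G) ∈ (P : Subgroup G) :=
          (P : Subgroup G).mul_mem ((P : Subgroup G).mul_mem ((P : Subgroup G).inv_mem hgP) hxP') hgP
        have h1 : (g : G)⁻¹ * x * (g : G) ∈ (P : Subgroup G) ⊓ (R : Subgroup G) :=
          Subgroup.mem_inf.2 ⟨h0, hxR⟩
        rw [hR, Subgroup.mem_bot] at h1
        rw [Subgroup.mem_bot]
        have : x = (g : G) * ((g : G)⁻¹ * x * (g : G)) * (g : G)⁻¹ := by group
        rw [this, h1]; group }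
  have hfree : ∀ b : S, MulAction.stabilizer ↥(P : Subgroup G) b = ⊥ := by
    rintro ⟨R, hR⟩
    change (P : Subgroup G) ⊓ (R : Subgroup G) = ⊥ at hR
    rw [eq_bot_iff]
    intro g hg
    rw [MulAction.mem_stabilizer_iff] at hg
    have hg' : (g : G) • R = R := by
      have := congrArg Subtype.val hg
      exact this
    have hgN : (g : G) ∈ Subgroup.normalizer ((R : Subgroup G) : Set G) :=
      Sylow.smul_eq_iff_mem_normalizer.mp hg'
    have hmem : (g : G) ∈ (P : Subgroup G) ⊓ Subgroup.normalizer ((R : Subgroup G) : Set G) :=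
      ⟨g.2, hgN⟩
    have hinf : (P : Subgroup G) ⊓ Subgroup.normalizer ((R : Subgroup G) : Set G) =
        (P : Subgroup G) ⊓ (R : Subgroup G) := P.2.inf_normalizer_sylow R
    rw [hinf, hR, Subgroup.mem_bot] at hmem
    rw [Subgroup.mem_bot]
    exact Subtype.ext hmem
  have h := h65_card_dvd_of_free (H := ↥(P : Subgroup G)) (β := S) hfree
  rw [hP] at h
  have hcard : Nat.card S = Nat.card {R : Sylow 5 G // (P : Subgroup G) ⊓ (R : Subgroup G) = ⊥} :=
    Nat.card_congr (Equiv.subtypeEquivRight (fun R => Iff.rfl))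
  rwa [hcard] at h

end NoSimple

end Cfsg.Agent.Helper65.N5400
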