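import Mathlib
import Cfsg.Agent.Lib.Helper32.N5Defs
import Cfsg.Agent.Lib.Helper49.N5PureDefs

/-!
# N5-A3a piece (MODa) (helper49 sub-server of helper32's N5 server, S1904): the chain `2^i M`.
-/

set_option autoImplicit false

namespace Cfsg.Agent.Helper65.N5

open Cfsg Cfsg.Agent.Helper32.N5 Cfsg.Agent.Helper49.N5
open scoped commutatorElement

universe u

theorem h65_D_zero_mem {M : Type*} [AddCommGroup M] (j : ℕ) : (0 : M) ∈ D M j :=
  ⟨0, (smul_zero _).symm⟩

theorem h65_D_add_mem {M : Type*} [AddCommGroup M] (j : ℕ) {a b : M} (ha : a ∈ D M j)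
    (hb : b ∈ D M j) : a + b ∈ D M j := by
  obtain ⟨a', rfl⟩ := ha
  obtain ⟨b', rfl⟩ := hb
  exact ⟨a' + b', (smul_add _ _ _).symm⟩

theorem h65_D_map_mem {M : Type*} [AddCommGroup M] (s : M ≃+ M) (j : ℕ) {a : M} (ha : a ∈ D M j) :
    s a ∈ D M j := by
  obtain ⟨a', rfl⟩ := ha
  exact ⟨s a', map_nsmul s _ _⟩

/-- an element killed by a power of 2 and nonzero has a multiple of order exactly 2 -/
theorem h65_exists_order_two {M : Type*} [AddCommGroup M] (w : M) (hw : w ≠ 0)
    (h : ∃ n : ℕ, 2 ^ n • w = 0) : ∃ i : ℕ, 2 ^ i • w ≠ 0 ∧ 2 • (2 ^ i • w) = 0 := by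
  classical
  have hn := Nat.find_spec h
  have hmin := fun m => Nat.find_min h (m := m)
  rcases hfind : Nat.find h with _ | i
  · rw [hfind, pow_zero, one_smul] at hn
    exact absurd hn hw
  · refine ⟨i, ?_, ?_⟩
    · exact hmin i (by rw [hfind]; exact Nat.lt_succ_self i)
    · rw [hfind] at hn
      rw [← mul_smul, ← pow_succ']
      exact hn

/-- (MODa) the module `M`: `2^i M` chain. -/
theorem module_facts {M : Type*} [AddCommGroup M] [Finite M] (s : M ≃+ M) (h3 : ∀ m, s (s (s m)) = m)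
    (hfpf : ∀ m : M, 2 • m = 0 → s m = m → m = 0) (h4 : Nat.card {m : M // 2 • m = 0} = 4)
    (h2 : ∀ m : M, ∃ n : ℕ, 2 ^ n • m = 0) (m₀ : M) (hm₀ : 4 • m₀ ≠ 0) :
    (∀ m, m + s m + s (s m) = 0) ∧ ∃ k : ℕ, 3 ≤ k ∧
      (∀ (j : ℕ) (u : M), j + 1 ≤ k → 2 • u ∈ D M (j + 1) → u ∈ D M j) ∧
      (∀ m ∈ D M k, m = 0) ∧ (∀ m ∈ D M (k - 1), 2 • m = 0) ∧
      (∀ u : M, 2 ^ (k - 1) • u = 0 → u ∈ D M 1) := by
  classical
  -- s-fixed points are trivial
  have hfix0 : ∀ f : M, s f = f → f = 0 := by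
    intro f hf
    by_contra hf0
    obtain ⟨i, hi0, hi2⟩ := h65_exists_order_two f hf0 (h2 f)
    apply hi0
    apply hfpf _ hi2
    rw [map_nsmul, hf]
  have hnorm : ∀ m, m + s m + s (s m) = 0 := by
    intro m
    apply hfix0
    rw [map_add, map_add, h3 m]
    abel
  refine ⟨hnorm, ?_⟩
  -- a uniform exponent
  have : Fintype M := Fintype.ofFinite M
  have hexN : ∃ N : ℕ, ∀ m : M, 2 ^ N • m = 0 := by
    refine ⟨Finset.univ.sup (fun m : M => Nat.find (h2 m)), ?_⟩
    intro m
    have hle : Nat.find (h2 m) ≤ Finset.univ.sup (fun m : M => Nat.find (h2 m)) :=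
      Finset.le_sup (f := fun m : M => Nat.find (h2 m)) (Finset.mem_univ m)
    obtain ⟨d, hd⟩ := Nat.exists_eq_add_of_le hle
    rw [hd, pow_add, mul_comm, mul_smul, Nat.find_spec (h2 m), smul_zero]
  have hk := Nat.find_spec hexN
  have hkmin := fun j => Nat.find_min hexN (m := j)
  set k := Nat.find hexN with hkdef
  have hk3 : 3 ≤ k := by
    by_contra hlt
    push_neg at hlt
    apply hm₀
    obtain ⟨d, hd⟩ := Nat.exists_eq_add_of_le (Nat.lt_succ_iff.mp hlt)
    have : (4 : ℕ) = 2 ^ d * 2 ^ k := by rw [← pow_add, add_comm, ← hd]; norm_num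
    rw [this, mul_smul, hk m₀, smul_zero]
  -- the set of elements of order ≤ 2
  let S : Set M := {m : M | 2 • m = 0}
  have hS4 : S.ncard = 4 := by
    rw [← Nat.card_coe_set_eq]
    exact h4
  -- KEY: M[2] ⊆ 2^j M for j < k
  have hkey : ∀ j : ℕ, j < k → ∀ v₂ : M, 2 • v₂ = 0 → v₂ ∈ D M j := by
    intro j hj v₂ hv₂
    have hne : ¬ ∀ m : M, 2 ^ j • m = 0 := hkmin j hj
    push_neg at hne
    obtain ⟨m, hm⟩ := hne
    obtain ⟨i, hi0, hi2⟩ := h65_exists_order_two (2 ^ j • m) hm (h2 _)
    set v := 2 ^ i • 2 ^ j • m with hvdef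
    have hvD : v ∈ D M j := ⟨2 ^ i • m, by rw [hvdef, smul_comm]⟩
    have hsvD : s v ∈ D M j := h65_D_map_mem s j hvD
    have hsumD : v + s v ∈ D M j := h65_D_add_mem j hvD hsvD
    have hsv2 : 2 • s v = 0 := by rw [← map_nsmul, hi2, map_zero]
    have hsv0 : s v ≠ 0 := by
      intro h0
      apply hi0
      have : s v = s 0 := by rw [h0, map_zero]
      exact s.injective this
    have hsvv : s v ≠ v := fun h => hi0 (hfpf v hi2 h)
    have hnegv : -v = v := by
      have : v + v = 0 := by rw [← two_nsmul]; exact hi2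
      exact neg_eq_of_add_eq_zero_left this
    have hsum0 : v + s v ≠ 0 := by
      intro h0
      apply hsvv
      have : s v = -v := (neg_eq_of_add_eq_zero_right h0).symm
      rw [this, hnegv]
    -- T = {0, v, s v, v + s v}
    let T : Set M := {0, v, s v, v + s v}
    have hTS : T ⊆ S := by
      intro x hx
      rcases hx with rfl | rfl | rfl | rfl
      · exact smul_zero _
      · exact hi2
      · exact hsv2
      · show 2 • (v + s v) = 0
        rw [smul_add, hi2, hsv2, add_zero]
    have hT4 : T.ncard = 4 := by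
      have h1 : ({v + s v} : Set M).ncard = 1 := Set.ncard_singleton _
      have h2' : ({s v, v + s v} : Set M).ncard = 2 := by
        rw [Set.ncard_insert_of_notMem, h1]
        rw [Set.mem_singleton_iff]
        intro h
        apply hi0
        have : v = 0 := by
          have h' : 0 + s v = v + s v := by rw [zero_add]; exact h
          exact (add_right_cancel h').symm
        exact this
      have h3' : ({v, s v, v + s v} : Set M).ncard = 3 := by
        rw [Set.ncard_insert_of_notMem, h2']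
        rw [Set.mem_insert_iff, Set.mem_singleton_iff]
        rintro (h | h)
        · exact hsvv h.symm
        · apply hsv0
          have h' : v + 0 = v + s v := by rw [add_zero]; exact h
          exact (add_left_cancel h').symm
      show (insert 0 ({v, s v, v + s v} : Set M)).ncard = 4
      rw [Set.ncard_insert_of_notMem, h3']
      rw [Set.mem_insert_iff, Set.mem_insert_iff, Set.mem_singleton_iff]
      rintro (h | h | h)
      · exact hi0 h.symm
      · exact hsv0 h.symm
      · exact hsum0 h.symm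
    have hTeq : T = S := Set.eq_of_subset_of_ncard_le hTS (by rw [hS4, hT4])
    have hv₂T : v₂ ∈ T := by rw [hTeq]; exact hv₂
    rcases hv₂T with rfl | rfl | rfl | rfl
    · exact h65_D_zero_mem j
    · exact hvD
    · exact hsvD
    · exact hsumD
  -- (div)
  have hdiv : ∀ (j : ℕ) (u : M), j + 1 ≤ k → 2 • u ∈ D M (j + 1) → u ∈ D M j := by
    intro j u hj hu
    obtain ⟨w, hw⟩ := hu
    have h0 : 2 • (u - 2 ^ j • w) = 0 := by
      rw [smul_sub, hw, ← mul_smul, ← pow_succ', sub_self]
    have h1 := hkey j (by omega) _ h0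
    have h2' : (2 : ℕ) ^ j • w ∈ D M j := ⟨w, rfl⟩
    have := h65_D_add_mem j h1 h2'
    rwa [sub_add_cancel] at this
  have hlast : ∀ m ∈ D M k, m = 0 := by
    rintro m ⟨m', rfl⟩
    exact hk m'
  have hlast1 : ∀ m ∈ D M (k - 1), 2 • m = 0 := by
    rintro m ⟨m', rfl⟩
    rw [← mul_smul, ← pow_succ', show k - 1 + 1 = k by omega]
    exact hk m'
  -- (div1)
  have hind : ∀ j : ℕ, j ≤ k → ∀ u : M, 2 ^ j • u = 0 → u ∈ D M (k - j) := by
    intro j
    induction j with
    | zero =>
      intro _ u hu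
      rw [pow_zero, one_smul] at hu
      rw [hu]
      exact h65_D_zero_mem _
    | succ j ih =>
      intro hj u hu
      have h0 : 2 ^ j • (2 • u) = 0 := by
        rw [← mul_smul, ← pow_succ]; exact hu
      have h1 := ih (by omega) _ h0
      have h2' : k - j = (k - (j + 1)) + 1 := by omega
      rw [h2'] at h1
      exact hdiv _ u (by omega) h1
  refine ⟨k, hk3, hdiv, hlast, hlast1, ?_⟩
  intro u hu
  have := hind (k - 1) (by omega) u hu
  rwa [show k - (k - 1) = 1 by omega] at this

end Cfsg.Agent.Helper65.N5
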