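import Mathlib
import Cfsg.Agent.Lib.Helper32.N5Defs
import Cfsg.Agent.Lib.Helper49.N5PureDefs

/-!
# N5-A3a piece (TR) (helper49 sub-server of helper32's N5 server, S1904): linearisation.
`M := Additive ↥B`, `s := σ|B`, `α x :=` conjugation by `x` on `B`.
-/

set_option autoImplicit false

namespace Cfsg.Agent.Helper65.N5

open Cfsg Cfsg.Agent.Helper32.N5 Cfsg.Agent.Helper49.N5
open scoped commutatorElement

universe u

/-- (TR) translation: `M := Additive ↥B`, `α x` := conjugation by `x` on `B`. -/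
theorem exists_linearization {X : Type u} [Group X] [Finite X]
    (hX : IsPGroup 2 X) (σ : MulAut X) (hσ3 : ∀ x : X, σ (σ (σ x)) = x)
    (V : Subgroup X) (hV : VData V σ)
    (B : Subgroup X) (hBn : B.Normal) (hBσ : ∀ b ∈ B, σ b ∈ B) (hBab : Ab B)
    (hBc : Subgroup.centralizer (B : Set X) = B) (hVB : V ≤ B)
    (hVΩ : ∀ b ∈ B, b ^ 2 = 1 → b ∈ V) (b₀ : X) (hb₀ : b₀ ∈ B) (hb₀4 : b₀ ^ 4 ≠ 1) :
    ∃ (M : Type u) (_ : AddCommGroup M) (_ : Finite M) (s : M ≃+ M) (α : X →* AddMonoid.End M),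
      (∀ m, s (s (s m)) = m) ∧ (∀ m : M, 2 • m = 0 → s m = m → m = 0) ∧
      Nat.card {m : M // 2 • m = 0} = 4 ∧ (∀ m : M, ∃ n : ℕ, 2 ^ n • m = 0) ∧ (∃ m₀ : M, 4 • m₀ ≠ 0) ∧
      (∀ x, α (σ x) = toEnd s * α x * toEnd s.symm) ∧
      (∀ (x : X) (m : M), 2 • m = 0 → α x m = m) ∧ (∀ l : X, α l = 1 ↔ l ∈ B) ∧
      (∀ l : X, (∀ m : M, 2 • (α l m - m) = 0) → ∀ b ∈ B, ⁅b, l⁆ ∈ V) := by
  classical
  letI instC : CommGroup ↥B :=
    { (inferInstance : Group ↥B) with mul_comm := fun a b => Subtype.ext (hBab a a.2 b b.2) }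
  -- σ restricted to B
  let sB : ↥B ≃* ↥B :=
    { toFun := fun b => ⟨σ b.1, hBσ b.1 b.2⟩
      invFun := fun b => ⟨σ (σ b.1), hBσ _ (hBσ b.1 b.2)⟩
      left_inv := fun b => Subtype.ext (hσ3 b.1)
      right_inv := fun b => Subtype.ext (hσ3 b.1)
      map_mul' := fun a b => Subtype.ext (map_mul σ a.1 b.1) }
  let conjB : X → (↥B →* ↥B) := fun x =>
    { toFun := fun b => ⟨x * b.1 * x⁻¹, hBn.conj_mem b.1 b.2 x⟩
      map_one' := Subtype.ext (by simp)
      map_mul' := fun a b => Subtype.ext (by simp [mul_assoc]) }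
  have hconjB : ∀ (x : X) (b : ↥B), ((conjB x b : ↥B) : X) = x * b.1 * x⁻¹ := fun x b => rfl
  let α : X →* AddMonoid.End (Additive ↥B) :=
    { toFun := fun x => MonoidHom.toAdditive (conjB x)
      map_one' := by
        apply AddMonoidHom.ext
        intro m
        obtain ⟨b, rfl⟩ := Additive.ofMul.surjective m
        show Additive.ofMul (conjB 1 b) = Additive.ofMul b
        congr 1
        apply Subtype.ext
        rw [hconjB]
        simp
      map_mul' := fun x y => by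
        apply AddMonoidHom.ext
        intro m
        obtain ⟨b, rfl⟩ := Additive.ofMul.surjective m
        show Additive.ofMul (conjB (x * y) b) = Additive.ofMul (conjB x (conjB y b))
        congr 1
        apply Subtype.ext
        rw [hconjB, hconjB, hconjB]
        simp [mul_assoc] }
  have hα : ∀ (x : X) (b : ↥B), α x (Additive.ofMul b) = Additive.ofMul (conjB x b) := fun x b => rfl
  let s : Additive ↥B ≃+ Additive ↥B := MulEquiv.toAdditive sB
  have hs : ∀ b : ↥B, s (Additive.ofMul b) = Additive.ofMul (sB b) := fun b => rfl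
  have hssymm : ∀ b : ↥B, s.symm (Additive.ofMul b) = Additive.ofMul (sB.symm b) := fun b => rfl
  have hsB : ∀ b : ↥B, ((sB b : ↥B) : X) = σ b.1 := fun b => rfl
  have hsBsymm : ∀ b : ↥B, ((sB.symm b : ↥B) : X) = σ (σ b.1) := fun b => rfl
  -- translation of `n • m = 0`
  have hsmul : ∀ (n : ℕ) (b : ↥B), n • Additive.ofMul b = 0 ↔ b.1 ^ n = 1 := by
    intro n b
    rw [← ofMul_pow, ofMul_eq_zero]
    constructor
    · intro h
      have := congrArg Subtype.val h
      simpa using this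
    · intro h
      apply Subtype.ext
      simpa using h
  refine ⟨Additive ↥B, inferInstance, inferInstance, s, α, ?_, ?_, ?_, ?_, ?_, ?_, ?_, ?_, ?_⟩
  · -- s^3 = 1
    intro m
    obtain ⟨b, rfl⟩ := Additive.ofMul.surjective m
    rw [hs, hs, hs]
    congr 1
    apply Subtype.ext
    rw [hsB, hsB, hsB]
    exact hσ3 b.1
  · -- fixed-point-free on M[2]
    intro m h2m hsm
    obtain ⟨b, rfl⟩ := Additive.ofMul.surjective m
    rw [hsmul] at h2m
    have hbV : b.1 ∈ V := hVΩ b.1 b.2 h2m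
    rw [hs] at hsm
    have hσb : σ b.1 = b.1 := by
      have := congrArg Subtype.val (Additive.ofMul.injective hsm)
      rwa [hsB] at this
    have hb1 : b.1 = 1 := hV.fpf b.1 hbV hσb
    rw [ofMul_eq_zero]
    exact Subtype.ext hb1
  · -- #M[2] = 4
    rw [← hV.card]
    apply Nat.card_congr
    refine
      { toFun := fun m => ⟨(Additive.toMul m.1).1, hVΩ _ (Additive.toMul m.1).2 ?_⟩
        invFun := fun v => ⟨Additive.ofMul ⟨v.1, hVB v.2⟩, ?_⟩
        left_inv := fun m => rfl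
        right_inv := fun v => rfl }
    · have h := m.2
      have h' : 2 • Additive.ofMul (Additive.toMul m.1) = 0 := h
      rwa [hsmul] at h'
    · rw [hsmul]
      exact hV.el v.1 v.2
  · -- 2-power torsion
    intro m
    obtain ⟨b, rfl⟩ := Additive.ofMul.surjective m
    obtain ⟨k, hk⟩ := hX b.1
    exact ⟨k, (hsmul _ b).mpr hk⟩
  · -- element of order ≥ 8
    refine ⟨Additive.ofMul ⟨b₀, hb₀⟩, ?_⟩
    intro h
    rw [hsmul] at h
    exact hb₀4 h
  · -- equivariance
    intro x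
    apply AddMonoidHom.ext
    intro m
    obtain ⟨b, rfl⟩ := Additive.ofMul.surjective m
    show α (σ x) (Additive.ofMul b) = s (α x (s.symm (Additive.ofMul b)))
    rw [hα, hssymm, hα, hs]
    congr 1
    apply Subtype.ext
    rw [hconjB, hsB, hconjB, hsBsymm]
    rw [map_mul, map_mul, map_inv, hσ3]
  · -- trivial on M[2]
    intro x m h2m
    obtain ⟨b, rfl⟩ := Additive.ofMul.surjective m
    rw [hsmul] at h2m
    have hbV : b.1 ∈ V := hVΩ b.1 b.2 h2m
    have hbc : b.1 ∈ Subgroup.center X := hV.cen hbV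
    rw [hα]
    congr 1
    apply Subtype.ext
    rw [hconjB]
    rw [Subgroup.mem_center_iff] at hbc
    rw [hbc x, mul_inv_cancel_right]
  · -- kernel
    intro l
    constructor
    · intro hl
      rw [← hBc, Subgroup.mem_centralizer_iff]
      intro b hb
      have h1 : α l (Additive.ofMul ⟨b, hb⟩) = Additive.ofMul ⟨b, hb⟩ := by rw [hl]; rfl
      rw [hα] at h1
      have h2 := congrArg Subtype.val (Additive.ofMul.injective h1)
      rw [hconjB] at h2
      have h3 : l * b * l⁻¹ = b := h2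
      calc b * l = l * b * l⁻¹ * l := by rw [h3]
        _ = l * b := by group
    · intro hl
      apply AddMonoidHom.ext
      intro m
      obtain ⟨b, rfl⟩ := Additive.ofMul.surjective m
      show α l (Additive.ofMul b) = Additive.ofMul b
      rw [hα]
      congr 1
      apply Subtype.ext
      rw [hconjB, hBab l hl b.1 b.2, mul_inv_cancel_right]
  · -- commutators
    intro l hl b hb
    have h1 := hl (Additive.ofMul ⟨b, hb⟩)
    rw [hα] at h1
    have h2 : Additive.ofMul (conjB l ⟨b, hb⟩) - Additive.ofMul (⟨b, hb⟩ : ↥B)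
        = Additive.ofMul (conjB l ⟨b, hb⟩ * (⟨b, hb⟩ : ↥B)⁻¹) := by
      rw [← ofMul_div, div_eq_mul_inv]
    rw [h2, hsmul] at h1
    have hmem : ((conjB l ⟨b, hb⟩ * (⟨b, hb⟩ : ↥B)⁻¹ : ↥B) : X) ∈ V :=
      hVΩ _ (conjB l ⟨b, hb⟩ * (⟨b, hb⟩ : ↥B)⁻¹ : ↥B).2 h1
    have hval : ((conjB l ⟨b, hb⟩ * (⟨b, hb⟩ : ↥B)⁻¹ : ↥B) : X) = l * b * l⁻¹ * b⁻¹ := rfl
    rw [hval] at hmem
    have hinv : ⁅b, l⁆ = (l * b * l⁻¹ * b⁻¹)⁻¹ := by
      rw [commutatorElement_def]; group
    rw [hinv]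
    exact V.inv_mem hmem

end Cfsg.Agent.Helper65.N5
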