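import Mathlib
import Cfsg.Agent.Lib.Helper32.N5Defs
import Cfsg.Agent.Lib.Helper83.FrobAbs

/-!
# N5 piece (T1) (helper32 server, S1904): Case 2 set-up.
A characteristic abelian subgroup `H` on which some `a ∈ A` (odd order) acts nontrivially gives a
characteristic central four-group `V = Ω₁(H)` on which `a` acts without nontrivial fixed points.
(Centrality is obtained from `V ∩ Z(X) ≠ 1` and the transitivity of `a` on `V \ {1}`.)
-/

set_option autoImplicit false

namespace Cfsg.Agent.Helper65.N5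

open Cfsg Cfsg.Agent.Helper32.N5
open scoped commutatorElement

universe u

variable {X : Type u} [Group X] [Finite X]

omit [Finite X] in
theorem h65_three_le_card [Finite X] (K : Subgroup X) (x y : X) (hx : x ∈ K) (hy : y ∈ K)
    (hx1 : x ≠ 1) (hy1 : y ≠ 1) (hxy : x ≠ y) : 3 ≤ Nat.card K := by
  have hsub : ({1, x, y} : Set X) ⊆ (K : Set X) := by
    intro t ht
    rcases ht with rfl | rfl | rfl
    · exact K.one_mem
    · exact hx
    · exact hy
  have h3 : ({1, x, y} : Set X).ncard = 3 :=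
    Set.ncard_eq_three.mpr ⟨1, x, y, hx1.symm, hy1.symm, hxy, rfl⟩
  have h := Set.ncard_le_ncard hsub (Set.toFinite _)
  rw [h3] at h
  have h4 : ((K : Set X)).ncard = Nat.card K := (Nat.card_coe_set_eq _).symm
  rw [h4] at h
  exact h

omit [Finite X] in
/-- parity: an automorphism of odd order whose square fixes `w` fixes `w`. -/
theorem h65_fix_of_sq_fix (a : MulAut X) (hodd : Odd (orderOf a)) (w : X) (hw : a (a w) = w) :
    a w = w := by
  obtain ⟨k, hk⟩ := hodd
  have h2 : ∀ j : ℕ, (a ^ (2 * j)) w = w := by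
    intro j
    induction j with
    | zero => simp
    | succ j ih =>
      have : a ^ (2 * (j + 1)) = a ^ (2 * j) * a * a := by
        rw [show 2 * (j + 1) = 2 * j + 1 + 1 by ring, pow_succ, pow_succ]
      rw [this, MulAut.mul_apply, MulAut.mul_apply, hw, ih]
  have h1 : a ^ (2 * k + 1) = 1 := by rw [← hk]; exact pow_orderOf_eq_one a
  have h3 : (a ^ (2 * k + 1)) w = a w := by
    rw [pow_succ', MulAut.mul_apply, h2 k]
  rw [h1, MulAut.one_apply] at h3
  exact h3.symm

/-- (T1) Case 2 set-up. -/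
theorem case_two_setup (hX : IsPGroup 2 X)
    (hP1 : ∀ E : Subgroup X, E.Normal → Cfsg.IsElementaryAbelian 2 E → Nat.card E ≤ 4)
    (hT1a : ∀ (H : Subgroup X), Ab H → ∀ a : MulAut X, (∀ x ∈ H, a x ∈ H) → Odd (orderOf a) →
      (∀ x ∈ H, x ^ 2 = 1 → a x = x) → ∀ x ∈ H, a x = x)
    (A : Subgroup (MulAut X)) (hA : Odd (Nat.card A))
    (hSe : ∀ M : Subgroup X, M.Characteristic → M.index = 2 → False)
    (H : Subgroup X) (hHc : H.Characteristic) (hHab : IsMulCommutative H)
    (a : MulAut X) (ha : a ∈ A) (h : X) (hh : h ∈ H) (hne : a h ≠ h) :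
    ∃ V : Subgroup X, V.Characteristic ∧ ∃ σ ∈ A, VData V σ := by
  classical
  have : Fact (Nat.Prime 2) := ⟨Nat.prime_two⟩
  -- commutativity of H, elementwise
  have hcomm : ∀ x ∈ H, ∀ y ∈ H, x * y = y * x := by
    intro x hx y hy
    have := hHab.is_comm.comm (⟨x, hx⟩ : H) ⟨y, hy⟩
    exact congrArg Subtype.val this
  -- invariance of H
  have hHinv : ∀ φ : MulAut X, ∀ x ∈ H, φ x ∈ H := by
    intro φ x hx
    have hfix := hHc.fixed φ
    have hx' : x ∈ H.comap φ.toMonoidHom := by rw [hfix]; exact hx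
    exact hx'
  -- V = Omega_1(H)
  let V : Subgroup X :=
    { carrier := {x | x ∈ H ∧ x ^ 2 = 1}
      mul_mem' := by
        rintro x y ⟨hx, hx2⟩ ⟨hy, hy2⟩
        refine ⟨H.mul_mem hx hy, ?_⟩
        have hc : Commute x y := hcomm x hx y hy
        rw [hc.mul_pow, hx2, hy2, one_mul]
      one_mem' := ⟨H.one_mem, one_pow 2⟩
      inv_mem' := by
        rintro x ⟨hx, hx2⟩
        exact ⟨H.inv_mem hx, by rw [inv_pow, hx2, inv_one]⟩ }
  have hVmem : ∀ x, x ∈ V ↔ x ∈ H ∧ x ^ 2 = 1 := fun x => Iff.rfl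
  have hVinv : ∀ φ : MulAut X, ∀ x ∈ V, φ x ∈ V := by
    intro φ x hx
    rw [hVmem] at hx ⊢
    refine ⟨hHinv φ x hx.1, ?_⟩
    rw [← map_pow, hx.2, map_one]
  have hVc : V.Characteristic := by
    rw [Subgroup.characteristic_iff_le_comap]
    intro φ x hx
    exact hVinv φ x hx
  have hVn : V.Normal := @Subgroup.normal_of_characteristic _ _ V hVc
  have hVel : Cfsg.IsElementaryAbelian 2 V := by
    refine ⟨⟨⟨fun x y => Subtype.ext (hcomm x.1 x.2.1 y.1 y.2.1)⟩⟩, ?_⟩
    intro x hx
    exact hx.2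
  have hV4 : Nat.card V ≤ 4 := hP1 V hVn hVel
  -- a has odd order
  have hodd : Odd (orderOf a) := by
    have h1 := orderOf_dvd_natCard (⟨a, ha⟩ : A)
    rw [Subgroup.orderOf_mk] at h1
    exact Odd.of_dvd_nat hA h1
  -- a moves an involution of H
  have hAbH : Ab H := fun x hx y hy => hcomm x hx y hy
  obtain ⟨v, hvH, hv2, hav⟩ : ∃ v ∈ H, v ^ 2 = 1 ∧ a v ≠ v := by
    by_contra hcon
    push_neg at hcon
    exact hne (hT1a H hAbH a (hHinv a) hodd hcon h hh)
  have hvV : v ∈ V := ⟨hvH, hv2⟩
  have havV : a v ∈ V := hVinv a v hvV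
  have hv1 : v ≠ 1 := by
    rintro rfl
    exact hav (map_one a)
  have hav1 : a v ≠ 1 := by
    intro h1
    apply hv1
    have : a v = a 1 := by rw [h1, map_one]
    exact a.injective this
  -- |V| = 4
  have hcard : Nat.card V = 4 := by
    have h3 := h65_three_le_card V v (a v) hvV havV hv1 hav1 (Ne.symm hav)
    obtain ⟨n, hn⟩ := IsPGroup.exists_card_eq (hX.to_subgroup V)
    rw [hn] at h3 hV4 ⊢
    have hn2 : n < 3 := by
      by_contra hge
      push_neg at hge
      have : 2 ^ 3 ≤ 2 ^ n := Nat.pow_le_pow_right (by norm_num) hge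
      omega
    interval_cases n <;> simp_all
  -- fixed-point-freeness
  have hfpf : ∀ w ∈ V, a w = w → w = 1 := by
    intro w hwV haw
    by_contra hw1
    -- W' = fixed points in V
    let W' : Subgroup V :=
      { carrier := {x | a x.1 = x.1}
        mul_mem' := by
          intro x y hx hy
          show a ((x * y : V) : X) = ((x * y : V) : X)
          rw [Subgroup.coe_mul, map_mul]
          have hx' : a x.1 = x.1 := hx
          have hy' : a y.1 = y.1 := hy
          rw [hx', hy']
        one_mem' := by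
          show a ((1 : V) : X) = ((1 : V) : X)
          rw [Subgroup.coe_one, map_one]
        inv_mem' := by
          intro x hx
          show a ((x⁻¹ : V) : X) = ((x⁻¹ : V) : X)
          have hx' : a x.1 = x.1 := hx
          rw [Subgroup.coe_inv, map_inv, hx'] }
    have hW'mem : ∀ x : V, x ∈ W' ↔ a x.1 = x.1 := fun x => Iff.rfl
    have hdvd : Nat.card W' ∣ 4 := hcard ▸ Subgroup.card_subgroup_dvd_card W'
    have hne1 : Nat.card W' ≠ 1 := by
      intro h1
      have hbot := Subgroup.eq_bot_of_card_eq W' h1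
      have hwW : (⟨w, hwV⟩ : V) ∈ W' := haw
      rw [hbot, Subgroup.mem_bot] at hwW
      exact hw1 (congrArg Subtype.val hwW)
    have hne4 : Nat.card W' ≠ 4 := by
      intro h4
      have htop : W' = ⊤ := Subgroup.eq_top_of_card_eq W' (by rw [h4, hcard])
      have hvW : (⟨v, hvV⟩ : V) ∈ W' := by rw [htop]; exact Subgroup.mem_top _
      exact hav hvW
    have hle4 : Nat.card W' ≤ 4 := Nat.le_of_dvd (by norm_num) hdvd
    have hpos : 0 < Nat.card W' := Nat.card_pos
    have hW2 : Nat.card W' = 2 := by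
      interval_cases hc : Nat.card W'
      · exact absurd rfl hne1
      · rfl
      · norm_num at hdvd
      · exact absurd rfl hne4
    have hidx : W'.index = 2 := by
      have := Subgroup.index_mul_card W'
      rw [hW2, hcard] at this
      omega
    have hvW : (⟨v, hvV⟩ : V) ∉ W' := fun hc => hav hc
    have havW : (⟨a v, havV⟩ : V) ∉ W' := by
      intro hc
      have hc' : a (a v) = a v := hc
      exact hav (a.injective hc')
    have hprod : (⟨v, hvV⟩ : V) * ⟨a v, havV⟩ ∈ W' := by
      rw [Subgroup.mul_mem_iff_of_index_two hidx]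
      exact ⟨fun hc => absurd hc hvW, fun hc => absurd hc havW⟩
    have hprod' : a (v * a v) = v * a v := hprod
    rw [map_mul] at hprod'
    have hsw : v * a v = a v * v := hcomm v hvH (a v) (hHinv a v hvH)
    rw [hsw] at hprod'
    have haav : a (a v) = v := mul_left_cancel hprod'
    exact hav (h65_fix_of_sq_fix a hodd v haav)
  -- centrality
  have hnil : Group.IsNilpotent X := hX.isNilpotent
  have hVne : V ≠ ⊥ := by
    intro hbot
    rw [hbot, Subgroup.mem_bot] at hvV
    exact hv1 hvV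
  have hmeet := Cfsg.Agent.Helper83.FrobAbs.center_inf_normal_ne_bot V hVne
  obtain ⟨⟨z, hz⟩, hz1'⟩ := (Subgroup.ne_bot_iff_exists_ne_one).mp hmeet
  have hz1 : z ≠ 1 := fun hc => hz1' (Subtype.ext hc)
  have hzc : z ∈ Subgroup.center X := hz.1
  have hzV : z ∈ V := hz.2
  have hazc : a z ∈ Subgroup.center X := by
    rw [Subgroup.mem_center_iff] at hzc ⊢
    intro y
    have h1 := hzc (a.symm y)
    have h2 := congrArg a h1
    rw [map_mul, map_mul, MulEquiv.apply_symm_apply] at h2
    exact h2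
  have hazV : a z ∈ V := hVinv a z hzV
  have haz1 : a z ≠ 1 := by
    intro h1
    apply hz1
    have : a z = a 1 := by rw [h1, map_one]
    exact a.injective this
  have hazz : z ≠ a z := fun hc => hz1 (hfpf z hzV hc.symm)
  have hK3 : 3 ≤ Nat.card (Subgroup.center X ⊓ V : Subgroup X) :=
    h65_three_le_card _ z (a z) ⟨hzc, hzV⟩ ⟨hazc, hazV⟩ hz1 haz1 hazz
  have hKle : (Subgroup.center X ⊓ V : Subgroup X) ≤ V := inf_le_right
  have hKdvd : Nat.card (Subgroup.center X ⊓ V : Subgroup X) ∣ 4 :=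
    hcard ▸ Subgroup.card_dvd_of_le hKle
  have hK4 : Nat.card (Subgroup.center X ⊓ V : Subgroup X) = 4 := by
    have hle4 := Nat.le_of_dvd (by norm_num) hKdvd
    interval_cases hc : Nat.card (Subgroup.center X ⊓ V : Subgroup X)
    · norm_num at hKdvd
    · rfl
  have hKeq : (Subgroup.center X ⊓ V : Subgroup X) = V :=
    Subgroup.eq_of_le_of_card_ge hKle (by rw [hK4, hcard])
  have hcen : V ≤ Subgroup.center X := by
    rw [← hKeq]; exact inf_le_left
  exact ⟨V, hVc, a, ha, ⟨hcen, fun x hx => hx.2, hcard, hVinv a, hfpf⟩⟩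

end Cfsg.Agent.Helper65.N5
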