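import Mathlib
import Cfsg.Agent.Lib.Helper32.N5Defs

/-!
# N5 piece (Se) (helper32 server, S1904): `[X, A] = X` excludes characteristic subgroups of index 2.
-/

set_option autoImplicit false

namespace Cfsg.Agent.Helper65.N5

open Cfsg Cfsg.Agent.Helper32.N5
open scoped commutatorElement

universe u

variable {X : Type u} [Group X] [Finite X]

/-- (Se) `[X,A] = X` excludes characteristic subgroups of index 2. -/
theorem false_of_char_index_two (M : Subgroup X) (hM : M.Characteristic) (hidx : M.index = 2)
    (A : Subgroup (MulAut X)) (hXA : ComGen A) : False := by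
  have hle : Subgroup.closure {g : X | ∃ φ ∈ A, ∃ x : X, g = x⁻¹ * φ x} ≤ M := by
    rw [Subgroup.closure_le]
    rintro g ⟨φ, _, x, rfl⟩
    show x⁻¹ * φ x ∈ M
    rw [Subgroup.mul_mem_iff_of_index_two hidx, inv_mem_iff]
    have hfix := hM.fixed φ
    have : φ x ∈ M ↔ x ∈ M.comap φ.toMonoidHom := Iff.rfl
    rw [this, hfix]
  unfold ComGen at hXA
  rw [hXA] at hle
  have : M = ⊤ := top_le_iff.mp hle
  rw [this, Subgroup.index_top] at hidx
  norm_num at hidx

end Cfsg.Agent.Helper65.N5
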