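import Mathlib

set_option autoImplicit false

namespace Cfsg.Agent.Helper65.EXT

/-- (E2) a group with a centreless self-centralising normal subgroup `N ≅ L` embeds in `Aut L`, `N` going onto
the inner automorphisms. -/
theorem embed_aut {G : Type*} [Group G] {L : Type*} [Group L] (N : Subgroup G) [N.Normal]
    (e : ↥N ≃* L) (hZ : Subgroup.center L = ⊥) (hC : Subgroup.centralizer (N : Set G) ≤ N) :
    ∃ φ : G →* MulAut L, Function.Injective φ ∧
      N.map φ = (MulAut.conj : L →* MulAut L).range := by
  let φ : G →* MulAut L := (MulAut.congr e).toMonoidHom.comp (MulAut.conjNormal (H := N))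
  have hφ : ∀ (g : G) (l : L), φ g l = e (MulAut.conjNormal g (e.symm l)) := fun g l => rfl
  have hφN : ∀ (n : G) (hn : n ∈ N), φ n = MulAut.conj (e ⟨n, hn⟩) := by
    intro n hn
    ext l
    rw [hφ, MulAut.conj_apply]
    have : MulAut.conjNormal n (e.symm l) = ⟨n, hn⟩ * e.symm l * ⟨n, hn⟩⁻¹ := by
      apply Subtype.ext
      rw [MulAut.conjNormal_apply]
      simp
    rw [this, map_mul, map_mul, map_inv, MulEquiv.apply_symm_apply]
  refine ⟨φ, ?_, ?_⟩
  · rw [injective_iff_map_eq_one]
    intro g hg
    have hcent : g ∈ Subgroup.centralizer (N : Set G) := by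
      rw [Subgroup.mem_centralizer_iff]
      intro n hn
      have h1 := hφ g (e ⟨n, hn⟩)
      rw [hg, MulAut.one_apply, MulEquiv.symm_apply_apply] at h1
      have h2 := e.injective h1
      have h3 := congrArg Subtype.val h2
      rw [MulAut.conjNormal_apply] at h3
      -- h3 : n = g * n * g⁻¹
      simp only at h3
      calc n * g = g * n * g⁻¹ * g := by rw [← h3]
        _ = g * n := by group
    have hgN : g ∈ N := hC hcent
    have hcen : e ⟨g, hgN⟩ ∈ Subgroup.center L := by
      rw [Subgroup.mem_center_iff]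
      intro l
      obtain ⟨m, rfl⟩ := e.surjective l
      rw [← map_mul, ← map_mul]
      congr 1
      apply Subtype.ext
      have := (Subgroup.mem_centralizer_iff.mp hcent) m.1 m.2
      simpa using this
    rw [hZ, Subgroup.mem_bot] at hcen
    have h1 : (⟨g, hgN⟩ : N) = 1 := by
      apply e.injective
      rw [hcen, map_one]
    exact congrArg Subtype.val h1
  · ext α
    constructor
    · rintro ⟨n, hn, rfl⟩
      exact ⟨e ⟨n, hn⟩, (hφN n hn).symm⟩
    · rintro ⟨l, rfl⟩
      refine ⟨(e.symm l : G), (e.symm l).2, ?_⟩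
      rw [hφN _ (e.symm l).2]
      simp

end Cfsg.Agent.Helper65.EXT
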