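import Mathlib

set_option autoImplicit false

namespace Cfsg.Agent.Helper65.EXT

/-- (E3) two subgroups containing a normal subgroup `I`, with conjugate images modulo `I`, are conjugate,
hence isomorphic. -/
theorem iso_of_conj_mod {A : Type*} [Group A] (I : Subgroup A) [I.Normal] (X₁ X₂ : Subgroup A)
    (hI₁ : I ≤ X₁) (hI₂ : I ≤ X₂) (t : A ⧸ I)
    (h : X₂.map (QuotientGroup.mk' I) =
      (X₁.map (QuotientGroup.mk' I)).map (MulAut.conj t).toMonoidHom) :
    Nonempty (↥X₁ ≃* ↥X₂) := by
  obtain ⟨a, rfl⟩ := QuotientGroup.mk_surjective t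
  -- membership in X modulo I
  have key : ∀ (X : Subgroup A), I ≤ X → ∀ y : A, (QuotientGroup.mk' I y ∈ X.map (QuotientGroup.mk' I) ↔ y ∈ X) := by
    intro X hX y
    constructor
    · rintro ⟨x, hx, hxy⟩
      have : x⁻¹ * y ∈ I := by
        rw [← QuotientGroup.eq]
        exact hxy
      have h2 : y = x * (x⁻¹ * y) := by group
      rw [h2]
      exact X.mul_mem hx (hX this)
    · intro hy
      exact ⟨y, hy, rfl⟩
  have hconj : ∀ y : A, y ∈ X₂ ↔ a⁻¹ * y * a ∈ X₁ := by
    intro y
    rw [← key X₂ hI₂ y, h, ← key X₁ hI₁ (a⁻¹ * y * a)]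
    constructor
    · rintro ⟨z, hz, hzy⟩
      have : z = QuotientGroup.mk' I (a⁻¹ * y * a) := by
        have h3 : (MulAut.conj (QuotientGroup.mk a : A ⧸ I)) z = QuotientGroup.mk' I y := hzy
        rw [MulAut.conj_apply] at h3
        rw [map_mul, map_mul, ← h3, map_inv]
        simp only [QuotientGroup.mk'_apply]
        group
      rw [← this]
      exact hz
    · intro hz
      refine ⟨_, hz, ?_⟩
      show (MulAut.conj (QuotientGroup.mk a : A ⧸ I)) (QuotientGroup.mk' I (a⁻¹ * y * a)) = _
      rw [MulAut.conj_apply, map_mul, map_mul, map_inv]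
      simp only [QuotientGroup.mk'_apply]
      group
  have hmap : X₂ = X₁.map (MulAut.conj a).toMonoidHom := by
    ext y
    rw [hconj y]
    constructor
    · intro hy
      refine ⟨a⁻¹ * y * a, hy, ?_⟩
      show MulAut.conj a (a⁻¹ * y * a) = y
      rw [MulAut.conj_apply]
      group
    · rintro ⟨x, hx, rfl⟩
      have : a⁻¹ * (MulAut.conj a).toMonoidHom x * a = x := by
        show a⁻¹ * (MulAut.conj a x) * a = x
        rw [MulAut.conj_apply]
        group
      rw [this]
      exact hx
  rw [hmap]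
  exact ⟨X₁.equivMapOfInjective _ (MulAut.conj a).injective⟩

end Cfsg.Agent.Helper65.EXT
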