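import Mathlib
import Cfsg.Agent.S1017

set_option autoImplicit false

namespace Cfsg.Agent.Helper65.O4320

open Cfsg MulAction

universe u

section GT

variable {G : Type u} [Group G] [Finite G] [IsSimpleGroup G]

/-- (C16a) -/
theorem sixteen_fix (hG : Nat.card G = 4320) (h16 : Nat.card (Sylow 5 G) = 16) (R : Sylow 5 G)
    (hR : Nat.card (R : Subgroup G) = 5)
    (x : G) (hx : orderOf x = 3) (hxR : x ∈ Subgroup.centralizer ((R : Subgroup G) : Set G)) :
    Nat.card (fixedBy (Sylow 5 G) x) = 1 := by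
  haveI : Fact (Nat.Prime 5) := ⟨by norm_num⟩
  haveI : Fact (Nat.Prime 3) := ⟨by norm_num⟩
  have h5 := Cfsg.Agent.S1017.card_fixedBy_sylow_modEq R hR x hxR
  have h3 := Cfsg.Agent.S1017.card_modEq_card_fixedBy (α := Sylow 5 G) x hx
  have hle := Cfsg.Agent.S1017.card_fixedBy_le (α := Sylow 5 G) x
  have hx1 : x ≠ 1 := Cfsg.Agent.S1017.ne_one_of_orderOf_prime x (by norm_num) hx
  have hne := Cfsg.Agent.S1017.card_fixedBy_ne (α := Sylow 5 G)
    (Cfsg.Agent.S1017.sylow_action_nontrivial (p := 5) (by rw [h16]; norm_num)) x hx1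
  rw [h16] at h3 hle hne
  unfold Nat.ModEq at h5 h3
  omega

end GT

end Cfsg.Agent.Helper65.O4320
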