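import Mathlib

set_option autoImplicit false

namespace Cfsg.Agent.Helper65

open scoped commutatorElement

/-- commutators only depend on the cosets modulo the center -/
theorem commutatorElement_mul_central {E : Type*} [Group E] (g h z₁ z₂ : E)
    (h1 : z₁ ∈ Subgroup.center E) (h2 : z₂ ∈ Subgroup.center E) :
    ⁅g * z₁, h * z₂⁆ = ⁅g, h⁆ := by
  have c1 := Subgroup.mem_center_iff.1 h1
  have c2 := Subgroup.mem_center_iff.1 h2
  rw [commutatorElement_def, commutatorElement_def]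
  have e1 : g * z₁ * (h * z₂) * (g * z₁)⁻¹ * (h * z₂)⁻¹
      = g * (z₁ * (h * (z₂ * (z₁⁻¹ * (g⁻¹ * (z₂⁻¹ * h⁻¹)))))) := by group
  rw [e1]
  have e2 : z₂ * (z₁⁻¹ * (g⁻¹ * (z₂⁻¹ * h⁻¹))) = z₁⁻¹ * (g⁻¹ * (z₂⁻¹ * h⁻¹)) * z₂ := (c2 _).symm
  rw [e2]
  have e3 : z₁ * (h * (z₁⁻¹ * (g⁻¹ * (z₂⁻¹ * h⁻¹)) * z₂)) = h * (z₁⁻¹ * (g⁻¹ * (z₂⁻¹ * h⁻¹)) * z₂) * z₁ :=
    (c1 _).symm
  rw [e3]
  have e4 : g * (h * (z₁⁻¹ * (g⁻¹ * (z₂⁻¹ * h⁻¹)) * z₂) * z₁)
      = g * h * (z₁⁻¹ * (g⁻¹ * (z₂⁻¹ * (h⁻¹ * z₂))) * z₁) := by group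
  rw [e4]
  have e5 : h⁻¹ * z₂ = z₂ * h⁻¹ := c2 _
  rw [e5]
  have e6 : z₁⁻¹ * (g⁻¹ * (z₂⁻¹ * (z₂ * h⁻¹))) * z₁ = z₁⁻¹ * ((g⁻¹ * h⁻¹) * z₁) := by group
  rw [e6, c1 (g⁻¹ * h⁻¹)]
  group

/-- if the center has finite index there are finitely many commutators -/
theorem finite_commutatorSet_of_finiteIndex_center (E : Type*) [Group E]
    [(Subgroup.center E).FiniteIndex] : Finite (commutatorSet E) := by
  have : Finite (E ⧸ Subgroup.center E) := Subgroup.finite_quotient_of_finiteIndex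
  let f : (E ⧸ Subgroup.center E) × (E ⧸ Subgroup.center E) → E :=
    fun p => ⁅(Quotient.out p.1 : E), (Quotient.out p.2 : E)⁆
  have hsub : commutatorSet E ⊆ Set.range f := by
    rintro _ ⟨g, h, rfl⟩
    refine ⟨((g : E ⧸ Subgroup.center E), (h : E ⧸ Subgroup.center E)), ?_⟩
    show ⁅(Quotient.out (g : E ⧸ Subgroup.center E) : E), (Quotient.out (h : E ⧸ Subgroup.center E) : E)⁆ = ⁅g, h⁆
    have hg : g⁻¹ * (Quotient.out (g : E ⧸ Subgroup.center E) : E) ∈ Subgroup.center E := by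
      rw [← QuotientGroup.eq]
      exact (QuotientGroup.out_eq' _).symm
    have hh : h⁻¹ * (Quotient.out (h : E ⧸ Subgroup.center E) : E) ∈ Subgroup.center E := by
      rw [← QuotientGroup.eq]
      exact (QuotientGroup.out_eq' _).symm
    have e1 : (Quotient.out (g : E ⧸ Subgroup.center E) : E) = g * (g⁻¹ * Quotient.out (g : E ⧸ Subgroup.center E)) := by
      group
    have e2 : (Quotient.out (h : E ⧸ Subgroup.center E) : E) = h * (h⁻¹ * Quotient.out (h : E ⧸ Subgroup.center E)) := by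
      group
    rw [e1, e2]
    exact commutatorElement_mul_central g h _ _ hg hh
  exact Set.Finite.subset (Set.finite_range f) hsub

/-- Schur: a group with a central subgroup of finite index has finite commutator subgroup -/
theorem finite_commutator_of_central_finiteIndex {E : Type*} [Group E] (A : Subgroup E)
    (hA : A ≤ Subgroup.center E) [A.FiniteIndex] : Finite (commutator E) := by
  have : (Subgroup.center E).FiniteIndex := Subgroup.finiteIndex_of_le hA
  have := finite_commutatorSet_of_finiteIndex_center E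
  infer_instance

end Cfsg.Agent.Helper65
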