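import Mathlib
import Cfsg.Agent.Lib.Helper65.Schur

set_option autoImplicit false

namespace Cfsg.Agent.Helper65

open scoped commutatorElement

section Uniq

variable {G X Q : Type*} [Group G] [Group X] [Group Q]

/-- two lifts of the same map from a perfect group into a central extension agree -/
theorem hom_eq_of_perfect_of_central (hG : Group.IsPerfect G) (ξ : X →* Q)
    (hξ : ξ.ker ≤ Subgroup.center X) (η η' : G →* X) (h : ξ.comp η = ξ.comp η') : η = η' := by
  have hz : ∀ g : G, (η g)⁻¹ * η' g ∈ Subgroup.center X := by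
    intro g
    apply hξ
    rw [MonoidHom.mem_ker, map_mul, map_inv]
    have := DFunLike.congr_fun h g
    simp only [MonoidHom.comp_apply] at this
    rw [this]; group
  have hle : (⊤ : Subgroup G) ≤ η.eqLocus η' := by
    rw [← hG.commutator_eq_top, commutator_eq_closure, Subgroup.closure_le]
    rintro _ ⟨a, b, rfl⟩
    show η ⁅a, b⁆ = η' ⁅a, b⁆
    rw [map_commutatorElement, map_commutatorElement]
    have e1 : η' a = η a * ((η a)⁻¹ * η' a) := by group
    have e2 : η' b = η b * ((η b)⁻¹ * η' b) := by group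
    rw [e1, e2, commutatorElement_mul_central _ _ _ _ (hz a) (hz b)]
  ext g
  exact hle (Subgroup.mem_top g)

end Uniq

section Cover

variable {F Q : Type*} [Group F] [Group Q] (p : F →* Q)

/-- `[R, F]` for `R = ker p` -/
def relC : Subgroup F := ⁅p.ker, (⊤ : Subgroup F)⁆

instance relC_normal : (relC p).Normal := by
  unfold relC; infer_instance

theorem relC_le_ker : relC p ≤ p.ker := by
  unfold relC
  rw [Subgroup.commutator_le]
  intro r hr f _
  rw [MonoidHom.mem_ker] at hr ⊢
  rw [map_commutatorElement, hr, commutatorElement_def]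
  group

/-- `F / [R, F]` -/
abbrev CE : Type _ := F ⧸ relC p

/-- the induced map `F / [R,F] → Q` -/
def cProj : CE p →* Q := QuotientGroup.lift (relC p) p (relC_le_ker p)

theorem cProj_mk (f : F) : cProj p (QuotientGroup.mk f) = p f := rfl

theorem cProj_surjective (hp : Function.Surjective p) : Function.Surjective (cProj p) := by
  intro q
  obtain ⟨f, rfl⟩ := hp q
  exact ⟨QuotientGroup.mk f, rfl⟩

theorem ker_cProj_le_center : (cProj p).ker ≤ Subgroup.center (CE p) := by
  intro x hx
  obtain ⟨r, rfl⟩ := QuotientGroup.mk_surjective x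
  rw [MonoidHom.mem_ker, cProj_mk] at hx
  rw [Subgroup.mem_center_iff]
  intro y
  obtain ⟨f, rfl⟩ := QuotientGroup.mk_surjective y
  have hmem : ⁅r, f⁆ ∈ relC p :=
    Subgroup.commutator_mem_commutator ((MonoidHom.mem_ker).2 hx) (Subgroup.mem_top f)
  have h1 : (QuotientGroup.mk ⁅r, f⁆ : CE p) = 1 := (QuotientGroup.eq_one_iff _).2 hmem
  rw [commutatorElement_def] at h1
  simp only [QuotientGroup.mk_mul, QuotientGroup.mk_inv] at h1
  -- r f r⁻¹ f⁻¹ = 1
  have h2 : (QuotientGroup.mk r : CE p) * QuotientGroup.mk f = QuotientGroup.mk f * QuotientGroup.mk r := by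
    have := congrArg (fun z => z * ((QuotientGroup.mk f : CE p) * QuotientGroup.mk r)) h1
    simp only [one_mul] at this
    rw [← this]; group
  exact h2.symm

theorem finite_commutator_CE [Finite Q] : Finite (commutator (CE p)) := by
  have : (cProj p).ker.FiniteIndex := by
    constructor
    rw [Subgroup.index_ker]
    exact Nat.card_pos.ne'
  exact finite_commutator_of_central_finiteIndex (cProj p).ker (ker_cProj_le_center p)

/-- descent of a lift to `F / [R,F]` -/
def cLift {X : Type*} [Group X] (ξ : X →* Q) (hξ : ξ.ker ≤ Subgroup.center X) (φ : F →* X)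
    (hφ : ξ.comp φ = p) : CE p →* X :=
  QuotientGroup.lift (relC p) φ (by
    unfold relC
    rw [Subgroup.commutator_le]
    intro r hr f _
    rw [MonoidHom.mem_ker, map_commutatorElement, commutatorElement_eq_one_iff_mul_comm]
    have : φ r ∈ ξ.ker := by
      rw [MonoidHom.mem_ker, ← MonoidHom.comp_apply, hφ]
      exact hr
    exact ((Subgroup.mem_center_iff.1 (hξ this)) (φ f)).symm)

theorem cLift_mk {X : Type*} [Group X] (ξ : X →* Q) (hξ : ξ.ker ≤ Subgroup.center X) (φ : F →* X)
    (hφ : ξ.comp φ = p) (f : F) : cLift p ξ hξ φ hφ (QuotientGroup.mk f) = φ f := rfl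

theorem cLift_comp {X : Type*} [Group X] (ξ : X →* Q) (hξ : ξ.ker ≤ Subgroup.center X) (φ : F →* X)
    (hφ : ξ.comp φ = p) : ξ.comp (cLift p ξ hξ φ hφ) = cProj p := by
  refine MonoidHom.ext fun x => ?_
  obtain ⟨f, rfl⟩ := QuotientGroup.mk_surjective x
  rw [MonoidHom.comp_apply, cLift_mk, cProj_mk, ← hφ]
  rfl

end Cover

section FreeLift

variable {α Q : Type*} [Group Q]

/-- lifting from a free group along a surjection -/
theorem exists_freeGroup_lift {X : Type*} [Group X] (p : FreeGroup α →* Q) (ξ : X →* Q)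
    (hξ : Function.Surjective ξ) : ∃ φ : FreeGroup α →* X, ξ.comp φ = p := by
  refine ⟨FreeGroup.lift (fun a => Classical.choose (hξ (p (FreeGroup.of a)))), ?_⟩
  ext a
  rw [MonoidHom.comp_apply, FreeGroup.lift_apply_of]
  exact Classical.choose_spec (hξ (p (FreeGroup.of a)))

end FreeLift

end Cfsg.Agent.Helper65
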