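import Mathlib
import Cfsg.Agent.Lib.Helper65.Schur

set_option autoImplicit false

namespace Cfsg.Agent.Helper65

open scoped commutatorElement

/-- if `E = E' A` with `A` central and normal then every commutator lies in `[E', E']` -/
theorem commutator_le_of_sup_central {E : Type*} [Group E] (B A : Subgroup E) [A.Normal]
    (hA : A ≤ Subgroup.center E) (hsup : B ⊔ A = ⊤) : commutator E ≤ ⁅B, B⁆ := by
  rw [commutator_eq_closure, Subgroup.closure_le]
  rintro _ ⟨x, y, rfl⟩
  have hx : x ∈ B ⊔ A := by rw [hsup]; exact Subgroup.mem_top x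
  have hy : y ∈ B ⊔ A := by rw [hsup]; exact Subgroup.mem_top y
  rw [← SetLike.mem_coe, Subgroup.mul_normal] at hx hy
  obtain ⟨e₁, he₁, a₁, ha₁, rfl⟩ := Set.mem_mul.1 hx
  obtain ⟨e₂, he₂, a₂, ha₂, rfl⟩ := Set.mem_mul.1 hy
  rw [SetLike.mem_coe, commutatorElement_mul_central _ _ _ _ (hA ha₁) (hA ha₂)]
  exact Subgroup.commutator_mem_commutator he₁ he₂

/-- if `E = E' A` with `A` central then `E'` is perfect -/
theorem commutator_perfect_of_sup_central {E : Type*} [Group E] (A : Subgroup E) [A.Normal]
    (hA : A ≤ Subgroup.center E) (hsup : commutator E ⊔ A = ⊤) :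
    Group.IsPerfect (commutator E) := by
  rw [Subgroup.isPerfect_iff]
  exact le_antisymm (Subgroup.commutator_le_self _) (commutator_le_of_sup_central _ A hA hsup)

/-- a surjection onto a perfect group: `E' ⊔ ker = ⊤` -/
theorem commutator_sup_ker_eq_top {E Q : Type*} [Group E] [Group Q] (f : E →* Q)
    (hf : Function.Surjective f) (hQ : Group.IsPerfect Q) : commutator E ⊔ f.ker = ⊤ := by
  rw [← Subgroup.comap_map_eq, map_commutator_eq, MonoidHom.range_eq_top.2 hf, ← commutator_def,
    hQ.commutator_eq_top, Subgroup.comap_top]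

end Cfsg.Agent.Helper65
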