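import Mathlib

set_option autoImplicit false

namespace Cfsg.Agent.Helper65

/-- `j → Multiplicative ℤ` is torsion free -/
theorem pi_mulInt_torsionfree {j : Type} (z : j → Multiplicative ℤ) (m : ℕ) (hm : 0 < m)
    (h : z ^ m = 1) : z = 1 := by
  funext k
  have hk : (z k) ^ m = 1 := by
    have := congrFun h k
    simpa using this
  have h2 : m • Multiplicative.toAdd (z k) = 0 := by
    have := congrArg Multiplicative.toAdd hk
    simpa using this
  have h3 : Multiplicative.toAdd (z k) = 0 := by
    rcases smul_eq_zero.1 h2 with h | h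
    · omega
    · exact h
  show z k = 1
  exact Multiplicative.toAdd.injective h3

/-- Splitting lemma: in an abelian group `B`, a finite subgroup `T` with torsion-free quotient has a
complement inside any finitely generated `N` with `T ⊔ N = ⊤`. -/
theorem exists_complement_le {B : Type*} [CommGroup B] (T N : Subgroup B) [Finite T]
    (hT : ∀ b : B, ∀ n : ℕ, 0 < n → b ^ n ∈ T → b ∈ T) (hN : T ⊔ N = ⊤) [hfg : Group.FG N] :
    ∃ S : Subgroup B, S ≤ N ∧ S ⊓ T = ⊥ ∧ S ⊔ T = ⊤ := by
  obtain ⟨ι, j, _, _, p, hp, e, ⟨iso⟩⟩ := CommGroup.equiv_free_prod_prod_multiplicative_zmod N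
  have hne : ∀ i, NeZero (p i ^ e i) := fun i => ⟨pow_ne_zero _ (hp i).ne_zero⟩
  let S₀ : Subgroup N := (Subgroup.prod ⊤ ⊥).comap iso.toMonoidHom
  refine ⟨S₀.map N.subtype, Subgroup.map_subtype_le _, ?_, ?_⟩
  · rw [eq_bot_iff]
    rintro x ⟨⟨s, hs, rfl⟩, hxT⟩
    rw [Subgroup.mem_bot]
    have hs' : iso s ∈ Subgroup.prod (⊤ : Subgroup (j → Multiplicative ℤ))
        (⊥ : Subgroup ((i : ι) → Multiplicative (ZMod (p i ^ e i)))) := hs
    rw [Subgroup.mem_prod] at hs'
    have h2 : (iso s).2 = 1 := Subgroup.mem_bot.1 hs'.2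
    -- s has finite order
    have hpos : 0 < Nat.card T := Nat.card_pos
    have hpow : (N.subtype s) ^ Nat.card T = 1 := by
      have := pow_card_eq_one' (G := T) (x := ⟨N.subtype s, hxT⟩)
      exact congrArg Subtype.val this
    have hpow' : s ^ Nat.card T = 1 := by
      apply N.subtype_injective
      rw [map_pow, hpow, map_one]
    have h3 : (iso s).1 ^ Nat.card T = 1 := by
      have := congrArg Prod.fst (congrArg iso hpow')
      simpa using this
    have h1 : (iso s).1 = 1 := pi_mulInt_torsionfree _ _ hpos h3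
    have : iso s = 1 := Prod.ext h1 h2
    have hs1 : s = 1 := iso.injective (by rw [this, map_one])
    rw [hs1, map_one]
  · rw [eq_top_iff, ← hN, sup_le_iff]
    refine ⟨le_sup_right, ?_⟩
    intro x hx
    let n : N := ⟨x, hx⟩
    let s : N := iso.symm ((iso n).1, 1)
    let t : N := iso.symm (1, (iso n).2)
    have hst : n = s * t := by
      apply iso.injective
      rw [map_mul, MulEquiv.apply_symm_apply, MulEquiv.apply_symm_apply]
      simp
    have hsS : s ∈ S₀ := by
      show iso (iso.symm ((iso n).1, 1)) ∈ Subgroup.prod ⊤ ⊥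
      rw [MulEquiv.apply_symm_apply, Subgroup.mem_prod]
      exact ⟨Subgroup.mem_top _, Subgroup.mem_bot.2 rfl⟩
    have htT : (t : B) ∈ T := by
      let M := Nat.card ((i : ι) → Multiplicative (ZMod (p i ^ e i)))
      have hM : 0 < M := Nat.card_pos
      apply hT _ M hM
      have h1 : (iso n).2 ^ M = 1 := pow_card_eq_one'
      have h2 : t ^ M = 1 := by
        apply iso.injective
        rw [map_pow, MulEquiv.apply_symm_apply, map_one]
        exact Prod.ext (by simp) (by simpa using h1)
      have h3 : (t : B) ^ M = 1 := by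
        have := congrArg Subtype.val h2
        simpa using this
      rw [h3]; exact Subgroup.one_mem _
    have hx' : x = (s : B) * (t : B) := by
      have := congrArg Subtype.val hst
      simpa using this
    rw [hx']
    exact Subgroup.mul_mem_sup ⟨s, hsS, rfl⟩ htT

end Cfsg.Agent.Helper65
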