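import Mathlib
import Cfsg.Prelude.Def_KGroupFacts
import Cfsg.Agent.Lib.Helper65.Central
import Cfsg.Agent.Lib.Helper65.Perfect
import Cfsg.Agent.Lib.Helper65.Split

set_option autoImplicit false

namespace Cfsg.Agent.Helper65

open scoped commutatorElement

universe u w

section Torsion

variable {α : Type*}

/-- the abelianization of a free group is torsion free -/
theorem abelianization_freeGroup_torsionfree (x : Abelianization (FreeGroup α)) (n : ℕ) (hn : 0 < n)
    (h : x ^ n = 1) : x = 1 := by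
  let y : FreeAbelianGroup α := Additive.ofMul x
  have hy : n • y = 0 := by
    show Additive.ofMul (x ^ n) = 0
    rw [h]; rfl
  have h2 : n • (FreeAbelianGroup.equivFinsupp α y) = 0 := by
    rw [← map_nsmul, hy, map_zero]
  have h3 : FreeAbelianGroup.equivFinsupp α y = 0 := by
    rcases smul_eq_zero.1 h2 with h | h
    · omega
    · exact h
  have h4 : y = 0 := by
    have := congrArg (FreeAbelianGroup.equivFinsupp α).symm h3
    simpa using this
  exact h4

end Torsion

section General

variable {α : Type*} {G : Type*} [Group G] (p : FreeGroup α →* G)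

/-- the map `F / [R,F] → F^ab` -/
def toAb : CE p →* Abelianization (FreeGroup α) :=
  QuotientGroup.lift (relC p) Abelianization.of (by
    intro x hx
    rw [MonoidHom.mem_ker, ← MonoidHom.mem_ker, Abelianization.ker_of]
    exact (Subgroup.commutator_mono le_top le_top) hx)

theorem toAb_mk (f : FreeGroup α) : toAb p (QuotientGroup.mk f) = Abelianization.of f := rfl

theorem mem_commutator_of_toAb_eq_one (e : CE p) (h : toAb p e = 1) : e ∈ commutator (CE p) := by
  obtain ⟨f, rfl⟩ := QuotientGroup.mk_surjective e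
  rw [toAb_mk, ← MonoidHom.mem_ker, Abelianization.ker_of] at h
  have : (QuotientGroup.mk' (relC p)) f ∈ (commutator (FreeGroup α)).map (QuotientGroup.mk' (relC p)) :=
    ⟨f, h, rfl⟩
  rw [map_commutator_eq, MonoidHom.range_eq_top.2 (QuotientGroup.mk'_surjective _)] at this
  exact this

/-- `E / E'` is torsion free -/
theorem mem_commutator_of_pow_mem (e : CE p) (n : ℕ) (hn : 0 < n)
    (h : e ^ n ∈ commutator (CE p)) : e ∈ commutator (CE p) := by
  apply mem_commutator_of_toAb_eq_one
  apply abelianization_freeGroup_torsionfree _ n hn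
  rw [← map_pow]
  exact Abelianization.commutator_subset_ker (toAb p) h

/-- the Schur multiplier as a subgroup of `F / [R, F]` -/
def mult : Subgroup (CE p) := (cProj p).ker ⊓ commutator (CE p)

theorem mult_le_ker : mult p ≤ (cProj p).ker := inf_le_left
theorem mult_le_commutator : mult p ≤ commutator (CE p) := inf_le_right

instance mult_finite [Finite G] : Finite (mult p) := by
  have := finite_commutator_CE p
  exact Finite.of_injective (Subgroup.inclusion (mult_le_commutator p))
    (Subgroup.inclusion_injective _)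

/-- (A2): every stem extension is covered by `F / [R,F]` -/
theorem exists_cover_map (hp : Function.Surjective p) {Δ : Type*} [Group Δ] (τ : Δ →* G)
    (hτ : Cfsg.IsStemExtension τ) :
    ∃ φ : CE p →* Δ, τ.comp φ = cProj p ∧ Function.Surjective φ ∧
      ∀ k ∈ τ.ker, ∃ t ∈ mult p, φ t = k := by
  obtain ⟨φ₀, hφ₀⟩ := exists_freeGroup_lift p τ hτ.1
  let φ := cLift p τ hτ.2.1 φ₀ hφ₀
  have hcomp : τ.comp φ = cProj p := cLift_comp p τ hτ.2.1 φ₀ hφ₀
  have hsup : φ.range ⊔ τ.ker = ⊤ := by
    rw [eq_top_iff]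
    intro δ _
    obtain ⟨e, he⟩ := cProj_surjective p hp (τ δ)
    have h1 : δ = φ e * ((φ e)⁻¹ * δ) := by group
    rw [h1]
    have hmem1 : φ e ∈ φ.range := ⟨e, rfl⟩
    have hmem2 : (φ e)⁻¹ * δ ∈ τ.ker := by
      rw [MonoidHom.mem_ker, map_mul, map_inv, ← MonoidHom.comp_apply, hcomp, he]
      group
    exact Subgroup.mul_mem_sup hmem1 hmem2
  have hcomm : commutator Δ ≤ φ.range :=
    (commutator_le_of_sup_central φ.range τ.ker hτ.2.1 hsup).trans (Subgroup.commutator_le_self _)
  have hrange : φ.range = ⊤ := by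
    rw [← hsup, eq_comm, sup_eq_left]
    exact hτ.2.2.trans hcomm
  have hsurj : Function.Surjective φ := MonoidHom.range_eq_top.1 hrange
  refine ⟨φ, hcomp, hsurj, ?_⟩
  intro k hk
  have hk' : k ∈ (commutator (CE p)).map φ := by
    rw [map_commutator_eq, hrange, ← commutator_def]
    exact hτ.2.2 hk
  obtain ⟨t, ht, rfl⟩ := hk'
  have htk : t ∈ (cProj p).ker := by
    rw [MonoidHom.mem_ker, ← hcomp, MonoidHom.comp_apply]
    exact hk
  exact ⟨t, ⟨htk, ht⟩, rfl⟩


/-- (A3'): complements of the multiplier inside the kernel -/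
theorem exists_complement_mult [Finite α] [Finite G] (N : Subgroup (CE p))
    (hNA : N ≤ (cProj p).ker) (hN : mult p ⊔ N = (cProj p).ker) :
    ∃ S : Subgroup (CE p), S ≤ N ∧ S ⊓ mult p = ⊥ ∧ S ⊔ mult p = (cProj p).ker := by
  set A := (cProj p).ker with hA
  let _ : CommGroup A :=
    { (inferInstance : Group A) with
      mul_comm := fun a b => Subtype.ext
        ((Subgroup.mem_center_iff.1 (ker_cProj_le_center p b.2)) a.1) }
  have hAfi : A.FiniteIndex := by
    constructor
    rw [hA, Subgroup.index_ker]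
    exact Nat.card_pos.ne'
  have hAfg : Group.FG A := Subgroup.fg_of_index_ne_zero A
  let T' : Subgroup A := (mult p).subgroupOf A
  let N' : Subgroup A := N.subgroupOf A
  have hTfin : Finite T' :=
    Finite.of_equiv _ (Subgroup.subgroupOfEquivOfLe (mult_le_ker p)).symm.toEquiv
  have hsup' : T' ⊔ N' = ⊤ := by
    rw [← Subgroup.subgroupOf_sup (mult_le_ker p) hNA, hN, Subgroup.subgroupOf_self]
  have hT : ∀ b : A, ∀ n : ℕ, 0 < n → b ^ n ∈ T' → b ∈ T' := by
    intro b n hn hb
    rw [Subgroup.mem_subgroupOf] at hb ⊢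
    refine ⟨b.2, ?_⟩
    apply mem_commutator_of_pow_mem p _ n hn
    have := hb.2
    simpa using this
  have hN'fi : N'.FiniteIndex := by
    have hsurj : Function.Surjective (fun t : T' => (QuotientGroup.mk (t : A) : A ⧸ N')) := by
      intro q
      obtain ⟨a, rfl⟩ := QuotientGroup.mk_surjective q
      have ha : a ∈ T' ⊔ N' := by rw [hsup']; exact Subgroup.mem_top a
      obtain ⟨t, ht, n, hn, rfl⟩ := Subgroup.mem_sup.1 ha
      refine ⟨⟨t, ht⟩, ?_⟩
      show (QuotientGroup.mk t : A ⧸ N') = QuotientGroup.mk (t * n)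
      rw [QuotientGroup.eq]
      simpa using hn
    have : Finite (A ⧸ N') := Finite.of_surjective _ hsurj
    exact Subgroup.finiteIndex_of_finite_quotient
  have hN'fg : Group.FG N' := Subgroup.fg_of_index_ne_zero N'
  obtain ⟨S', hS'N, hS'T, hS'sup⟩ := exists_complement_le T' N' hT hsup'
  refine ⟨S'.map A.subtype, ?_, ?_, ?_⟩
  · rintro _ ⟨s, hs, rfl⟩
    exact Subgroup.mem_subgroupOf.1 (hS'N hs)
  · rw [eq_bot_iff]
    rintro _ ⟨⟨s, hs, rfl⟩, hx⟩
    have : s ∈ S' ⊓ T' := ⟨hs, Subgroup.mem_subgroupOf.2 hx⟩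
    rw [hS'T, Subgroup.mem_bot] at this
    rw [this, map_one]
    exact Subgroup.mem_bot.2 rfl
  · apply le_antisymm
    · exact sup_le (Subgroup.map_subtype_le _) (mult_le_ker p)
    · intro a ha
      have : (⟨a, ha⟩ : A) ∈ S' ⊔ T' := by rw [hS'sup]; exact Subgroup.mem_top _
      obtain ⟨s, hs, t, ht, hst⟩ := Subgroup.mem_sup.1 this
      have hat : a = (s : CE p) * (t : CE p) := by
        have := congrArg Subtype.val hst
        simpa using this.symm
      rw [hat]
      exact Subgroup.mul_mem_sup ⟨s, hs, rfl⟩ (Subgroup.mem_subgroupOf.1 ht)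

end General


section CoverQuot

variable {α : Type*} {G : Type*} [Group G] (p : FreeGroup α →* G)

/-- A subgroup of the (central) kernel is normal -/
theorem normal_of_le_ker (S : Subgroup (CE p)) (hS : S ≤ (cProj p).ker) : S.Normal := by
  constructor
  intro s hs g
  have := (Subgroup.mem_center_iff.1 (ker_cProj_le_center p (hS hs))) g
  rw [this]
  simpa using hs

/-- the map `E / S → G` -/
def coverMap (S : Subgroup (CE p)) [S.Normal] (hS : S ≤ (cProj p).ker) : CE p ⧸ S →* G :=
  QuotientGroup.lift S (cProj p) hS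

theorem coverMap_mk (S : Subgroup (CE p)) [S.Normal] (hS : S ≤ (cProj p).ker) (e : CE p) :
    coverMap p S hS (QuotientGroup.mk e) = cProj p e := rfl

theorem coverMap_surj (hp : Function.Surjective p) (S : Subgroup (CE p)) [S.Normal]
    (hS : S ≤ (cProj p).ker) : Function.Surjective (coverMap p S hS) := by
  intro g
  obtain ⟨e, rfl⟩ := cProj_surjective p hp g
  exact ⟨QuotientGroup.mk e, rfl⟩

theorem mem_ker_coverMap (S : Subgroup (CE p)) [S.Normal] (hS : S ≤ (cProj p).ker)
    (hsup : S ⊔ mult p = (cProj p).ker) (x : CE p ⧸ S) (hx : x ∈ (coverMap p S hS).ker) :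
    ∃ t ∈ mult p, (QuotientGroup.mk t : CE p ⧸ S) = x := by
  obtain ⟨e, rfl⟩ := QuotientGroup.mk_surjective x
  rw [MonoidHom.mem_ker, coverMap_mk, ← MonoidHom.mem_ker, ← hsup] at hx
  obtain ⟨s, hs, t, ht, rfl⟩ := Subgroup.mem_sup_of_normal_left.1 hx
  refine ⟨t, ht, ?_⟩
  rw [QuotientGroup.eq]
  have : t⁻¹ * (s * t) = t⁻¹ * s * t := by group
  rw [this]
  have hn : S.Normal := inferInstance
  have := hn.conj_mem s hs t⁻¹
  simpa using this

theorem coverMap_stem (hp : Function.Surjective p) (S : Subgroup (CE p)) [S.Normal]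
    (hS : S ≤ (cProj p).ker) (hsup : S ⊔ mult p = (cProj p).ker) :
    Cfsg.IsStemExtension (coverMap p S hS) := by
  refine ⟨coverMap_surj p hp S hS, ?_, ?_⟩
  · intro x hx
    obtain ⟨t, ht, rfl⟩ := mem_ker_coverMap p S hS hsup x hx
    have hc := Subgroup.mem_center_iff.1 (ker_cProj_le_center p (mult_le_ker p ht))
    rw [Subgroup.mem_center_iff]
    intro y
    obtain ⟨e, rfl⟩ := QuotientGroup.mk_surjective y
    rw [← QuotientGroup.mk_mul, ← QuotientGroup.mk_mul, hc e]
  · intro x hx
    obtain ⟨t, ht, rfl⟩ := mem_ker_coverMap p S hS hsup x hx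
    have : (QuotientGroup.mk' S) t ∈ (commutator (CE p)).map (QuotientGroup.mk' S) :=
      ⟨t, mult_le_commutator p ht, rfl⟩
    rw [map_commutator_eq, MonoidHom.range_eq_top.2 (QuotientGroup.mk'_surjective _)] at this
    exact this

/-- the kernel of the cover is the multiplier -/
noncomputable def coverKerEquiv (S : Subgroup (CE p)) [S.Normal]
    (hS : S ≤ (cProj p).ker) (hinf : S ⊓ mult p = ⊥) (hsup : S ⊔ mult p = (cProj p).ker) :
    mult p ≃* (coverMap p S hS).ker := by
  let f : mult p →* (coverMap p S hS).ker :=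
    { toFun := fun t => ⟨QuotientGroup.mk (t : CE p), by
        rw [MonoidHom.mem_ker, coverMap_mk, ← MonoidHom.mem_ker]
        exact mult_le_ker p t.2⟩
      map_one' := rfl
      map_mul' := fun a b => rfl }
  refine MulEquiv.ofBijective f ⟨?_, ?_⟩
  · rw [injective_iff_map_eq_one]
    intro t ht
    have h1 : (QuotientGroup.mk (t : CE p) : CE p ⧸ S) = 1 := congrArg Subtype.val ht
    rw [QuotientGroup.eq_one_iff] at h1
    have : (t : CE p) ∈ S ⊓ mult p := ⟨h1, t.2⟩
    rw [hinf, Subgroup.mem_bot] at this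
    exact Subtype.ext this
  · intro x
    obtain ⟨t, ht, hx⟩ := mem_ker_coverMap p S hS hsup x.1 x.2
    exact ⟨⟨t, ht⟩, Subtype.ext hx⟩

theorem cover_finite [Finite G] (hp : Function.Surjective p) (S : Subgroup (CE p)) [S.Normal]
    (hS : S ≤ (cProj p).ker) (hinf : S ⊓ mult p = ⊥) (hsup : S ⊔ mult p = (cProj p).ker) :
    Finite (CE p ⧸ S) := by
  have h1 : Finite (coverMap p S hS).ker :=
    Finite.of_equiv _ (coverKerEquiv p S hS hinf hsup).toEquiv
  have h2 : Finite ((CE p ⧸ S) ⧸ (coverMap p S hS).ker) :=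
    Finite.of_equiv _
      (QuotientGroup.quotientKerEquivOfSurjective _ (coverMap_surj p hp S hS)).symm.toEquiv
  exact Finite.of_subgroup_quotient (coverMap p S hS).ker

/-- Main existence: over any stem extension there is a cover with kernel the multiplier. -/
theorem exists_cover_over [Finite α] [Finite G] (hp : Function.Surjective p) {Δ : Type*} [Group Δ]
    (τ : Δ →* G) (hτ : Cfsg.IsStemExtension τ) :
    ∃ (S : Subgroup (CE p)) (_ : S.Normal) (hS : S ≤ (cProj p).ker),
      S ⊓ mult p = ⊥ ∧ S ⊔ mult p = (cProj p).ker ∧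
      ∃ β : CE p ⧸ S →* Δ, Function.Surjective β ∧ τ.comp β = coverMap p S hS := by
  obtain ⟨φ, hcomp, hsurj, hT⟩ := exists_cover_map p hp τ hτ
  have hNA : φ.ker ≤ (cProj p).ker := by
    intro e he
    rw [MonoidHom.mem_ker] at he ⊢
    rw [← hcomp, MonoidHom.comp_apply, he, map_one]
  have hN : mult p ⊔ φ.ker = (cProj p).ker := by
    apply le_antisymm (sup_le (mult_le_ker p) hNA)
    intro a ha
    have hk : φ a ∈ τ.ker := by
      rw [MonoidHom.mem_ker, ← MonoidHom.comp_apply, hcomp]
      exact ha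
    obtain ⟨t, ht, hta⟩ := hT _ hk
    have h1 : a = t * (t⁻¹ * a) := by group
    rw [h1]
    apply Subgroup.mul_mem_sup ht
    rw [MonoidHom.mem_ker, map_mul, map_inv, hta]
    group
  obtain ⟨S, hSN, hinf, hsup⟩ := exists_complement_mult p φ.ker hNA hN
  have hS : S ≤ (cProj p).ker := hSN.trans hNA
  have hn : S.Normal := normal_of_le_ker p S hS
  refine ⟨S, hn, hS, hinf, hsup, QuotientGroup.lift S φ hSN, ?_, ?_⟩
  · intro δ
    obtain ⟨e, rfl⟩ := hsurj δ
    exact ⟨QuotientGroup.mk e, rfl⟩
  · refine MonoidHom.ext fun x => ?_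
    obtain ⟨e, rfl⟩ := QuotientGroup.mk_surjective x
    show τ (φ e) = cProj p e
    rw [← hcomp]; rfl

end CoverQuot

section Packaged

universe u₁ v₁

/-- the canonical free presentation -/
def fp (G : Type u₁) [Group G] : FreeGroup G →* G := FreeGroup.lift id

theorem fp_surj (G : Type u₁) [Group G] : Function.Surjective (fp G) :=
  fun g => ⟨FreeGroup.of g, by simp [fp]⟩

/-- the surjection from the multiplier to the kernel of any stem extension -/
theorem exists_mult_surj {α : Type*} {G : Type*} [Group G] (p : FreeGroup α →* G)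
    (hp : Function.Surjective p) {Δ : Type*} [Group Δ] (τ : Δ →* G)
    (hτ : Cfsg.IsStemExtension τ) : ∃ f : mult p →* τ.ker, Function.Surjective f := by
  obtain ⟨φ, hcomp, _, hT⟩ := exists_cover_map p hp τ hτ
  let f : mult p →* τ.ker :=
    { toFun := fun t => ⟨φ (t : CE p), by
        rw [MonoidHom.mem_ker, ← MonoidHom.comp_apply, hcomp, ← MonoidHom.mem_ker]
        exact mult_le_ker p t.2⟩
      map_one' := Subtype.ext (map_one φ)
      map_mul' := fun a b => Subtype.ext (map_mul φ (a : CE p) (b : CE p)) }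
  refine ⟨f, ?_⟩
  intro k
  obtain ⟨t, ht, htk⟩ := hT k.1 k.2
  exact ⟨⟨t, ht⟩, Subtype.ext htk⟩

/-- any group `A` with `HasSchurMultiplier G A` is isomorphic to the multiplier -/
theorem mult_equiv_of_hasSchurMultiplier {G : Type u₁} [Group G] [Finite G] {A : Type v₁}
    [CommGroup A] (hA : Cfsg.HasSchurMultiplier G A) : Nonempty (mult (fp G) ≃* A) := by
  obtain ⟨⟨ΓA, _, _, σA, hσA, ⟨e2⟩⟩, hA2⟩ := hA
  have hp := fp_surj G
  -- a cover in the universe of G
  have hid : Cfsg.IsStemExtension (MonoidHom.id G) := by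
    refine ⟨Function.surjective_id, ?_, ?_⟩ <;> rw [MonoidHom.ker_id] <;> exact bot_le
  obtain ⟨S, hn, hS, hinf, hsup, -⟩ := exists_cover_over (fp G) hp (MonoidHom.id G) hid
  have hfin := cover_finite (fp G) hp S hS hinf hsup
  obtain ⟨π, hπ⟩ := hA2 (CE (fp G) ⧸ S) (coverMap (fp G) S hS) (coverMap_stem (fp G) hp S hS hsup)
  have e1 := coverKerEquiv (fp G) S hS hinf hsup
  obtain ⟨f, hf⟩ := exists_mult_surj (fp G) hp σA hσA
  have hAfin : Finite A := Finite.of_equiv _ e2.toEquiv
  let g : mult (fp G) →* A := e2.toMonoidHom.comp f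
  have hg : Function.Surjective g := e2.surjective.comp hf
  have hcard : Nat.card (mult (fp G)) ≤ Nat.card A := by
    rw [Nat.card_congr e1.toEquiv]
    exact Nat.card_le_card_of_surjective π hπ
  exact ⟨MulEquiv.ofBijective g (hg.bijective_of_nat_card_le hcard)⟩

end Packaged

end Cfsg.Agent.Helper65
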