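import Mathlib
import Cfsg.Agent.Lib.Helper65.Cover

set_option autoImplicit false

namespace Cfsg.Agent.Helper65

open scoped commutatorElement

section MultG

variable {F Q : Type*} [Group F] [Group Q] (p : F →* Q)

/-- the Hopf multiplier `(R ∩ [F,F])/[R,F]` attached to any map `p : F → Q` -/
def multG : Subgroup (CE p) := (cProj p).ker ⊓ commutator (CE p)

theorem multG_le_ker : multG p ≤ (cProj p).ker := inf_le_left
theorem multG_le_commutator : multG p ≤ commutator (CE p) := inf_le_right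

theorem mult_eq_multG {α : Type*} (q : FreeGroup α →* Q) : mult q = multG q := rfl

/-- the map `F / [R,F] → F^ab` -/
def toAbG : CE p →* Abelianization F :=
  QuotientGroup.lift (relC p) Abelianization.of (by
    intro x hx
    rw [MonoidHom.mem_ker, ← MonoidHom.mem_ker, Abelianization.ker_of]
    exact Subgroup.commutator_mono le_top le_top hx)

theorem toAbG_mk (f : F) : toAbG p (QuotientGroup.mk f) = Abelianization.of f := rfl

theorem mem_commutator_of_toAbG_eq_one (e : CE p) (h : toAbG p e = 1) : e ∈ commutator (CE p) := by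
  obtain ⟨f, rfl⟩ := QuotientGroup.mk_surjective e
  rw [toAbG_mk, ← MonoidHom.mem_ker, Abelianization.ker_of] at h
  have : (QuotientGroup.mk' (relC p)) f ∈ (commutator F).map (QuotientGroup.mk' (relC p)) :=
    Subgroup.mem_map_of_mem _ h
  rw [commutator_def, Subgroup.map_commutator] at this
  exact Subgroup.commutator_mono le_top le_top this

/-- if `F^ab` is torsion free, then so is `(F/[R,F])/commutator` -/
theorem mem_commutator_of_pow_memG
    (htf : ∀ (x : Abelianization F) (n : ℕ), 0 < n → x ^ n = 1 → x = 1)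
    (e : CE p) (n : ℕ) (hn : 0 < n)
    (h : e ^ n ∈ commutator (CE p)) : e ∈ commutator (CE p) := by
  apply mem_commutator_of_toAbG_eq_one
  apply htf _ n hn
  rw [← map_pow]
  have hk : commutator (CE p) ≤ (toAbG p).ker := by
    rw [commutator_def, Subgroup.commutator_le]
    intro a _ b _
    rw [MonoidHom.mem_ker, map_commutatorElement, commutatorElement_def]
    rw [mul_comm (toAbG p a) (toAbG p b)]
    group
  exact hk h

end MultG

section CeMap

variable {F₁ F₂ Q₁ Q₂ : Type*} [Group F₁] [Group F₂] [Group Q₁] [Group Q₂]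
  (p₁ : F₁ →* Q₁) (p₂ : F₂ →* Q₂) (φ : F₁ →* F₂) (θ : Q₁ →* Q₂) (h : p₂.comp φ = θ.comp p₁)

include h in
theorem relC_le_comap : relC p₁ ≤ (relC p₂).comap φ := by
  unfold relC
  rw [Subgroup.commutator_le]
  intro r hr f _
  rw [Subgroup.mem_comap, map_commutatorElement]
  apply Subgroup.commutator_mem_commutator _ (Subgroup.mem_top _)
  rw [MonoidHom.mem_ker] at hr ⊢
  have := DFunLike.congr_fun h r
  simp only [MonoidHom.comp_apply] at this
  rw [this, hr, map_one]

/-- the map `F₁/[R₁,F₁] → F₂/[R₂,F₂]` induced by a map of presentations -/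
def ceMap : CE p₁ →* CE p₂ :=
  QuotientGroup.map (relC p₁) (relC p₂) φ (relC_le_comap p₁ p₂ φ θ h)

theorem ceMap_mk (f : F₁) : ceMap p₁ p₂ φ θ h (QuotientGroup.mk f) = QuotientGroup.mk (φ f) := rfl

theorem cProj_ceMap (x : CE p₁) : cProj p₂ (ceMap p₁ p₂ φ θ h x) = θ (cProj p₁ x) := by
  obtain ⟨f, rfl⟩ := QuotientGroup.mk_surjective x
  rw [ceMap_mk, cProj_mk, cProj_mk]
  exact DFunLike.congr_fun h f

theorem ceMap_mem_multG (x : CE p₁) (hx : x ∈ multG p₁) : ceMap p₁ p₂ φ θ h x ∈ multG p₂ := by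
  refine ⟨?_, ?_⟩
  · show ceMap p₁ p₂ φ θ h x ∈ (cProj p₂).ker
    rw [MonoidHom.mem_ker, cProj_ceMap, MonoidHom.mem_ker.mp hx.1, map_one]
  · have h1 : ceMap p₁ p₂ φ θ h x ∈ (commutator (CE p₁)).map (ceMap p₁ p₂ φ θ h) :=
      Subgroup.mem_map_of_mem _ hx.2
    rw [commutator_def, Subgroup.map_commutator] at h1
    exact Subgroup.commutator_mono le_top le_top h1

/-- restriction of `ceMap` to the multipliers -/
def multMap : multG p₁ →* multG p₂ where
  toFun x := ⟨ceMap p₁ p₂ φ θ h x.1, ceMap_mem_multG p₁ p₂ φ θ h x.1 x.2⟩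
  map_one' := Subtype.ext (map_one _)
  map_mul' a b := Subtype.ext (map_mul _ _ _)

theorem multMap_coe (x : multG p₁) :
    ((multMap p₁ p₂ φ θ h x : multG p₂) : CE p₂) = ceMap p₁ p₂ φ θ h x.1 := rfl

end CeMap

section Uniq2

variable {X Y Q : Type*} [Group X] [Group Y] [Group Q]

/-- two maps into a central extension which agree modulo the kernel agree on the commutator
subgroup -/
theorem eq_on_commutator_of_central (π : Y →* Q) (hπ : π.ker ≤ Subgroup.center Y)
    (η η' : X →* Y) (h : π.comp η = π.comp η') (x : X) (hx : x ∈ commutator X) : η x = η' x := by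
  have hz : ∀ g : X, (η g)⁻¹ * η' g ∈ Subgroup.center Y := by
    intro g
    apply hπ
    rw [MonoidHom.mem_ker, map_mul, map_inv]
    have := DFunLike.congr_fun h g
    simp only [MonoidHom.comp_apply] at this
    rw [this]; group
  have hle : commutator X ≤ η.eqLocus η' := by
    rw [commutator_eq_closure, Subgroup.closure_le]
    rintro _ ⟨a, b, rfl⟩
    show η ⁅a, b⁆ = η' ⁅a, b⁆
    rw [map_commutatorElement, map_commutatorElement]
    have e1 : η' a = η a * ((η a)⁻¹ * η' a) := by group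
    have e2 : η' b = η b * ((η b)⁻¹ * η' b) := by group
    rw [e1, e2, commutatorElement_mul_central _ _ _ _ (hz a) (hz b)]
  exact hle hx

end Uniq2

section PresInd

variable {F₁ F₂ Q : Type*} [Group F₁] [Group F₂] [Group Q]
  (p₁ : F₁ →* Q) (p₂ : F₂ →* Q) (φ : F₁ →* F₂) (ψ : F₂ →* F₁)
  (h₁ : p₂.comp φ = p₁) (h₂ : p₁.comp ψ = p₂)

include h₁ h₂ in
theorem ceMap_ceMap_of_mem (x : CE p₁) (hx : x ∈ commutator (CE p₁)) :
    ceMap p₂ p₁ ψ (MonoidHom.id Q) (by rw [MonoidHom.id_comp]; exact h₂)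
      (ceMap p₁ p₂ φ (MonoidHom.id Q) (by rw [MonoidHom.id_comp]; exact h₁) x) = x := by
  have := eq_on_commutator_of_central (cProj p₁) (ker_cProj_le_center p₁)
    ((ceMap p₂ p₁ ψ (MonoidHom.id Q) (by rw [MonoidHom.id_comp]; exact h₂)).comp
      (ceMap p₁ p₂ φ (MonoidHom.id Q) (by rw [MonoidHom.id_comp]; exact h₁)))
    (MonoidHom.id _) (by
      ext y
      simp only [MonoidHom.comp_apply, MonoidHom.id_apply]
      rw [cProj_ceMap, cProj_ceMap]
      rfl) x hx
  simpa using this

/-- The Hopf multiplier does not depend on the presentation, as soon as the two presentations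
map to each other. -/
noncomputable def multG_equiv : multG p₁ ≃* multG p₂ where
  toFun := multMap p₁ p₂ φ (MonoidHom.id Q) (by rw [MonoidHom.id_comp]; exact h₁)
  invFun := multMap p₂ p₁ ψ (MonoidHom.id Q) (by rw [MonoidHom.id_comp]; exact h₂)
  left_inv x := Subtype.ext (ceMap_ceMap_of_mem p₁ p₂ φ ψ h₁ h₂ x.1 x.2.2)
  right_inv x := Subtype.ext (ceMap_ceMap_of_mem p₂ p₁ ψ φ h₂ h₁ x.1 x.2.2)
  map_mul' := map_mul _

end PresInd

end Cfsg.Agent.Helper65
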