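import Mathlib
import Cfsg.Agent.Lib.Helper65.HopfGen

set_option autoImplicit false

namespace Cfsg.Agent.Helper65

universe u v

/-- If the Hopf multiplier of a finite presentation of the finite group `G` is isomorphic to `A`,
then `A` is the Schur multiplier of `G`. -/
theorem hasSchurMultiplier_of_mult_equiv {α G : Type u} [Group G] [Finite G] [Finite α]
    (p : FreeGroup α →* G) (hp : Function.Surjective p) {A : Type v} [CommGroup A]
    (e : mult p ≃* A) : Cfsg.HasSchurMultiplier G A := by
  have hid : Cfsg.IsStemExtension (MonoidHom.id G) := by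
    refine ⟨Function.surjective_id, ?_, ?_⟩ <;> rw [MonoidHom.ker_id] <;> exact bot_le
  obtain ⟨S, hn, hS, hinf, hsup, -⟩ := exists_cover_over p hp (MonoidHom.id G) hid
  have hfin := cover_finite p hp S hS hinf hsup
  have e1 := coverKerEquiv p S hS hinf hsup
  refine ⟨⟨CE p ⧸ S, inferInstance, hfin, coverMap p S hS, coverMap_stem p hp S hS hsup,
    ⟨e1.symm.trans e⟩⟩, ?_⟩
  intro Γ _ _ σ hσ
  obtain ⟨f, hf⟩ := exists_mult_surj p hp σ hσ
  exact ⟨f.comp e.symm.toMonoidHom, hf.comp e.symm.surjective⟩

end Cfsg.Agent.Helper65
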