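import Mathlib
import Cfsg.Agent.Lib.Helper65.Cover

set_option autoImplicit false

namespace Cfsg.Agent.Helper65

open scoped commutatorElement

section Pull

variable {G₁ G₂ Q : Type*} [Group G₁] [Group G₂] [Group Q]

/-- general pullback of `f₁ : G₁ → Q` and `f₂ : G₂ → Q` -/
def gpb (f₁ : G₁ →* Q) (f₂ : G₂ →* Q) : Subgroup (G₁ × G₂) :=
  (f₁.comp (MonoidHom.fst G₁ G₂)).eqLocus (f₂.comp (MonoidHom.snd G₁ G₂))

theorem mem_gpb (f₁ : G₁ →* Q) (f₂ : G₂ →* Q) (z : G₁ × G₂) :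
    z ∈ gpb f₁ f₂ ↔ f₁ z.1 = f₂ z.2 := Iff.rfl

/-- first projection -/
def gpb1 (f₁ : G₁ →* Q) (f₂ : G₂ →* Q) : gpb f₁ f₂ →* G₁ :=
  (MonoidHom.fst G₁ G₂).comp (gpb f₁ f₂).subtype

/-- second projection -/
def gpb2 (f₁ : G₁ →* Q) (f₂ : G₂ →* Q) : gpb f₁ f₂ →* G₂ :=
  (MonoidHom.snd G₁ G₂).comp (gpb f₁ f₂).subtype

theorem gpb_comm (f₁ : G₁ →* Q) (f₂ : G₂ →* Q) (z : gpb f₁ f₂) :
    f₁ (gpb1 f₁ f₂ z) = f₂ (gpb2 f₁ f₂ z) := (mem_gpb f₁ f₂ z.1).1 z.2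

theorem gpb1_surj (f₁ : G₁ →* Q) (f₂ : G₂ →* Q) (h₂ : Function.Surjective f₂) :
    Function.Surjective (gpb1 f₁ f₂) := by
  intro g
  obtain ⟨x, hx⟩ := h₂ (f₁ g)
  exact ⟨⟨(g, x), hx.symm⟩, rfl⟩

theorem gpb2_surj (f₁ : G₁ →* Q) (f₂ : G₂ →* Q) (h₁ : Function.Surjective f₁) :
    Function.Surjective (gpb2 f₁ f₂) := by
  intro g
  obtain ⟨x, hx⟩ := h₁ (f₂ g)
  exact ⟨⟨(x, g), hx⟩, rfl⟩

theorem gpb_ext (f₁ : G₁ →* Q) (f₂ : G₂ →* Q) (x y : gpb f₁ f₂)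
    (h1 : gpb1 f₁ f₂ x = gpb1 f₁ f₂ y) (h2 : gpb2 f₁ f₂ x = gpb2 f₁ f₂ y) : x = y :=
  Subtype.ext (Prod.ext h1 h2)

theorem gpb1_ker_central (f₁ : G₁ →* Q) (f₂ : G₂ →* Q) (hc : f₂.ker ≤ Subgroup.center G₂) :
    (gpb1 f₁ f₂).ker ≤ Subgroup.center (gpb f₁ f₂) := by
  intro z hz
  rw [MonoidHom.mem_ker] at hz
  have hz2 : gpb2 f₁ f₂ z ∈ f₂.ker := by
    rw [MonoidHom.mem_ker, ← gpb_comm, hz, map_one]
  have hcc := Subgroup.mem_center_iff.1 (hc hz2)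
  rw [Subgroup.mem_center_iff]
  intro y
  apply gpb_ext
  · rw [map_mul, map_mul, hz, one_mul, mul_one]
  · rw [map_mul, map_mul]
    exact hcc _

end Pull

section CentralCover

variable {α : Type*} {G : Type*} [Group G] (p : FreeGroup α →* G)

/-- for a central extension `ξ : X → G`, `ker ξ ∩ X'` is covered by the multiplier -/
theorem exists_central_cover_map (hp : Function.Surjective p) {X : Type*} [Group X] (ξ : X →* G)
    (hξs : Function.Surjective ξ) (hξc : ξ.ker ≤ Subgroup.center X) :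
    ∃ φ : CE p →* X, ξ.comp φ = cProj p ∧
      ∀ k ∈ ξ.ker ⊓ commutator X, ∃ t ∈ mult p, φ t = k := by
  obtain ⟨φ₀, hφ₀⟩ := exists_freeGroup_lift p ξ hξs
  let φ := cLift p ξ hξc φ₀ hφ₀
  have hcomp : ξ.comp φ = cProj p := cLift_comp p ξ hξc φ₀ hφ₀
  have hsup : φ.range ⊔ ξ.ker = ⊤ := by
    rw [eq_top_iff]
    intro δ _
    obtain ⟨e, he⟩ := cProj_surjective p hp (ξ δ)
    have h1 : δ = φ e * ((φ e)⁻¹ * δ) := by group
    rw [h1]
    have hmem1 : φ e ∈ φ.range := ⟨e, rfl⟩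
    have hmem2 : (φ e)⁻¹ * δ ∈ ξ.ker := by
      rw [MonoidHom.mem_ker, map_mul, map_inv, ← MonoidHom.comp_apply, hcomp, he]
      group
    exact Subgroup.mul_mem_sup hmem1 hmem2
  have hcomm : commutator X ≤ (commutator (CE p)).map φ := by
    rw [map_commutator_eq]
    exact commutator_le_of_sup_central φ.range ξ.ker hξc hsup
  refine ⟨φ, hcomp, ?_⟩
  rintro k ⟨hk1, hk2⟩
  obtain ⟨t, ht, rfl⟩ := hcomm hk2
  have htk : t ∈ (cProj p).ker := by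
    rw [MonoidHom.mem_ker, ← hcomp, MonoidHom.comp_apply]
    exact hk1
  exact ⟨t, ⟨htk, ht⟩, rfl⟩

/-- if the multiplier is trivial, central extensions meet the derived subgroup trivially -/
theorem ker_inf_commutator_eq_bot (hp : Function.Surjective p) (hm : mult p = ⊥) {X : Type*}
    [Group X] (ξ : X →* G) (hξs : Function.Surjective ξ) (hξc : ξ.ker ≤ Subgroup.center X) :
    ξ.ker ⊓ commutator X = ⊥ := by
  obtain ⟨φ, -, hφ⟩ := exists_central_cover_map p hp ξ hξs hξc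
  rw [eq_bot_iff]
  intro k hk
  obtain ⟨t, ht, rfl⟩ := hφ k hk
  rw [hm, Subgroup.mem_bot] at ht
  rw [ht, map_one]
  exact Subgroup.mem_bot.2 rfl

end CentralCover

section TrivialMult

universe u₁

theorem mult_eq_bot_of_trivial {G : Type u₁} [Group G] [Finite G]
    (hG : Cfsg.HasCyclicSchurMultiplier G 1) : mult (fp G) = ⊥ := by
  obtain ⟨e⟩ := mult_equiv_of_hasSchurMultiplier hG
  rw [eq_bot_iff]
  intro t ht
  have h1 : e ⟨t, ht⟩ = e 1 := Subsingleton.elim (α := ZMod 1) _ _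
  have h2 := e.injective h1
  rw [Subgroup.mem_bot]
  exact congrArg Subtype.val h2

end TrivialMult

end Cfsg.Agent.Helper65
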