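import Mathlib
import Cfsg.Agent.Lib.Helper62.SUO0
import Cfsg.Agent.Lib.Helper42.SUOReg

/-!
# SUO (S2282, helper62 server), piece (U2): a unitriangular element (in the hyperbolic basis `b`) with
nonzero superdiagonal is regular unipotent. A wrapper over `Helper42.SUO.regular_of_co`.

NOTE: the server's stub has no hypothesis `1 ≤ n`; for `n = 0` the statement is false (the matrix ring
over `Fin 0` is trivial, so `(u - 1) ^ (0 - 1) = 1 = 0`). `regular_of_supNZ` below therefore carries the
extra explicit hypothesis `hn : 1 ≤ n` right after `hb`.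
-/

set_option autoImplicit false
set_option linter.unusedSectionVars false
set_option linter.unusedVariables false
set_option quotPrecheck false

namespace Cfsg.Agent.Helper65.SUO

open Matrix Cfsg Cfsg.Agent.Helper13 Cfsg.Agent.Helper87.PsuA Cfsg.Agent.Helper62.SUO

section U
variable {F : Type*} [Field F] [Fintype F] {q n : ℕ} (hF : Fintype.card F = q ^ 2)
  {b : Fin n → Fin n → F}

local notation "V" => Fin n → F
local notation "G" => ↥(Cfsg.SU n F q)
local notation "H" => Cfsg.hermForm n F q

include hF

/-- (U2) `rhoM q b u = Qm * mat u * Pm` is upper unitriangular with nonzero superdiagonal;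
`Helper65.SRT4 tri_regular` with `lv i = n - 1 - i`, then conjugate back (`Pm_mul_Qm`).
Extra hypothesis `hn : 1 ≤ n` (the statement is false for `n = 0`). -/
theorem regular_of_supNZ (hb : HB q b) (hn : 1 ≤ n) {u : G} (hu : u ∈ Usub hb) (hs : SupNZ q b u) :
    IsNilpotent (((u : Matrix.SpecialLinearGroup (Fin n) F) : Matrix (Fin n) (Fin n) F) - 1) ∧
    (((u : Matrix.SpecialLinearGroup (Fin n) F) : Matrix (Fin n) (Fin n) F) - 1) ^ (n - 1) ≠ 0 :=
  Cfsg.Agent.Helper42.SUO.regular_of_co hb hn u ((mem_Usub_iff hb).1 hu) hs

end U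

end Cfsg.Agent.Helper65.SUO
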