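import Mathlib
import Cfsg.Agent.Lib.Helper62.SUO0
import Cfsg.Agent.Lib.Helper12.SUOCyc

/-!
# SUO (S2282, helper62 server), piece (U3): cyclicity of a unitriangular element with nonzero
superdiagonal, in the form needed by `Hyp.cyc`. A wrapper over `Helper12.SUO.h12_cyc`.
-/

set_option autoImplicit false
set_option linter.unusedSectionVars false
set_option linter.unusedVariables false
set_option quotPrecheck false

namespace Cfsg.Agent.Helper65.SUO

open Matrix Cfsg Cfsg.Agent.Helper13 Cfsg.Agent.Helper87.PsuA Cfsg.Agent.Helper62.SUO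

section U
variable {F : Type*} [Field F] [Fintype F] {q n : ℕ} (hF : Fintype.card F = q ^ 2)
  {b : Fin n → Fin n → F}

local notation "V" => Fin n → F
local notation "G" => ↥(Cfsg.SU n F q)
local notation "H" => Cfsg.hermForm n F q

include hF

/-- `H (b i) x = 0` iff the coordinate `rev i` of `x` vanishes -/
theorem h65_perp_iff (i : Fin n) (x : V) : H (b i) x = 0 ↔ co q b x (Fin.rev i) = 0 := by
  rw [H_b_right hF]
  constructor
  · intro h
    exact pow_eq_zero_iff (q_pos hF).ne' |>.1 h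
  · intro h
    rw [h, frob_zero hF]

/-- (U3) `Helper65.SRT3 tri_cyclic` in the coordinates `co q b`, `lv i = n - 1 - i`:
`co x (n-1) = 0` iff `H e0 x = 0`, `co p (n-2) ≠ 0` iff `H e1 p ≠ 0` -/
theorem cyc_of_supNZ (hb : HB q b) {u : G} (hu : u ∈ Usub hb) (hs : SupNZ q b u)
    (i0 i1 : Fin n) (h0 : i0.val = 0) (h1 : i1.val = 1) (p : V) (hp0 : H (b i0) p = 0)
    (hp1 : H (b i1) p ≠ 0) :
    ∀ S : Submodule F V, p ∈ S → (∀ x ∈ S, actv u x ∈ S) → ∀ x, H (b i0) x = 0 → x ∈ S := by
  intro S hpS hS x hx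
  have hlow := (mem_Usub_iff hb).1 hu
  have key : ∀ y : V, H (b i0) y = 0 → ∀ i, Fin.rev i1 < i → co q b y i = 0 := by
    intro y hy i hi
    have hi' : i = Fin.rev i0 := by
      apply Fin.ext
      have h2 : (Fin.rev i1).val < i.val := hi
      rw [Fin.val_rev] at h2
      rw [Fin.val_rev]
      have := i.isLt
      omega
    rw [hi']
    exact (h65_perp_iff hF i0 y).1 hy
  have hpj : co q b p (Fin.rev i1) ≠ 0 := by
    intro h
    exact hp1 ((h65_perp_iff hF i1 p).2 h)
  exact Cfsg.Agent.Helper12.SUO.h12_cyc hF hb u hlow hs S hS (Fin.rev i1) p hpS hpj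
    (key p hp0) x (key x hx)

end U

end Cfsg.Agent.Helper65.SUO
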