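import Mathlib

set_option autoImplicit false
set_option linter.unusedSectionVars false

namespace Cfsg.Agent.Helper65.AG24

open Set Pointwise

section Design

variable {X : Type*} [Finite X] (L : Set (Set X))

/-- Two lines are parallel if they are equal or disjoint. -/
def Par (l m : Set X) : Prop := l = m ∨ Disjoint l m

theorem par_refl (l : Set X) : Par l l := Or.inl rfl

theorem par_symm {l m : Set X} (h : Par l m) : Par m l := by
  rcases h with h | h
  · exact Or.inl h.symm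
  · exact Or.inr h.symm

variable {L}
variable (hX : Nat.card X = 16) (hL4 : ∀ l ∈ L, l.ncard = 4)
  (huniq : ∀ a b : X, a ≠ b → ∃! l, l ∈ L ∧ a ∈ l ∧ b ∈ l)

include huniq in
theorem eq_of_two_points {l m : Set X} (hl : l ∈ L) (hm : m ∈ L) {a b : X} (hab : a ≠ b)
    (hal : a ∈ l) (hbl : b ∈ l) (ham : a ∈ m) (hbm : b ∈ m) : l = m :=
  (huniq a b hab).unique ⟨hl, hal, hbl⟩ ⟨hm, ham, hbm⟩

/-- The line through two points. -/
noncomputable def ln (huniq : ∀ a b : X, a ≠ b → ∃! l, l ∈ L ∧ a ∈ l ∧ b ∈ l) (a b : X) : Set X :=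
  open Classical in if h : a ≠ b then Classical.choose (huniq a b h).exists else ∅

theorem ln_spec {a b : X} (h : a ≠ b) : ln huniq a b ∈ L ∧ a ∈ ln huniq a b ∧ b ∈ ln huniq a b := by
  unfold ln
  rw [dif_pos h]
  exact Classical.choose_spec (huniq a b h).exists

include hL4 huniq in
theorem ncard_union_lines (p : X) (S : Finset (Set X)) (hS : ∀ m ∈ S, m ∈ L ∧ p ∈ m) :
    (({p} : Set X) ∪ ⋃ m ∈ S, m).ncard = 1 + 3 * S.card := by
  classical
  induction S using Finset.induction_on with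
  | empty => simp
  | insert m0 S' hm0 ih =>
    have hS' : ∀ m ∈ S', m ∈ L ∧ p ∈ m := fun m hm => hS m (Finset.mem_insert_of_mem hm)
    have ih' := ih hS'
    obtain ⟨hm0L, hpm0⟩ := hS m0 (Finset.mem_insert_self _ _)
    have hset : (({p} : Set X) ∪ ⋃ m ∈ insert m0 S', m) =
        (({p} : Set X) ∪ ⋃ m ∈ S', m) ∪ (m0 \ {p}) := by
      ext x
      simp only [Finset.mem_insert, mem_union, mem_singleton_iff, mem_iUnion, exists_prop,
        mem_sdiff]
      constructor
      · rintro (h | ⟨m, (rfl | hm), hx⟩)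
        · exact Or.inl (Or.inl h)
        · by_cases hxp : x = p
          · exact Or.inl (Or.inl hxp)
          · exact Or.inr ⟨hx, hxp⟩
        · exact Or.inl (Or.inr ⟨m, hm, hx⟩)
      · rintro ((h | ⟨m, hm, hx⟩) | ⟨hx, _⟩)
        · exact Or.inl h
        · exact Or.inr ⟨m, Or.inr hm, hx⟩
        · exact Or.inr ⟨m0, Or.inl rfl, hx⟩
    have hdisj : Disjoint (({p} : Set X) ∪ ⋃ m ∈ S', m) (m0 \ {p}) := by
      rw [Set.disjoint_left]
      rintro x hx ⟨hxm0, hxp⟩
      simp only [mem_union, mem_singleton_iff, mem_iUnion, exists_prop] at hx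
      rcases hx with hx | ⟨m, hm, hxm⟩
      · exact hxp hx
      · obtain ⟨hmL, hpm⟩ := hS' m hm
        have : m = m0 := eq_of_two_points huniq hmL hm0L (a := x) (b := p) hxp hxm hpm hxm0 hpm0
        exact hm0 (this ▸ hm)
    have h3 : (m0 \ {p}).ncard = 3 := by
      rw [Set.ncard_sdiff_singleton_of_mem hpm0, hL4 m0 hm0L]
    rw [hset, Set.ncard_union_eq hdisj (Set.toFinite _) (Set.toFinite _), ih', h3,
      Finset.card_insert_of_notMem hm0]
    ring

include hX hL4 huniq in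
theorem card_lines_le (p : X) (S : Finset (Set X)) (hS : ∀ m ∈ S, m ∈ L ∧ p ∈ m) :
    S.card ≤ 5 := by
  have h := ncard_union_lines hL4 huniq p S hS
  have h2 := Set.ncard_le_card (({p} : Set X) ∪ ⋃ m ∈ S, m)
  rw [hX] at h2
  omega

include hX hL4 huniq in
theorem exists_parallel {l : Set X} (hl : l ∈ L) {p : X} (hp : p ∉ l) :
    ∃ m ∈ L, p ∈ m ∧ Disjoint m l := by
  classical
  set lf : Finset X := (Set.toFinite l).toFinset with hlf
  have hlfcard : lf.card = 4 := by
    rw [← hL4 l hl, Set.ncard_eq_toFinset_card l (Set.toFinite l)]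
  have hne : ∀ q ∈ lf, p ≠ q := by
    intro q hq h
    rw [hlf, Set.Finite.mem_toFinset] at hq
    exact hp (h ▸ hq)
  set S : Finset (Set X) := lf.image (fun q => ln huniq p q) with hS
  have hSmem : ∀ m ∈ S, m ∈ L ∧ p ∈ m := by
    intro m hm
    rw [hS, Finset.mem_image] at hm
    obtain ⟨q, hq, rfl⟩ := hm
    exact ⟨(ln_spec huniq (hne q hq)).1, (ln_spec huniq (hne q hq)).2.1⟩
  have hcard := ncard_union_lines hL4 huniq p S hSmem
  have hSle : S.card ≤ 4 := by
    rw [← hlfcard]; exact Finset.card_image_le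
  have hlt : (({p} : Set X) ∪ ⋃ m ∈ S, m).ncard < Nat.card X := by rw [hcard, hX]; omega
  have hnuniv : (({p} : Set X) ∪ ⋃ m ∈ S, m) ≠ Set.univ := by
    intro h
    rw [h, Set.ncard_univ] at hlt
    exact lt_irrefl _ hlt
  obtain ⟨r, hr⟩ := (Set.ne_univ_iff_exists_notMem _).1 hnuniv
  simp only [mem_union, mem_singleton_iff, mem_iUnion, exists_prop, not_or, not_exists,
    not_and] at hr
  obtain ⟨hrp, hrS⟩ := hr
  have hpr : p ≠ r := fun h => hrp h.symm
  obtain ⟨hmL, hpm, hrm⟩ := ln_spec huniq hpr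
  refine ⟨ln huniq p r, hmL, hpm, ?_⟩
  rw [Set.disjoint_left]
  intro q hqm hql
  have hqlf : q ∈ lf := by rw [hlf, Set.Finite.mem_toFinset]; exact hql
  have hpq := hne q hqlf
  obtain ⟨h1, h2, h3⟩ := ln_spec huniq hpq
  have : ln huniq p r = ln huniq p q := eq_of_two_points huniq hmL h1 hpq hpm hqm h2 h3
  apply hrS (ln huniq p q) (Finset.mem_image_of_mem _ hqlf)
  rw [← this]; exact hrm

include hX hL4 huniq in
theorem parallel_unique {l : Set X} (hl : l ∈ L) {p : X} (hp : p ∉ l) {m m' : Set X}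
    (hm : m ∈ L) (hm' : m' ∈ L) (hpm : p ∈ m) (hpm' : p ∈ m') (hml : Disjoint m l)
    (hm'l : Disjoint m' l) : m = m' := by
  classical
  by_contra hmm'
  set lf : Finset X := (Set.toFinite l).toFinset with hlf
  have hlfcard : lf.card = 4 := by
    rw [← hL4 l hl, Set.ncard_eq_toFinset_card l (Set.toFinite l)]
  have hmemlf : ∀ q, q ∈ lf ↔ q ∈ l := by
    intro q; rw [hlf, Set.Finite.mem_toFinset]
  have hne : ∀ q ∈ lf, p ≠ q := by
    intro q hq h
    exact hp (h ▸ (hmemlf q).1 hq)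
  set T : Finset (Set X) := lf.image (fun q => ln huniq p q) with hT
  have hTcard : T.card = 4 := by
    rw [← hlfcard]
    apply Finset.card_image_of_injOn
    intro q hq q' hq' heq
    by_contra hqq'
    have hq1 := (hmemlf q).1 hq
    have hq'1 := (hmemlf q').1 hq'
    obtain ⟨h1, h2, h3⟩ := ln_spec huniq (hne q hq)
    obtain ⟨h1', h2', h3'⟩ := ln_spec huniq (hne q' hq')
    simp only at heq
    have : ln huniq p q = l :=
      eq_of_two_points huniq h1 hl hqq' h3 (heq ▸ h3') hq1 hq'1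
    exact hp (this ▸ h2)
  have hTmem : ∀ n ∈ T, n ∈ L ∧ p ∈ n ∧ ¬ Disjoint n l := by
    intro n hn
    rw [hT, Finset.mem_image] at hn
    obtain ⟨q, hq, rfl⟩ := hn
    obtain ⟨h1, h2, h3⟩ := ln_spec huniq (hne q hq)
    refine ⟨h1, h2, ?_⟩
    rw [Set.not_disjoint_iff]
    exact ⟨q, h3, (hmemlf q).1 hq⟩
  have hmT : m ∉ T := fun h => (hTmem m h).2.2 hml
  have hm'T : m' ∉ T := fun h => (hTmem m' h).2.2 hm'l
  set S : Finset (Set X) := insert m (insert m' T) with hS
  have hScard : S.card = 6 := by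
    rw [hS, Finset.card_insert_of_notMem, Finset.card_insert_of_notMem hm'T, hTcard]
    rw [Finset.mem_insert, not_or]
    exact ⟨hmm', hmT⟩
  have hSmem : ∀ n ∈ S, n ∈ L ∧ p ∈ n := by
    intro n hn
    rw [hS, Finset.mem_insert, Finset.mem_insert] at hn
    rcases hn with rfl | rfl | hn
    · exact ⟨hm, hpm⟩
    · exact ⟨hm', hpm'⟩
    · exact ⟨(hTmem n hn).1, (hTmem n hn).2.1⟩
  have := card_lines_le hX hL4 huniq p S hSmem
  omega

include hX hL4 huniq in
theorem par_trans {l m n : Set X} (hl : l ∈ L) (hm : m ∈ L) (hn : n ∈ L) (h1 : Par l m)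
    (h2 : Par m n) : Par l n := by
  rcases h1 with rfl | h1
  · exact h2
  rcases h2 with rfl | h2
  · exact Or.inr h1
  by_cases hln : l = n
  · exact Or.inl hln
  right
  rw [Set.disjoint_left]
  intro p hpl hpn
  apply hln
  have hpm : p ∉ m := fun h => (Set.disjoint_left.1 h1) hpl h
  exact parallel_unique hX hL4 huniq hm hpm hl hn hpl hpn h1 h2.symm

/-- The parallel class of a line. -/
def cls (L : Set (Set X)) (l : Set X) : Set (Set X) := {m | m ∈ L ∧ Par m l}

include hX hL4 huniq in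
theorem cls_eq_of_par {l m : Set X} (hl : l ∈ L) (hm : m ∈ L) (h : Par l m) : cls L l = cls L m := by
  ext n
  constructor
  · rintro ⟨hn, hnl⟩
    exact ⟨hn, par_trans hX hL4 huniq hn hl hm hnl h⟩
  · rintro ⟨hn, hnm⟩
    exact ⟨hn, par_trans hX hL4 huniq hn hm hl hnm (par_symm h)⟩

include hX hL4 huniq in
theorem ncard_classes_le : (cls L '' L).ncard ≤ 5 := by
  classical
  have hne : Nonempty X := by
    by_contra h
    rw [not_nonempty_iff] at h
    rw [Nat.card_of_isEmpty] at hX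
    omega
  obtain ⟨p⟩ := hne
  set Lp : Set (Set X) := {m | m ∈ L ∧ p ∈ m} with hLp
  have hsub : cls L '' L ⊆ cls L '' Lp := by
    rintro c ⟨l, hl, rfl⟩
    by_cases hp : p ∈ l
    · exact ⟨l, ⟨hl, hp⟩, rfl⟩
    · obtain ⟨m, hm, hpm, hml⟩ := exists_parallel hX hL4 huniq hl hp
      exact ⟨m, ⟨hm, hpm⟩, cls_eq_of_par hX hL4 huniq hm hl (Or.inr hml)⟩
  have h1 : (cls L '' L).ncard ≤ (cls L '' Lp).ncard := Set.ncard_le_ncard hsub (Set.toFinite _)
  have h2 : (cls L '' Lp).ncard ≤ Lp.ncard := Set.ncard_image_le (Set.toFinite _)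
  have h3 : Lp.ncard ≤ 5 := by
    rw [Set.ncard_eq_toFinset_card Lp (Set.toFinite Lp)]
    apply card_lines_le hX hL4 huniq p
    intro m hm
    rw [Set.Finite.mem_toFinset] at hm
    exact hm
  omega

end Design

section Action

variable {G X : Type*} [Group G] [MulAction G X] [Finite X]

theorem par_smul_iff (g : G) (l m : Set X) : Par (g • l) (g • m) ↔ Par l m := by
  unfold Par
  rw [Set.disjoint_smul_set, smul_left_cancel_iff]

theorem exists_subgroup_index_le_five (hX : Nat.card X = 16) (L : Set (Set X))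
    (hL4 : ∀ l ∈ L, l.ncard = 4)
    (hinv : ∀ (g : G), ∀ l ∈ L, (fun a => g • a) '' l ∈ L)
    (huniq : ∀ a b : X, a ≠ b → ∃! l, l ∈ L ∧ a ∈ l ∧ b ∈ l)
    (l0 : Set X) (hl0 : l0 ∈ L) :
    ∃ K : Subgroup G, K.index ≠ 0 ∧ K.index ≤ 5 ∧
      ∀ g : G, g ∈ K ↔ ((fun a => g • a) '' l0 = l0 ∨ Disjoint ((fun a => g • a) '' l0) l0) := by
  have hinv' : ∀ (g : G), ∀ l ∈ L, g • l ∈ L := by
    intro g l hl
    have := hinv g l hl
    rwa [Set.image_smul] at this
  have hcls : ∀ (g : G), ∀ l ∈ L, g • cls L l = cls L (g • l) := by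
    intro g l hl
    ext m
    constructor
    · rintro ⟨n, ⟨hn, hnl⟩, rfl⟩
      exact ⟨hinv' g n hn, (par_smul_iff g n l).2 hnl⟩
    · rintro ⟨hm, hml⟩
      refine ⟨g⁻¹ • m, ⟨hinv' g⁻¹ m hm, ?_⟩, smul_inv_smul g m⟩
      rw [← par_smul_iff g, smul_inv_smul]
      exact hml
  refine ⟨MulAction.stabilizer G (cls L l0), ?_, ?_, ?_⟩
  · rw [MulAction.index_stabilizer]
    exact Set.ncard_ne_zero_of_mem (MulAction.mem_orbit_self _) (Set.toFinite _)
  · rw [MulAction.index_stabilizer]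
    have hsub : MulAction.orbit G (cls L l0) ⊆ cls L '' L := by
      rintro c ⟨g, rfl⟩
      change g • cls L l0 ∈ _
      rw [hcls g l0 hl0]
      exact ⟨g • l0, hinv' g l0 hl0, rfl⟩
    exact (Set.ncard_le_ncard hsub (Set.toFinite _)).trans (ncard_classes_le hX hL4 huniq)
  · intro g
    rw [MulAction.mem_stabilizer_iff, hcls g l0 hl0, Set.image_smul]
    change _ ↔ Par (g • l0) l0
    constructor
    · intro h
      have : g • l0 ∈ cls L (g • l0) := ⟨hinv' g l0 hl0, par_refl _⟩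
      rw [h] at this
      exact this.2
    · intro h
      exact cls_eq_of_par hX hL4 huniq (hinv' g l0 hl0) hl0 h

end Action

end Cfsg.Agent.Helper65.AG24
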