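import Mathlib

set_option autoImplicit false

/-!
Finite abelian groups: a quotient embeds back (non-canonically) via duality.
-/

namespace Cfsg.Agent.Helper65

/-- A homomorphic image of a finite abelian group embeds into it. -/
theorem exists_inj_of_surj {B K : Type*} [CommGroup B] [Finite B] [CommGroup K] (f : B →* K)
    (hf : Function.Surjective f) : ∃ j : K →* B, Function.Injective j := by
  have : Finite K := Finite.of_surjective f hf
  have hB : Monoid.exponent B ≠ 0 := Monoid.exponent_ne_zero_of_finite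
  have hK : Monoid.exponent K ≠ 0 := Monoid.exponent_ne_zero_of_finite
  have : NeZero ((Monoid.exponent B : ℕ) : ℂ) := ⟨Nat.cast_ne_zero.2 hB⟩
  have : NeZero ((Monoid.exponent K : ℕ) : ℂ) := ⟨Nat.cast_ne_zero.2 hK⟩
  obtain ⟨eB⟩ := CommGroup.monoidHom_mulEquiv_of_hasEnoughRootsOfUnity B ℂ
  obtain ⟨eK⟩ := CommGroup.monoidHom_mulEquiv_of_hasEnoughRootsOfUnity K ℂ
  let d : (K →* ℂˣ) →* (B →* ℂˣ) := MonoidHom.compHom' f
  have hd : Function.Injective d := by
    intro χ ψ h
    have h' : χ.comp f = ψ.comp f := h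
    exact (MonoidHom.cancel_right hf).1 h'
  refine ⟨eB.toMonoidHom.comp (d.comp eK.symm.toMonoidHom), ?_⟩
  intro x y h
  have h1 : d (eK.symm x) = d (eK.symm y) := eB.injective h
  exact eK.symm.injective (hd h1)

/-- A subgroup of a homomorphic image of a finite abelian group `B` is isomorphic to a subgroup of `B`. -/
theorem exists_subgroup_equiv_of_surj_inj {B K R : Type*} [CommGroup B] [Finite B] [CommGroup K] [Group R]
    (f : B →* K) (hf : Function.Surjective f) (g : R →* K) (hg : Function.Injective g) :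
    ∃ C : Subgroup B, Nonempty (R ≃* C) := by
  obtain ⟨j, hj⟩ := exists_inj_of_surj f hf
  exact ⟨(j.comp g).range, ⟨MonoidHom.ofInjective (f := j.comp g) (hj.comp hg)⟩⟩

end Cfsg.Agent.Helper65
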