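import Mathlib

set_option autoImplicit false

namespace Cfsg.Agent.Helper65

open scoped Function

/-- a product of cyclic groups `ZMod (n i)` with pairwise coprime `n i` is cyclic -/
theorem isCyclic_pi_zmod_of_coprime {ι : Type} [Fintype ι] (n : ι → ℕ)
    (hcop : Pairwise (Nat.Coprime on n)) : IsCyclic ((i : ι) → Multiplicative (ZMod (n i))) := by
  let f : Multiplicative (ZMod (∏ i, n i)) →* ((i : ι) → Multiplicative (ZMod (n i))) :=
    { toFun := fun k i => Multiplicative.ofAdd (ZMod.prodEquivPi n hcop (Multiplicative.toAdd k) i)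
      map_one' := by
        funext i
        simp
      map_mul' := by
        intro x y
        funext i
        simp [map_add] }
  have hf : Function.Surjective f := by
    intro g
    obtain ⟨k, hk⟩ := (ZMod.prodEquivPi n hcop).surjective (fun i => Multiplicative.toAdd (g i))
    refine ⟨Multiplicative.ofAdd k, ?_⟩
    funext i
    show Multiplicative.ofAdd (ZMod.prodEquivPi n hcop (Multiplicative.toAdd (Multiplicative.ofAdd k)) i) = g i
    rw [toAdd_ofAdd, hk]
    rfl
  exact isCyclic_of_surjective f hf

/-- data for a noncyclic finite abelian group -/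
theorem not_cyclic_data (G : Type*) [CommGroup G] [Finite G] (h : ¬ IsCyclic G) :
    ∃ (ι : Type) (_ : Fintype ι) (n : ι → ℕ) (_ : G ≃* ((i : ι) → Multiplicative (ZMod (n i))))
      (i j : ι) (p : ℕ), i ≠ j ∧ p.Prime ∧ p ∣ n i ∧ p ∣ n j ∧ ∀ i, 1 < n i := by
  obtain ⟨ι, _, n, hn, ⟨e⟩⟩ := CommGroup.equiv_prod_multiplicative_zmod_of_finite G
  by_cases hcop : Pairwise (Nat.Coprime on n)
  · exfalso
    apply h
    have := isCyclic_pi_zmod_of_coprime n hcop
    exact isCyclic_of_surjective e.symm.toMonoidHom e.symm.surjective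
  · rw [Pairwise] at hcop
    push Not at hcop
    obtain ⟨i, j, hij, hnc⟩ := hcop
    obtain ⟨p, hp, hpi, hpj⟩ := Nat.Prime.not_coprime_iff_dvd.1 hnc
    exact ⟨ι, inferInstance, n, e, i, j, p, hij, hp, hpi, hpj, hn⟩

/-- a noncyclic finite abelian group maps onto `(ZMod p)²` for some prime `p` -/
theorem exists_surj_zmod_sq_of_not_cyclic (G : Type*) [CommGroup G] [Finite G] (h : ¬ IsCyclic G) :
    ∃ (p : ℕ) (_ : p.Prime) (χ : G →* Multiplicative (ZMod p × ZMod p)), Function.Surjective χ := by
  classical
  obtain ⟨ι, _, n, e, i, j, p, hij, hp, hpi, hpj, hn⟩ := not_cyclic_data G h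
  refine ⟨p, hp, ?_⟩
  let ci : ZMod (n i) →+* ZMod p := ZMod.castHom hpi (ZMod p)
  let cj : ZMod (n j) →+* ZMod p := ZMod.castHom hpj (ZMod p)
  let χ : G →* Multiplicative (ZMod p × ZMod p) :=
    { toFun := fun g => Multiplicative.ofAdd
        (ci (Multiplicative.toAdd (e g i)), cj (Multiplicative.toAdd (e g j)))
      map_one' := by simp
      map_mul' := by
        intro x y
        simp only [map_mul, Pi.mul_apply, toAdd_mul, map_add]
        rfl }
  refine ⟨χ, ?_⟩
  intro w
  obtain ⟨u, hu⟩ := ZMod.ringHom_surjective ci (Multiplicative.toAdd w).1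
  obtain ⟨v, hv⟩ := ZMod.ringHom_surjective cj (Multiplicative.toAdd w).2
  let f : (k : ι) → Multiplicative (ZMod (n k)) :=
    Function.update (Function.update 1 i (Multiplicative.ofAdd u)) j (Multiplicative.ofAdd v)
  refine ⟨e.symm f, ?_⟩
  show Multiplicative.ofAdd
        (ci (Multiplicative.toAdd (e (e.symm f) i)), cj (Multiplicative.toAdd (e (e.symm f) j))) = w
  rw [MulEquiv.apply_symm_apply]
  have h1 : f i = Multiplicative.ofAdd u := by
    show Function.update (Function.update (1 : (k : ι) → Multiplicative (ZMod (n k))) i (Multiplicative.ofAdd u)) j (Multiplicative.ofAdd v) i = _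
    rw [Function.update_of_ne hij, Function.update_self]
  have h2 : f j = Multiplicative.ofAdd v := by
    show Function.update (Function.update (1 : (k : ι) → Multiplicative (ZMod (n k))) i (Multiplicative.ofAdd u)) j (Multiplicative.ofAdd v) j = _
    rw [Function.update_self]
  rw [h1, h2, toAdd_ofAdd, toAdd_ofAdd, hu, hv]
  rfl

end Cfsg.Agent.Helper65
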