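import Mathlib
import Cfsg.Agent.Lib.Helper65.Abelian

set_option autoImplicit false

namespace Cfsg.Agent.Helper65

/-- the embedding `ZMod p → ZMod n` for `p ∣ n`, `1 ↦ n / p` -/
noncomputable def zmodEmb (p n : ℕ) (h : p ∣ n) : ZMod p →+ ZMod n :=
  ZMod.lift p ⟨zmultiplesHom (ZMod n) ((n / p : ℕ) : ZMod n), by
    show (zmultiplesHom (ZMod n) ((n / p : ℕ) : ZMod n)) (p : ℤ) = 0
    rw [zmultiplesHom_apply, natCast_zsmul, nsmul_eq_mul, ← Nat.cast_mul, Nat.mul_div_cancel' h,
      ZMod.natCast_self]⟩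

theorem zmodEmb_one (p n : ℕ) (h : p ∣ n) : zmodEmb p n h 1 = ((n / p : ℕ) : ZMod n) := by
  have : (1 : ZMod p) = ((1 : ℤ) : ZMod p) := by simp
  rw [zmodEmb, this, ZMod.lift_coe, zmultiplesHom_apply, one_smul]

theorem zmodEmb_injective (p n : ℕ) (hp : p.Prime) (h : p ∣ n) (hn : 1 < n) :
    Function.Injective (zmodEmb p n h) := by
  have : Fact p.Prime := ⟨hp⟩
  rw [injective_iff_map_eq_zero]
  intro a ha
  by_contra hne
  -- a is a unit in the field ZMod p
  have h1 : zmodEmb p n h 1 = 0 := by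
    have : (1 : ZMod p) = a⁻¹.val • a := by
      rw [nsmul_eq_mul, ZMod.natCast_zmod_val, inv_mul_cancel₀ hne]
    rw [this, map_nsmul, ha, smul_zero]
  rw [zmodEmb_one, ZMod.natCast_eq_zero_iff] at h1
  have hpos : 0 < n / p := Nat.div_pos (Nat.le_of_dvd (by omega) h) hp.pos
  have hlt : n / p < n := Nat.div_lt_self (by omega) hp.one_lt
  exact absurd (Nat.le_of_dvd hpos h1) (by omega)

/-- a noncyclic finite abelian group contains `(ZMod p)²` for some prime `p` -/
theorem exists_inj_zmod_sq_of_not_cyclic (G : Type*) [CommGroup G] [Finite G] (h : ¬ IsCyclic G) :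
    ∃ (p : ℕ) (_ : p.Prime) (ψ : Multiplicative (ZMod p × ZMod p) →* G), Function.Injective ψ := by
  classical
  obtain ⟨ι, _, n, e, i, j, p, hij, hp, hpi, hpj, hn⟩ := not_cyclic_data G h
  refine ⟨p, hp, ?_⟩
  let fi := zmodEmb p (n i) hpi
  let fj := zmodEmb p (n j) hpj
  let ψ₀ : Multiplicative (ZMod p × ZMod p) →* ((k : ι) → Multiplicative (ZMod (n k))) :=
    { toFun := fun w => Pi.mulSingle i (Multiplicative.ofAdd (fi (Multiplicative.toAdd w).1)) *
        Pi.mulSingle j (Multiplicative.ofAdd (fj (Multiplicative.toAdd w).2))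
      map_one' := by
        simp
      map_mul' := by
        intro x y
        simp only [toAdd_mul, Prod.fst_add, Prod.snd_add, map_add, ofAdd_add, Pi.mulSingle_mul]
        exact mul_mul_mul_comm _ _ _ _ }
  refine ⟨e.symm.toMonoidHom.comp ψ₀, ?_⟩
  apply e.symm.injective.comp
  rw [injective_iff_map_eq_one]
  intro w hw
  have hi : (ψ₀ w) i = 1 := by rw [hw]; rfl
  have hj : (ψ₀ w) j = 1 := by rw [hw]; rfl
  have hi' : (ψ₀ w) i = Multiplicative.ofAdd (fi (Multiplicative.toAdd w).1) := by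
    show ((Pi.mulSingle i (Multiplicative.ofAdd (fi (Multiplicative.toAdd w).1)) *
        Pi.mulSingle j (Multiplicative.ofAdd (fj (Multiplicative.toAdd w).2)) :
        (k : ι) → Multiplicative (ZMod (n k)))) i = _
    rw [Pi.mul_apply, Pi.mulSingle_eq_same, Pi.mulSingle_eq_of_ne hij, mul_one]
  have hj' : (ψ₀ w) j = Multiplicative.ofAdd (fj (Multiplicative.toAdd w).2) := by
    show ((Pi.mulSingle i (Multiplicative.ofAdd (fi (Multiplicative.toAdd w).1)) *
        Pi.mulSingle j (Multiplicative.ofAdd (fj (Multiplicative.toAdd w).2)) :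
        (k : ι) → Multiplicative (ZMod (n k)))) j = _
    rw [Pi.mul_apply, Pi.mulSingle_eq_same, Pi.mulSingle_eq_of_ne (Ne.symm hij), one_mul]
  rw [hi'] at hi
  rw [hj'] at hj
  have h1 : fi (Multiplicative.toAdd w).1 = 0 := Multiplicative.ofAdd.injective hi
  have h2 : fj (Multiplicative.toAdd w).2 = 0 := Multiplicative.ofAdd.injective hj
  have h3 := (injective_iff_map_eq_zero fi).1 (zmodEmb_injective p (n i) hp hpi (hn i)) _ h1
  have h4 := (injective_iff_map_eq_zero fj).1 (zmodEmb_injective p (n j) hp hpj (hn j)) _ h2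
  apply Multiplicative.toAdd.injective
  exact Prod.ext h3 h4

end Cfsg.Agent.Helper65
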