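import Cfsg.Agent.Lib.Helper65.BG11b
import Cfsg.Agent.Lib.Helper79.BG11b2
import Cfsg.Agent.Lib.Helper24.BG11.Facts
import Cfsg.Agent.S1412

/-!
# B-G 11.5 / 11.6 under Hypothesis 11.1: the full clause (b) and the `Facts` bundle

Assembly of `Helper65.BG11b` (`A ≤ Z(P)`, `Ω₁(P) = A`), `Helper79.BG11b2.sylow_comm`
(`C_S(A)` abelian) and `Helper33.BG11I` (11.3, (d), (f2)).
-/

set_option autoImplicit false

namespace Cfsg.Agent.Helper65.BG11b

open Subgroup Cfsg
open Cfsg.Agent.Helper33.BG11I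
open Cfsg.Agent.Helper24.BG11 (Exc Facts)

variable {G : Type*} [Group G] [Finite G]

/-- Sylow `p`-subgroups of `M` are abelian (B-G 11.5), under Hypothesis 11.1. -/
theorem sylow_comm (hG : Cfsg.IsMinSimpleOddOrder G) {M A A0 : Subgroup G} {p : ℕ}
    (hE : Exc M p A A0) : ∀ P : Sylow p M, IsMulCommutative (P : Subgroup M) := by
  have hpp : Fact p.Prime := hE.fact
  have hp : p ∈ Cfsg.tau2 M := exc_tau2 hG hE
  obtain ⟨P0, hAP⟩ :=
    exists_sylow_ge (Cfsg.Agent.Helper34.BG.isElementaryAbelian_isPGroup hE.elem) hE.le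
  have hAmax : ∀ B : Subgroup G, Cfsg.IsElementaryAbelian p B → A ≤ B → B = A :=
    (Cfsg.Agent.S1408.result hG M hE.coatom p hp.2.1 hp.2.2.1 hp.2.2.2).2 A hE.le hE.elem hE.card
  exact Cfsg.Agent.Helper79.BG11b2.sylow_comm hG p
    (fun S hr => Cfsg.Agent.S1412.result hG p S hr) M hE.coatom A hE.hA hE.cent_le hAmax P0 hAP
    (le_center hG hE P0 hAP)

/-- **Clause (b) of B-G 12.5 under Hypothesis 11.1** (the shape of the frozen S1417). -/
theorem clause_b (hG : Cfsg.IsMinSimpleOddOrder G) {M A A0 : Subgroup G} {p : ℕ}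
    (hE : Exc M p A A0) : ∀ P : Sylow p M, IsMulCommutative (P : Subgroup M) ∧
      (A ≤ (P : Subgroup M).map M.subtype →
        (∀ x ∈ (P : Subgroup M).map M.subtype, x ^ p = 1 ↔ x ∈ A) ∧
        ¬ Subgroup.normalizer ((((P : Subgroup M).map M.subtype : Subgroup G)) : Set G) ≤ M) := by
  intro P
  refine ⟨sylow_comm hG hE P, fun hAP => ?_⟩
  exact (omega_eq hG hE P hAP).2

/-- the field `syl` of `Helper24.BG11.Facts`. -/
theorem facts_syl (hG : Cfsg.IsMinSimpleOddOrder G) {M A A0 : Subgroup G} {p : ℕ}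
    (hE : Exc M p A A0) : ∀ P : Sylow p M, IsMulCommutative (P : Subgroup M) ∧
      (A ≤ (P : Subgroup M).map M.subtype →
        ∀ x ∈ (P : Subgroup M).map M.subtype, x ^ p = 1 → x ∈ A) := by
  intro P
  refine ⟨sylow_comm hG hE P, fun hAP x hx hxp => ?_⟩
  exact ((omega_eq hG hE P hAP).2.1 x hx).1 hxp

/-- **The `Facts` bundle of B-G section 11** (11.3, 11.5, 11.6) for a minimal simple group of odd
order, from Hypothesis 11.1 alone. -/
theorem facts (hG : Cfsg.IsMinSimpleOddOrder G) : Facts G where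
  ne_bot := fun _ hM => sigmaCore_ne_bot hG hM
  nil := fun hE => exc_nilpotent hG hE
  syl := fun hE => facts_syl hG hE
  norm := fun hE => normalizer_not_le hG hE
  cent := fun hE => exc_d hG hE (normalizer_not_le hG hE)
  fpf2 := fun hE => exc_f2 hG hE (normalizer_not_le hG hE)

end Cfsg.Agent.Helper65.BG11b
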