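import Mathlib

set_option autoImplicit false

namespace Cfsg.Agent.Helper65

namespace SL2Mult

open Polynomial

variable {F : Type*} [Field F] [Fintype F]

theorem exists_not_root (P : F[X]) (hP : P ≠ 0) (hdeg : P.natDegree < Fintype.card F) :
    ∃ x, P.eval x ≠ 0 := by
  classical
  by_contra h
  push Not at h
  have hsub : (Finset.univ : Finset F) ⊆ P.roots.toFinset := by
    intro x _
    rw [Multiset.mem_toFinset, mem_roots hP]
    exact h x
  have h1 : Fintype.card F ≤ P.roots.toFinset.card := by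
    rw [← Finset.card_univ]; exact Finset.card_le_card hsub
  have h2 : P.roots.toFinset.card ≤ Multiset.card P.roots := Multiset.toFinset_card_le _
  have h3 := P.card_roots'
  omega

/-- a bi-additive map invariant under nonzero squares vanishes as soon as there are two
consecutive nonzero squares `λ, λ + 1` with `λ² + λ + 1 ≠ 0` -/
theorem form_trivial_of_good {M : Type*} [Group M] (c : F → F → M)
    (hadd1 : ∀ x x' y, c (x + x') y = c x y * c x' y)
    (hadd2 : ∀ x y y', c x (y + y') = c x y * c x y')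
    (hinv : ∀ a : F, a ≠ 0 → ∀ x y, c (a ^ 2 * x) (a ^ 2 * y) = c x y)
    (s t : F) (hs : s ≠ 0) (ht : t ≠ 0) (hst : t ^ 2 = s ^ 2 + 1)
    (hk : (s ^ 2) ^ 2 + s ^ 2 + 1 ≠ 0) : ∀ x y, c x y = 1 := by
  have hs2 : s ^ 2 ≠ 0 := pow_ne_zero 2 hs
  have ht2 : t ^ 2 ≠ 0 := pow_ne_zero 2 ht
  -- moving a square to the other side
  have hmove : ∀ a : F, a ≠ 0 → ∀ x y, c (a ^ 2 * x) y = c x ((a ^ 2)⁻¹ * y) := by
    intro a ha x y
    have h := hinv a⁻¹ (inv_ne_zero ha) (a ^ 2 * x) y
    rw [← h]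
    congr 1
    · field_simp
    · rw [inv_pow]
  have hzero2 : ∀ x, c x 0 = 1 := by
    intro x
    have := hadd2 x 0 0
    rw [add_zero] at this
    exact (mul_eq_left (a := c x 0)).1 this.symm |> fun h => h
  have hsub2 : ∀ x a b, c x (a - b) = c x a * (c x b)⁻¹ := by
    intro x a b
    have := hadd2 x (a - b) b
    rw [sub_add_cancel] at this
    rw [this]; group
  -- the key relation
  have key : ∀ x y, c x ((t ^ 2)⁻¹ * y) = c x ((s ^ 2)⁻¹ * y + y) := by
    intro x y
    have h1 : c (t ^ 2 * x) y = c x ((t ^ 2)⁻¹ * y) := hmove t ht x y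
    have h2 : c (t ^ 2 * x) y = c (s ^ 2 * x) y * c x y := by
      rw [hst, add_mul, one_mul, hadd1]
    rw [← h1, h2, hmove s hs x y, ← hadd2]
  set κ : F := (t ^ 2)⁻¹ - ((s ^ 2)⁻¹ + 1) with hκ
  have hκne : κ ≠ 0 := by
    rw [hκ, hst]
    have h1 : s ^ 2 + 1 ≠ 0 := hst ▸ ht2
    intro h
    apply hk
    field_simp at h
    linear_combination -h
  have hvan : ∀ x y, c x (κ * y) = 1 := by
    intro x y
    have : κ * y = (t ^ 2)⁻¹ * y - ((s ^ 2)⁻¹ * y + y) := by rw [hκ]; ring
    rw [this, hsub2, key, mul_inv_cancel]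
  intro x y
  have := hvan x (κ⁻¹ * y)
  rwa [← mul_assoc, mul_inv_cancel₀ hκne, one_mul] at this

end SL2Mult

end Cfsg.Agent.Helper65
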