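import Mathlib
import Cfsg.Agent.Lib.Helper65.SL2Mult3
import Cfsg.Agent.Lib.Helper65.Schur

set_option autoImplicit false

namespace Cfsg.Agent.Helper65

namespace BorelAbs

open scoped commutatorElement

section LemmaX

variable {Γ : Type*} [Group Γ]

/-- the commutator map `x ↦ h x h⁻¹ x⁻¹` -/
def phi (h x : Γ) : Γ := h * x * h⁻¹ * x⁻¹

variable (U : Subgroup Γ) [hUn : U.Normal] (hab : ∀ x ∈ U, ∀ y ∈ U, x * y = y * x)

include hUn in
theorem phi_mem (h : Γ) {x : Γ} (hx : x ∈ U) : phi h x ∈ U := by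
  unfold phi
  exact U.mul_mem (hUn.conj_mem x hx h) (U.inv_mem hx)

include hUn hab in
theorem phi_mul (h : Γ) {x y : Γ} (hx : x ∈ U) (hy : y ∈ U) :
    phi h (x * y) = phi h x * phi h y := by
  unfold phi
  have hB : h * y * h⁻¹ * y⁻¹ ∈ U := phi_mem U h hy
  have key := hab _ (U.inv_mem hx) _ hB
  have e1 : h * (x * y) * h⁻¹ * (x * y)⁻¹ = h * x * h⁻¹ * ((h * y * h⁻¹ * y⁻¹) * x⁻¹) := by group
  rw [e1, ← key]
  group

include hUn hab in
theorem phi_conj (h : Γ) (hcomm : ∀ g : Γ, g * h * g⁻¹ * h⁻¹ ∈ U) (g : Γ) {x : Γ} (hx : x ∈ U) :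
    g * phi h x * g⁻¹ = phi h (g * x * g⁻¹) := by
  unfold phi
  have hX : g * x * g⁻¹ ∈ U := hUn.conj_mem x hx g
  have hm : g * h * g⁻¹ * h⁻¹ ∈ U := hcomm g
  have hhX : h * (g * x * g⁻¹) * h⁻¹ ∈ U := hUn.conj_mem _ hX h
  have key := hab _ hm _ hhX
  have e1 : g * (h * x * h⁻¹ * x⁻¹) * g⁻¹ =
      (g * h * g⁻¹ * h⁻¹) * (h * (g * x * g⁻¹) * h⁻¹) * (g * h * g⁻¹ * h⁻¹)⁻¹ * (g * x * g⁻¹)⁻¹ := by
    group
  rw [e1, key, mul_inv_cancel_right]

/-- the image of `phi h` on `U` -/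
def P1 (hab : ∀ x ∈ U, ∀ y ∈ U, x * y = y * x) (h : Γ) : Subgroup Γ where
  carrier := {y | ∃ x ∈ U, y = phi h x}
  one_mem' := ⟨1, U.one_mem, by unfold phi; group⟩
  mul_mem' := by
    rintro _ _ ⟨x, hx, rfl⟩ ⟨y, hy, rfl⟩
    exact ⟨x * y, U.mul_mem hx hy, (phi_mul U hab h hx hy).symm⟩
  inv_mem' := by
    rintro _ ⟨x, hx, rfl⟩
    refine ⟨x⁻¹, U.inv_mem hx, ?_⟩
    have h1 := phi_mul U hab h hx (U.inv_mem hx)
    rw [mul_inv_cancel] at h1
    have h2 : phi h (1 : Γ) = 1 := by unfold phi; group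
    rw [h2] at h1
    exact inv_eq_of_mul_eq_one_right h1.symm

theorem mem_P1 (h : Γ) (y : Γ) : y ∈ P1 U hab h ↔ ∃ x ∈ U, y = phi h x := Iff.rfl

theorem P1_le (h : Γ) : P1 U hab h ≤ U := by
  rintro _ ⟨x, hx, rfl⟩
  exact phi_mem U h hx

theorem P1_normal (h : Γ) (hcomm : ∀ g : Γ, g * h * g⁻¹ * h⁻¹ ∈ U) : (P1 U hab h).Normal := by
  constructor
  rintro _ ⟨x, hx, rfl⟩ g
  exact ⟨g * x * g⁻¹, hUn.conj_mem x hx g, phi_conj U hab h hcomm g hx⟩

include hUn hab in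
/-- **Lemma X.** -/
theorem inf_commutator_eq_bot [IsCyclic (Γ ⧸ U)] (Z : Subgroup Γ) (hZ : Z ≤ Subgroup.center Γ)
    (h : Γ) (hcomm : ∀ g : Γ, g * h * g⁻¹ * h⁻¹ ∈ U)
    (h1 : ∀ x ∈ U, phi h x ∈ Z → x ∈ Z)
    (h2 : ∀ y ∈ U, ∃ x ∈ U, ∃ z ∈ Z, y = phi h x * z) :
    Z ⊓ commutator Γ = ⊥ := by
  have hN : (P1 U hab h).Normal := P1_normal U hab h hcomm
  -- `P₁ ∩ Z = 1`
  have hPZ : ∀ y ∈ P1 U hab h, y ∈ Z → y = 1 := by
    rintro _ ⟨x, hx, rfl⟩ hy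
    have hxZ := h1 x hx hy
    have := Subgroup.mem_center_iff.1 (hZ hxZ) h
    unfold phi
    rw [this, mul_inv_cancel_right, mul_inv_cancel]
  -- `Γ / P₁` is abelian
  let f : Γ ⧸ P1 U hab h →* Γ ⧸ U :=
    QuotientGroup.map (P1 U hab h) U (MonoidHom.id Γ) (by
      intro y hy
      exact P1_le U hab h hy)
  have hker : f.ker ≤ Subgroup.center (Γ ⧸ P1 U hab h) := by
    intro q hq
    obtain ⟨g, rfl⟩ := QuotientGroup.mk_surjective q
    rw [MonoidHom.mem_ker] at hq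
    have hgU : g ∈ U := by
      have : f (QuotientGroup.mk g) = QuotientGroup.mk g := rfl
      rw [this, QuotientGroup.eq_one_iff] at hq
      exact hq
    obtain ⟨x, hx, z, hz, rfl⟩ := h2 g hgU
    have hmk : (QuotientGroup.mk (phi h x * z) : Γ ⧸ P1 U hab h) = QuotientGroup.mk z := by
      rw [QuotientGroup.mk_mul]
      have : (QuotientGroup.mk (phi h x) : Γ ⧸ P1 U hab h) = 1 := by
        rw [QuotientGroup.eq_one_iff]
        exact ⟨x, hx, rfl⟩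
      rw [this, one_mul]
    rw [hmk, Subgroup.mem_center_iff]
    intro q'
    obtain ⟨g', rfl⟩ := QuotientGroup.mk_surjective q'
    rw [← QuotientGroup.mk_mul, ← QuotientGroup.mk_mul, Subgroup.mem_center_iff.1 (hZ hz) g']
  have hcommQ : ∀ a b : Γ ⧸ P1 U hab h, a * b = b * a :=
    commutative_of_cyclic_center_quotient f hker
  have hle : commutator Γ ≤ P1 U hab h := by
    rw [commutator_eq_closure, Subgroup.closure_le]
    rintro _ ⟨a, b, rfl⟩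
    rw [SetLike.mem_coe, ← QuotientGroup.eq_one_iff, ← QuotientGroup.mk'_apply,
      map_commutatorElement, commutatorElement_eq_one_iff_mul_comm]
    exact hcommQ _ _
  rw [eq_bot_iff]
  intro y hy
  rw [Subgroup.mem_inf] at hy
  rw [Subgroup.mem_bot]
  exact hPZ y (hle hy.2) hy.1

end LemmaX

end BorelAbs

end Cfsg.Agent.Helper65
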