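import Mathlib
import Cfsg.Agent.Lib.Helper65.BorelAbs

set_option autoImplicit false

namespace Cfsg.Agent.Helper65

namespace BorelAbs

open scoped commutatorElement

/-- existence of good parameters: two consecutive nonzero squares `λ, λ + 1` with
`λ² + λ + 1 ≠ 0` -/
def Good (F : Type*) [Field F] : Prop :=
  ∃ s t : F, s ≠ 0 ∧ t ≠ 0 ∧ t ^ 2 = s ^ 2 + 1 ∧ (s ^ 2) ^ 2 + s ^ 2 + 1 ≠ 0

section Main

variable {F : Type*} [Field F] [Fintype F] {Γ : Type*} [Group Γ]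
  (d : Γ →* Fˣ) (Z : Subgroup Γ) (hZ : Z ≤ Subgroup.center Γ) (hZU : Z ≤ d.ker) (ξ : Γ → F)
  (hadd : ∀ x ∈ d.ker, ∀ y ∈ d.ker, ξ (x * y) = ξ x + ξ y)
  (hzero : ∀ x ∈ d.ker, ξ x = 0 ↔ x ∈ Z)
  (hsurj : ∀ t : F, ∃ x ∈ d.ker, ξ x = t)
  (hconj : ∀ g : Γ, ∀ x ∈ d.ker, ξ (g * x * g⁻¹) = ((d g : Fˣ) : F) ^ 2 * ξ x)
  (hd : Function.Surjective d)

include hadd in
theorem xi_one : ξ 1 = 0 := by
  have := hadd 1 d.ker.one_mem 1 d.ker.one_mem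
  rw [mul_one] at this
  exact left_eq_add.1 this

include hadd in
theorem xi_inv {x : Γ} (hx : x ∈ d.ker) : ξ x⁻¹ = - ξ x := by
  have := hadd x hx x⁻¹ (d.ker.inv_mem hx)
  rw [mul_inv_cancel, xi_one d ξ hadd] at this
  exact eq_neg_of_add_eq_zero_right this.symm

include hadd hzero in
theorem eq_mul_of_xi_eq {x x' : Γ} (hx : x ∈ d.ker) (hx' : x' ∈ d.ker) (h : ξ x = ξ x') :
    ∃ z ∈ Z, x' = x * z := by
  refine ⟨x⁻¹ * x', ?_, by group⟩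
  rw [← hzero _ (d.ker.mul_mem (d.ker.inv_mem hx) hx'), hadd _ (d.ker.inv_mem hx) _ hx',
    xi_inv d ξ hadd hx, h, neg_add_cancel]

include hadd hzero in
theorem comm_mem {x y : Γ} (hx : x ∈ d.ker) (hy : y ∈ d.ker) : ⁅x, y⁆ ∈ Z := by
  have hxy : x * y ∈ d.ker := d.ker.mul_mem hx hy
  have hxi : x⁻¹ ∈ d.ker := d.ker.inv_mem hx
  have hyi : y⁻¹ ∈ d.ker := d.ker.inv_mem hy
  have hmem : ⁅x, y⁆ ∈ d.ker := by
    rw [commutatorElement_def]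
    exact d.ker.mul_mem (d.ker.mul_mem hxy hxi) hyi
  rw [← hzero _ hmem, commutatorElement_def, hadd _ (d.ker.mul_mem hxy hxi) _ hyi,
    hadd _ hxy _ hxi, hadd _ hx _ hy, xi_inv d ξ hadd hx, xi_inv d ξ hadd hy]
  ring

include hZ hadd hzero in
theorem comm_congr {x x' y y' : Γ} (hx : x ∈ d.ker) (hx' : x' ∈ d.ker) (hy : y ∈ d.ker)
    (hy' : y' ∈ d.ker) (h1 : ξ x = ξ x') (h2 : ξ y = ξ y') : ⁅x', y'⁆ = ⁅x, y⁆ := by
  obtain ⟨z₁, hz₁, rfl⟩ := eq_mul_of_xi_eq d Z ξ hadd hzero hx hx' h1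
  obtain ⟨z₂, hz₂, rfl⟩ := eq_mul_of_xi_eq d Z ξ hadd hzero hy hy' h2
  exact commutatorElement_mul_central x y z₁ z₂ (hZ hz₁) (hZ hz₂)

include hZ hadd hzero hsurj hconj hd in
theorem abelian (hgood : Good F) : ∀ x ∈ d.ker, ∀ y ∈ d.ker, x * y = y * x := by
  classical
  obtain ⟨s, t, hs, ht, hst, hk⟩ := hgood
  choose ℓ hℓU hℓ using hsurj
  let c : F → F → Γ := fun a b => ⁅ℓ a, ℓ b⁆
  have hcZ : ∀ a b, c a b ∈ Subgroup.center Γ := fun a b =>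
    hZ (comm_mem d Z ξ hadd hzero (hℓU a) (hℓU b))
  have hc : ∀ x ∈ d.ker, ∀ y ∈ d.ker, ⁅x, y⁆ = c (ξ x) (ξ y) := by
    intro x hx y hy
    exact comm_congr d Z hZ ξ hadd hzero (hℓU _) hx (hℓU _) hy (hℓ _) (hℓ _)
  have hadd1 : ∀ a a' b, c (a + a') b = c a b * c a' b := by
    intro a a' b
    have h1 : c (a + a') b = ⁅ℓ a * ℓ a', ℓ b⁆ := by
      refine comm_congr d Z hZ ξ hadd hzero (d.ker.mul_mem (hℓU a) (hℓU a')) (hℓU _) (hℓU b)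
        (hℓU b) ?_ rfl
      rw [hadd _ (hℓU a) _ (hℓU a'), hℓ, hℓ, hℓ]
    rw [h1]
    have e : ⁅ℓ a * ℓ a', ℓ b⁆ = ℓ a * ⁅ℓ a', ℓ b⁆ * (ℓ a)⁻¹ * ⁅ℓ a, ℓ b⁆ := by
      simp only [commutatorElement_def]; group
    have hcen : ∀ g : Γ, g * ⁅ℓ a', ℓ b⁆ = ⁅ℓ a', ℓ b⁆ * g :=
      Subgroup.mem_center_iff.1 (hcZ a' b)
    rw [e, hcen (ℓ a), mul_inv_cancel_right]
    exact (hcen _).symm
  have hadd2 : ∀ a b b', c a (b + b') = c a b * c a b' := by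
    intro a b b'
    have h1 : c a (b + b') = ⁅ℓ a, ℓ b * ℓ b'⁆ := by
      refine comm_congr d Z hZ ξ hadd hzero (hℓU a) (hℓU a)
        (d.ker.mul_mem (hℓU b) (hℓU b')) (hℓU _) rfl ?_
      rw [hadd _ (hℓU b) _ (hℓU b'), hℓ, hℓ, hℓ]
    rw [h1]
    have e : ⁅ℓ a, ℓ b * ℓ b'⁆ = ⁅ℓ a, ℓ b⁆ * (ℓ b * ⁅ℓ a, ℓ b'⁆ * (ℓ b)⁻¹) := by
      simp only [commutatorElement_def]; group
    have hcen : ∀ g : Γ, g * ⁅ℓ a, ℓ b'⁆ = ⁅ℓ a, ℓ b'⁆ * g :=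
      Subgroup.mem_center_iff.1 (hcZ a b')
    rw [e, hcen (ℓ b), mul_inv_cancel_right]
  have hinv : ∀ a : F, a ≠ 0 → ∀ x y, c (a ^ 2 * x) (a ^ 2 * y) = c x y := by
    intro a ha x y
    obtain ⟨g, hg⟩ := hd (Units.mk0 a ha)
    have hgx : g * ℓ x * g⁻¹ ∈ d.ker := (inferInstance : d.ker.Normal).conj_mem _ (hℓU x) g
    have hgy : g * ℓ y * g⁻¹ ∈ d.ker := (inferInstance : d.ker.Normal).conj_mem _ (hℓU y) g
    have h1 : c (a ^ 2 * x) (a ^ 2 * y) = ⁅g * ℓ x * g⁻¹, g * ℓ y * g⁻¹⁆ := by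
      refine comm_congr d Z hZ ξ hadd hzero hgx (hℓU _) hgy (hℓU _) ?_ ?_
      · rw [hconj g _ (hℓU x), hg, hℓ, hℓ, Units.val_mk0]
      · rw [hconj g _ (hℓU y), hg, hℓ, hℓ, Units.val_mk0]
    rw [h1]
    have e : ⁅g * ℓ x * g⁻¹, g * ℓ y * g⁻¹⁆ = g * ⁅ℓ x, ℓ y⁆ * g⁻¹ := by
      simp only [commutatorElement_def]; group
    have hcen : ∀ g : Γ, g * ⁅ℓ x, ℓ y⁆ = ⁅ℓ x, ℓ y⁆ * g :=
      Subgroup.mem_center_iff.1 (hcZ x y)
    rw [e, hcen g, mul_inv_cancel_right]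
  have htriv := SL2Mult.form_trivial_of_good c hadd1 hadd2 hinv s t hs ht hst hk
  intro x hx y hy
  rw [← commutatorElement_eq_one_iff_mul_comm, hc x hx y hy, htriv]

include hZ hadd hzero hsurj hconj hd in
/-- **abstract Borel lemma** -/
theorem main (hgood : Good F) (ha : ∃ a : Fˣ, (a : F) ^ 2 ≠ 1) : Z ⊓ commutator Γ = ⊥ := by
  have hab := abelian d Z hZ ξ hadd hzero hsurj hconj hd hgood
  obtain ⟨a, ha⟩ := ha
  obtain ⟨h, hh⟩ := hd a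
  have hcyc : IsCyclic (Γ ⧸ d.ker) :=
    isCyclic_of_injective (QuotientGroup.kerLift d) (QuotientGroup.kerLift_injective d)
  have hcomm : ∀ g : Γ, g * h * g⁻¹ * h⁻¹ ∈ d.ker := by
    intro g
    rw [MonoidHom.mem_ker, map_mul, map_mul, map_mul, map_inv, map_inv, mul_comm (d g),
      mul_inv_cancel_right, mul_inv_cancel]
  have hxi_phi : ∀ x ∈ d.ker, ξ (phi h x) = ((a : F) ^ 2 - 1) * ξ x := by
    intro x hx
    unfold phi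
    rw [hadd _ ((inferInstance : d.ker.Normal).conj_mem _ hx h) _ (d.ker.inv_mem hx),
      hconj h x hx, xi_inv d ξ hadd hx, hh]
    ring
  have ha1 : (a : F) ^ 2 - 1 ≠ 0 := sub_ne_zero.2 ha
  refine inf_commutator_eq_bot d.ker hab Z hZ h hcomm ?_ ?_
  · intro x hx hZx
    rw [← hzero x hx]
    have := (hzero _ (phi_mem d.ker h hx)).2 hZx
    rw [hxi_phi x hx] at this
    exact (mul_eq_zero.1 this).resolve_left ha1
  · intro y hy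
    obtain ⟨x, hx, hxy⟩ := hsurj (ξ y / ((a : F) ^ 2 - 1))
    refine ⟨x, hx, (phi h x)⁻¹ * y, ?_, by group⟩
    have hp := phi_mem d.ker h hx
    rw [← hzero _ (d.ker.mul_mem (d.ker.inv_mem hp) hy), hadd _ (d.ker.inv_mem hp) _ hy,
      xi_inv d ξ hadd hp, hxi_phi x hx, hxy]
    field_simp
    ring

end Main

end BorelAbs

end Cfsg.Agent.Helper65
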