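import Mathlib
import Cfsg.Agent.Lib.Helper65.Pull

set_option autoImplicit false

namespace Cfsg.Agent.Helper65

open scoped commutatorElement

universe u

/-- in a finite group, an element killed by two coprime exponents is trivial -/
theorem eq_one_of_pow_coprime {X : Type*} [Group X] (x : X) (d e : ℕ) (hcop : Nat.Coprime d e)
    (hd : x ^ d = 1) (he : x ^ e = 1) : x = 1 := by
  have h1 : orderOf x ∣ d := orderOf_dvd_of_pow_eq_one hd
  have h2 : orderOf x ∣ e := orderOf_dvd_of_pow_eq_one he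
  exact orderOf_eq_one_iff.mp (Nat.eq_one_of_dvd_coprimes hcop h1 h2)

/-- roots: if `k ^ e = 1` and `d` is coprime to `e` then `k` has a `d`-th root which is a power
of `k` -/
theorem exists_zpow_root {X : Type*} [Group X] (k : X) (d e : ℕ) (hcop : Nat.Coprime d e)
    (he : k ^ e = 1) : ∃ a : ℤ, (k ^ a) ^ d = k := by
  refine ⟨Int.gcdA d e, ?_⟩
  have h := Int.gcd_eq_gcd_ab d e
  rw [Int.gcd_natCast_natCast, hcop.gcd_eq_one] at h
  have h2 : (k ^ (Int.gcdA d e)) ^ d = k ^ ((d : ℤ) * Int.gcdA d e) := by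
    rw [← zpow_natCast, ← zpow_mul, mul_comm]
  have h3 : k ^ ((e : ℤ) * Int.gcdB d e) = 1 := by
    rw [zpow_mul, zpow_natCast, he, one_zpow]
  have h4 : k ^ (((d : ℤ) * Int.gcdA d e) + (e : ℤ) * Int.gcdB d e) = k := by
    rw [← h]; simp
  rw [zpow_add, h3, mul_one] at h4
  rw [h2, h4]

section

variable {Q : Type u} [Group Q] [Finite Q] {Γ₁ Γ₂ : Type u} [Group Γ₁] [Finite Γ₁] [Group Γ₂]
  [Finite Γ₂] (σ₁ : Γ₁ →* Q) (σ₂ : Γ₂ →* Q)

/-- **Uniqueness of the Schur cover over `Q`** when `#Qᵃᵇ` is coprime to `#M(Q)`. -/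
theorem cover_unique_of_coprime (h₁ : Cfsg.IsStemExtension σ₁) (h₂ : Cfsg.IsStemExtension σ₂)
    (e : ℕ) (hc₁ : Nat.card σ₁.ker = e) (hc₂ : Nat.card σ₂.ker = e)
    (hM : Nat.card (mult (fp Q)) = e)
    (hcop : Nat.Coprime (Nat.card (Abelianization Q)) e) :
    ∃ ε : Γ₁ ≃* Γ₂, σ₂.comp ε.toMonoidHom = σ₁ := by
  obtain ⟨s₁, c₁, d₁⟩ := h₁
  obtain ⟨s₂, c₂, d₂⟩ := h₂
  set d := Nat.card (Abelianization Q) with hd
  -- the pullback
  set P := gpb σ₁ σ₂ with hP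
  set π₁ := gpb1 σ₁ σ₂ with hπ₁
  set π₂ := gpb2 σ₁ σ₂ with hπ₂
  have hπ₁s : Function.Surjective π₁ := gpb1_surj σ₁ σ₂ s₂
  have hπ₂s : Function.Surjective π₂ := gpb2_surj σ₁ σ₂ s₁
  have hcomm : ∀ z : P, σ₁ (π₁ z) = σ₂ (π₂ z) := gpb_comm σ₁ σ₂
  set ξ : P →* Q := σ₁.comp π₁ with hξ
  have hξs : Function.Surjective ξ := s₁.comp hπ₁s
  have hξ1 : ∀ z : P, ξ z = σ₁ (π₁ z) := fun z => rfl
  have hξ2 : ∀ z : P, ξ z = σ₂ (π₂ z) := fun z => (hξ1 z).trans (hcomm z)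
  have hξc : ξ.ker ≤ Subgroup.center P := by
    intro z hz
    rw [MonoidHom.mem_ker] at hz
    have hz1 : π₁ z ∈ Subgroup.center Γ₁ := c₁ (MonoidHom.mem_ker.mpr ((hξ1 z).symm.trans hz))
    have hz2 : π₂ z ∈ Subgroup.center Γ₂ := c₂ (MonoidHom.mem_ker.mpr ((hξ2 z).symm.trans hz))
    rw [Subgroup.mem_center_iff]
    intro y
    apply gpb_ext
    · rw [map_mul, map_mul]; exact Subgroup.mem_center_iff.mp hz1 _
    · rw [map_mul, map_mul]; exact Subgroup.mem_center_iff.mp hz2 _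
  -- exponent of the kernel
  have hexp : ∀ z ∈ ξ.ker, z ^ e = 1 := by
    intro z hz
    rw [MonoidHom.mem_ker] at hz
    apply gpb_ext
    · rw [map_pow, map_one]
      have : (⟨π₁ z, MonoidHom.mem_ker.mpr ((hξ1 z).symm.trans hz)⟩ : σ₁.ker) ^ e = 1 := by
        rw [← hc₁]; exact pow_card_eq_one'
      exact congrArg Subtype.val this
    · rw [map_pow, map_one]
      have : (⟨π₂ z, MonoidHom.mem_ker.mpr ((hξ2 z).symm.trans hz)⟩ : σ₂.ker) ^ e = 1 := by
        rw [← hc₂]; exact pow_card_eq_one'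
      exact congrArg Subtype.val this
  -- D = ker ∩ commutator has at most e elements
  set D := ξ.ker ⊓ commutator P with hD
  have hDcard : Nat.card D ≤ e := by
    obtain ⟨φ, -, hφ⟩ := exists_central_cover_map (fp Q) (fp_surj Q) ξ hξs hξc
    have hfin : Finite (mult (fp Q)) := mult_finite (fp Q)
    let f : mult (fp Q) → P := fun t => φ t.1
    have hsub : (D : Set P) ⊆ Set.range f := by
      intro k hk
      obtain ⟨t, ht, rfl⟩ := hφ k hk
      exact ⟨⟨t, ht⟩, rfl⟩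
    calc Nat.card D = Nat.card (D : Set P) := rfl
      _ ≤ Nat.card (Set.range f) := Nat.card_mono (Set.toFinite _) hsub
      _ ≤ Nat.card (mult (fp Q)) := Nat.card_le_card_of_surjective (Set.rangeFactorization f)
          Set.rangeFactorization_surjective
      _ = e := hM
  -- projections of D onto the kernels
  have hD₁ : ∀ z ∈ σ₁.ker, ∃ c ∈ D, π₁ c = z := by
    intro z hz
    have hz' : z ∈ (commutator P).map π₁ := by
      rw [commutator_def, Subgroup.map_commutator, ← MonoidHom.range_eq_map,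
        MonoidHom.range_eq_top.mpr hπ₁s]
      exact d₁ hz
    obtain ⟨c, hc, rfl⟩ := hz'
    exact ⟨c, ⟨MonoidHom.mem_ker.mpr ((hξ1 c).trans (MonoidHom.mem_ker.mp hz)), hc⟩, rfl⟩
  have hD₂ : ∀ z ∈ σ₂.ker, ∃ c ∈ D, π₂ c = z := by
    intro z hz
    have hz' : z ∈ (commutator P).map π₂ := by
      rw [commutator_def, Subgroup.map_commutator, ← MonoidHom.range_eq_map,
        MonoidHom.range_eq_top.mpr hπ₂s]
      exact d₂ hz
    obtain ⟨c, hc, rfl⟩ := hz'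
    exact ⟨c, ⟨MonoidHom.mem_ker.mpr ((hξ2 c).trans (MonoidHom.mem_ker.mp hz)), hc⟩, rfl⟩
  -- injectivity of the projections on D
  have hDinj₁ : ∀ c ∈ D, π₁ c = 1 → c = 1 := by
    let g : D → σ₁.ker := fun c => ⟨π₁ c.1, MonoidHom.mem_ker.mpr
      ((hξ1 c.1).symm.trans (MonoidHom.mem_ker.mp c.2.1))⟩
    have hg : Function.Surjective g := by
      rintro ⟨z, hz⟩
      obtain ⟨c, hc, rfl⟩ := hD₁ z hz
      exact ⟨⟨c, hc⟩, rfl⟩
    have hgb := hg.bijective_of_nat_card_le (by rw [hc₁]; exact hDcard)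
    intro c hc h1
    have : g ⟨c, hc⟩ = g 1 := Subtype.ext (by simp [g, h1])
    exact congrArg Subtype.val (hgb.1 this)
  have hDinj₂ : ∀ c ∈ D, π₂ c = 1 → c = 1 := by
    let g : D → σ₂.ker := fun c => ⟨π₂ c.1, MonoidHom.mem_ker.mpr
      ((hξ2 c.1).symm.trans (MonoidHom.mem_ker.mp c.2.1))⟩
    have hg : Function.Surjective g := by
      rintro ⟨z, hz⟩
      obtain ⟨c, hc, rfl⟩ := hD₂ z hz
      exact ⟨⟨c, hc⟩, rfl⟩
    have hgb := hg.bijective_of_nat_card_le (by rw [hc₂]; exact hDcard)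
    intro c hc h1
    have : g ⟨c, hc⟩ = g 1 := Subtype.ext (by simp [g, h1])
    exact congrArg Subtype.val (hgb.1 this)
  -- the subgroup Γ
  set ab : P →* Abelianization P := Abelianization.of with hab
  set Γ : Subgroup P := ((powMonoidHom d).comp ab).ker with hΓ
  have hΓmem : ∀ g : P, g ∈ Γ ↔ g ^ d ∈ commutator P := by
    intro g
    rw [hΓ, MonoidHom.mem_ker, MonoidHom.comp_apply, powMonoidHom_apply, ← map_pow,
      ← MonoidHom.mem_ker, hab, Abelianization.ker_of]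
  have hDΓ : D ≤ Γ := by
    intro c hc
    rw [hΓmem]
    exact Subgroup.pow_mem _ hc.2 d
  -- Γ ⊔ ker = ⊤ (elementwise)
  have hΓsup : ∀ g : P, ∃ z ∈ ξ.ker, g * z ∈ Γ := by
    intro g
    have h1 : ξ (g ^ d) ∈ commutator Q := by
      rw [← Abelianization.ker_of, MonoidHom.mem_ker, map_pow, map_pow, hd]
      exact pow_card_eq_one'
    have h2 : ξ (g ^ d) ∈ (commutator P).map ξ := by
      rw [commutator_def, Subgroup.map_commutator, ← MonoidHom.range_eq_map,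
        MonoidHom.range_eq_top.mpr hξs]
      exact h1
    obtain ⟨c, hc, hcg⟩ := h2
    set k := g ^ d * c⁻¹ with hk
    have hkk : k ∈ ξ.ker := by
      rw [MonoidHom.mem_ker, hk, map_mul, map_inv, hcg, mul_inv_cancel]
    obtain ⟨a, ha⟩ := exists_zpow_root k d e hcop (hexp k hkk)
    refine ⟨(k ^ a)⁻¹, Subgroup.inv_mem _ (Subgroup.zpow_mem _ hkk a), ?_⟩
    rw [hΓmem]
    have hcen : (k ^ a)⁻¹ ∈ Subgroup.center P :=
      Subgroup.inv_mem _ (Subgroup.zpow_mem _ (hξc hkk) a)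
    have hcm : Commute g (k ^ a)⁻¹ := Subgroup.mem_center_iff.mp hcen g
    rw [hcm.mul_pow, inv_pow, ha, hk, mul_inv_rev, inv_inv, ← mul_assoc]
    exact (inferInstance : (commutator P).Normal).conj_mem c hc (g ^ d)
  -- the two projections restricted to Γ are bijective
  have key : ∀ (Γ' : Type u) [Group Γ'] (σ' : Γ' →* Q) (π' : P →* Γ') (hπ's : Function.Surjective π')
      (hξ' : ∀ z : P, ξ z = σ' (π' z)) (hc' : Nat.card σ'.ker = e)
      (hD' : ∀ z ∈ σ'.ker, ∃ c ∈ D, π' c = z) (hDinj' : ∀ c ∈ D, π' c = 1 → c = 1),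
      Function.Bijective (π'.comp Γ.subtype) := by
    intro Γ' _ σ' π' hπ's hξ' hc' hD' hDinj'
    constructor
    · rw [injective_iff_map_eq_one]
      rintro ⟨g, hg⟩ h1
      have h1' : π' g = 1 := h1
      have hgk : g ∈ ξ.ker := by rw [MonoidHom.mem_ker, hξ', h1', map_one]
      have hgd : g ^ d ∈ D := ⟨Subgroup.pow_mem _ hgk d, (hΓmem g).mp hg⟩
      have hgd1 : g ^ d = 1 := hDinj' _ hgd (by rw [map_pow, h1', one_pow])
      exact Subtype.ext (eq_one_of_pow_coprime g d e hcop hgd1 (hexp g hgk))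
    · intro y
      obtain ⟨g, rfl⟩ := hπ's y
      obtain ⟨z, hz, hgz⟩ := hΓsup g
      have hzk : π' z ∈ σ'.ker := by
        rw [MonoidHom.mem_ker, ← hξ']; exact MonoidHom.mem_ker.mp hz
      obtain ⟨c, hc, hcz⟩ := hD' _ hzk
      refine ⟨⟨g * z * c⁻¹, Subgroup.mul_mem _ hgz (Subgroup.inv_mem _ (hDΓ hc))⟩, ?_⟩
      show π' (g * z * c⁻¹) = π' g
      rw [map_mul, map_mul, map_inv, hcz, mul_inv_cancel_right]
  have b₁ := key Γ₁ σ₁ π₁ hπ₁s hξ1 hc₁ hD₁ hDinj₁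
  have b₂ := key Γ₂ σ₂ π₂ hπ₂s hξ2 hc₂ hD₂ hDinj₂
  let ε₁ : Γ ≃* Γ₁ := MulEquiv.ofBijective (π₁.comp Γ.subtype) b₁
  let ε₂ : Γ ≃* Γ₂ := MulEquiv.ofBijective (π₂.comp Γ.subtype) b₂
  refine ⟨ε₁.symm.trans ε₂, ?_⟩
  ext x
  obtain ⟨g, rfl⟩ := ε₁.surjective x
  show σ₂ (ε₂ (ε₁.symm (ε₁ g))) = σ₁ (ε₁ g)
  rw [MulEquiv.symm_apply_apply]
  exact (hcomm g.1).symm

end

end Cfsg.Agent.Helper65
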