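import Mathlib
import Cfsg.Agent.Lib.Helper65.HopfGen

set_option autoImplicit false

namespace Cfsg.Agent.Helper65

open scoped commutatorElement

universe u

/-- a cyclic direct factor of the abelianization whose order is divisible by `ℓ` -/
theorem exists_cyclic_factor {Q : Type u} [Group Q] [Finite Q] (ℓ : ℕ) (hℓ : ℓ.Prime)
    (hdvd : ℓ ∣ Nat.card (Abelianization Q)) :
    ∃ (N : ℕ) (lam : Q →* Multiplicative (ZMod N)) (q₀ : Q), 1 < N ∧ ℓ ∣ N ∧
      lam q₀ = Multiplicative.ofAdd 1 ∧ q₀ ^ N ∈ commutator Q := by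
  classical
  obtain ⟨ι, _, n, hn, ⟨E⟩⟩ := CommGroup.equiv_prod_multiplicative_zmod_of_finite (Abelianization Q)
  have hcard : Nat.card (Abelianization Q) = ∏ i, n i := by
    rw [Nat.card_congr E.toEquiv, Nat.card_pi]
    refine Finset.prod_congr rfl fun i _ => ?_
    have : NeZero (n i) := ⟨by have := hn i; omega⟩
    rw [Nat.card_congr (Multiplicative.toAdd : Multiplicative (ZMod (n i)) ≃ ZMod (n i)),
      Nat.card_eq_fintype_card, ZMod.card]
  rw [hcard] at hdvd
  obtain ⟨i, -, hi⟩ := (Prime.dvd_finsetProd_iff (Nat.Prime.prime hℓ) n).mp hdvd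
  let lam : Q →* Multiplicative (ZMod (n i)) :=
    ((Pi.evalMonoidHom (fun j => Multiplicative (ZMod (n j))) i).comp E.toMonoidHom).comp
      Abelianization.of
  obtain ⟨q₀, hq₀⟩ := QuotientGroup.mk_surjective
    (E.symm (Pi.mulSingle i (Multiplicative.ofAdd (1 : ZMod (n i)))))
  have hq₀' : Abelianization.of q₀ =
      E.symm (Pi.mulSingle i (Multiplicative.ofAdd (1 : ZMod (n i)))) := hq₀
  refine ⟨n i, lam, q₀, hn i, hi, ?_, ?_⟩
  · show (E (Abelianization.of q₀)) i = _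
    rw [hq₀', MulEquiv.apply_symm_apply, Pi.mulSingle_eq_same]
  · rw [← Abelianization.ker_of, MonoidHom.mem_ker, map_pow, hq₀', ← map_pow, ← Pi.mulSingle_pow]
    have : (Multiplicative.ofAdd (1 : ZMod (n i))) ^ (n i) = 1 := by
      rw [← ofAdd_nsmul]
      simp
    rw [this, Pi.mulSingle_one, map_one]

/-- a non-`ℓ`-th power in a finite abelian group of order divisible by `ℓ` -/
theorem exists_not_pow {A : Type*} [CommGroup A] [Finite A] (ℓ : ℕ) (hℓ : ℓ.Prime)
    (hdvd : ℓ ∣ Nat.card A) : ∃ a₁ : A, ∀ y : A, y ^ ℓ ≠ a₁ := by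
  have : Fact ℓ.Prime := ⟨hℓ⟩
  obtain ⟨x, hx⟩ := exists_prime_orderOf_dvd_card' ℓ hdvd
  by_contra hcon
  push Not at hcon
  have hsurj : Function.Surjective (fun y : A => y ^ ℓ) := fun a => hcon a
  have hinj : Function.Injective (fun y : A => y ^ ℓ) := Finite.injective_iff_surjective.mpr hsurj
  have h1 : x ^ ℓ = (1 : A) ^ ℓ := by rw [one_pow, ← hx, pow_orderOf_eq_one]
  have h2 : x = 1 := hinj h1
  rw [h2, orderOf_one] at hx
  exact hℓ.one_lt.ne hx

end Cfsg.Agent.Helper65
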