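import Mathlib
import Cfsg.Agent.Lib.Helper65.CoverUniq2

set_option autoImplicit false

namespace Cfsg.Agent.Helper65

open scoped commutatorElement

section

variable {α : Type*} {G : Type*} [Group G] (p : FreeGroup α →* G)
  (N : ℕ) (lam : G →* Multiplicative (ZMod N))

/-- the integer lift of `lam` on the free group -/
def phi0 : FreeGroup α →* Multiplicative ℤ :=
  FreeGroup.lift (fun a => Multiplicative.ofAdd
    (((Multiplicative.toAdd (lam (p (FreeGroup.of a)))).val : ℕ) : ℤ))

/-- the integer lift of `lam` on `F/[R,F]` -/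
def phi : CE p →* Multiplicative ℤ :=
  QuotientGroup.lift (relC p) (phi0 p N lam) (by
    intro x hx
    apply Abelianization.commutator_subset_ker
    exact Subgroup.commutator_mono le_top le_top hx)

theorem phi_mk (f : FreeGroup α) : phi p N lam (QuotientGroup.mk f) = phi0 p N lam f := rfl

/-- reduction mod `N` -/
def redN : Multiplicative ℤ →* Multiplicative (ZMod N) :=
  AddMonoidHom.toMultiplicative (Int.castAddHom (ZMod N))

theorem redN_apply (x : Multiplicative ℤ) :
    redN N x = Multiplicative.ofAdd ((Multiplicative.toAdd x : ℤ) : ZMod N) := rfl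

theorem red_phi0 [NeZero N] : (redN N).comp (phi0 p N lam) = lam.comp p := by
  ext a
  simp only [MonoidHom.comp_apply, phi0, FreeGroup.lift_apply_of, redN_apply, toAdd_ofAdd]
  rw [Int.cast_natCast, ZMod.natCast_zmod_val]

theorem red_phi [NeZero N] (x : CE p) : redN N (phi p N lam x) = lam (cProj p x) := by
  obtain ⟨f, rfl⟩ := QuotientGroup.mk_surjective x
  rw [phi_mk, cProj_mk]
  exact DFunLike.congr_fun (red_phi0 p N lam) f

theorem dvd_phi_of_mem_ker [NeZero N] (x : CE p) (hx : x ∈ (cProj p).ker) :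
    (N : ℤ) ∣ Multiplicative.toAdd (phi p N lam x) := by
  have h := red_phi p N lam x
  rw [MonoidHom.mem_ker.mp hx, map_one, redN_apply] at h
  have h' : ((Multiplicative.toAdd (phi p N lam x) : ℤ) : ZMod N) = 0 :=
    congrArg Multiplicative.toAdd h
  exact (ZMod.intCast_zmod_eq_zero_iff_dvd _ _).mp h'

theorem phi_eq_one_of_mem_commutator (x : CE p) (hx : x ∈ commutator (CE p)) :
    phi p N lam x = 1 :=
  MonoidHom.mem_ker.mp (Abelianization.commutator_subset_ker _ hx)

variable {A : Type*} [CommGroup A] (a₁ : A)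

/-- the twisting homomorphism `K → A`, `k ↦ a₁ ^ (Φ(k)/N)` -/
def delK [NeZero N] : (cProj p).ker →* A where
  toFun k := a₁ ^ (Multiplicative.toAdd (phi p N lam k.1) / (N : ℤ))
  map_one' := by
    rw [Subgroup.coe_one, map_one, toAdd_one, Int.zero_ediv, zpow_zero]
  map_mul' k k' := by
    rw [Subgroup.coe_mul, map_mul, toAdd_mul,
      Int.add_ediv_of_dvd_left (dvd_phi_of_mem_ker p N lam k.1 k.2), zpow_add]

theorem delK_apply [NeZero N] (k : (cProj p).ker) :
    delK p N lam a₁ k = a₁ ^ (Multiplicative.toAdd (phi p N lam k.1) / (N : ℤ)) := rfl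

theorem delK_mult [NeZero N] (k : (cProj p).ker) (hk : k.1 ∈ mult p) : delK p N lam a₁ k = 1 := by
  rw [delK_apply, phi_eq_one_of_mem_commutator p N lam k.1 hk.2, toAdd_one, Int.zero_ediv,
    zpow_zero]

end

end Cfsg.Agent.Helper65
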