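import Mathlib
import Cfsg.Agent.Lib.Helper65.CoverUniq3

set_option autoImplicit false

namespace Cfsg.Agent.Helper65

open scoped commutatorElement

section

variable {α : Type*} {G : Type*} [Group G] (p : FreeGroup α →* G)
  (N : ℕ) [NeZero N] (lam : G →* Multiplicative (ZMod N))
  {A : Type*} [CommGroup A] (a₁ : A) (eA : mult p ≃* A)
  (S₁ : Subgroup (CE p))

/-- `A → M ⊆ CE` -/
def iotaA : A →* CE p := (mult p).subtype.comp eA.symm.toMonoidHom

theorem iotaA_mem (a : A) : iotaA p eA a ∈ mult p := (eA.symm a).2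

theorem iotaA_central (a : A) : iotaA p eA a ∈ Subgroup.center (CE p) :=
  ker_cProj_le_center p (mult_le_ker p (iotaA_mem p eA a))

theorem iotaA_eq_one (a : A) (h : iotaA p eA a = 1) : a = 1 := by
  have h1 : eA.symm a = 1 := Subtype.ext h
  exact (MulEquiv.map_eq_one_iff eA.symm).mp h1

theorem eA_iotaA (a : A) : eA ⟨iotaA p eA a, iotaA_mem p eA a⟩ = a := by
  show eA (eA.symm a) = a
  exact eA.apply_symm_apply a

/-- the twisting map `k ↦ k · ι(δ k)` -/
def twMap : (cProj p).ker →* CE p where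
  toFun k := k.1 * iotaA p eA (delK p N lam a₁ k)
  map_one' := by simp
  map_mul' k k' := by
    rw [map_mul, map_mul, Subgroup.coe_mul]
    have hc : Commute (iotaA p eA (delK p N lam a₁ k)) k'.1 :=
      (Subgroup.mem_center_iff.mp (iotaA_central p eA _) k'.1).symm
    symm
    rw [mul_assoc k.1, ← mul_assoc _ k'.1, hc.eq, mul_assoc k'.1, ← mul_assoc k.1]

theorem twMap_apply (k : (cProj p).ker) :
    twMap p N lam a₁ eA k = k.1 * iotaA p eA (delK p N lam a₁ k) := rfl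

/-- the twisted complement -/
def twist : Subgroup (CE p) := (S₁.subgroupOf (cProj p).ker).map (twMap p N lam a₁ eA)

theorem mem_twist (x : CE p) : x ∈ twist p N lam a₁ eA S₁ ↔
    ∃ s : (cProj p).ker, s.1 ∈ S₁ ∧ s.1 * iotaA p eA (delK p N lam a₁ s) = x := by
  unfold twist
  rw [Subgroup.mem_map]
  constructor
  · rintro ⟨s, hs, rfl⟩
    exact ⟨s, Subgroup.mem_subgroupOf.mp hs, rfl⟩
  · rintro ⟨s, hs, rfl⟩
    exact ⟨s, Subgroup.mem_subgroupOf.mpr hs, rfl⟩

theorem twist_le : twist p N lam a₁ eA S₁ ≤ (cProj p).ker := by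
  intro x hx
  obtain ⟨s, -, rfl⟩ := (mem_twist p N lam a₁ eA S₁ x).mp hx
  exact Subgroup.mul_mem _ s.2 (mult_le_ker p (iotaA_mem p eA _))

variable (hinf : S₁ ⊓ mult p = ⊥) (hsup : S₁ ⊔ mult p = (cProj p).ker)

include hinf in
theorem twist_inf : twist p N lam a₁ eA S₁ ⊓ mult p = ⊥ := by
  rw [eq_bot_iff]
  rintro x ⟨hx, hxm⟩
  obtain ⟨s, hs, rfl⟩ := (mem_twist p N lam a₁ eA S₁ x).mp hx
  have hsm : s.1 ∈ mult p := by
    have := Subgroup.mul_mem _ hxm (Subgroup.inv_mem _ (iotaA_mem p eA (delK p N lam a₁ s)))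
    rwa [mul_inv_cancel_right] at this
  have hs1 : s.1 ∈ S₁ ⊓ mult p := ⟨hs, hsm⟩
  rw [hinf, Subgroup.mem_bot] at hs1
  have hs1' : s = 1 := Subtype.ext hs1
  rw [Subgroup.mem_bot, hs1']
  simp

include hsup in
theorem twist_sup : twist p N lam a₁ eA S₁ ⊔ mult p = (cProj p).ker := by
  apply le_antisymm (sup_le (twist_le p N lam a₁ eA S₁) (mult_le_ker p))
  intro k hk
  rw [← hsup] at hk
  have : (mult p).Normal := normal_of_le_ker p _ (mult_le_ker p)
  obtain ⟨s, hs, m, hm, rfl⟩ := Subgroup.mem_sup_of_normal_right.mp hk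
  have hsK : s ∈ (cProj p).ker := by rw [← hsup]; exact Subgroup.mem_sup_left hs
  have h1 : s * m = (s * iotaA p eA (delK p N lam a₁ ⟨s, hsK⟩)) *
      ((iotaA p eA (delK p N lam a₁ ⟨s, hsK⟩))⁻¹ * m) := by group
  rw [h1]
  apply Subgroup.mul_mem_sup
  · exact (mem_twist p N lam a₁ eA S₁ _).mpr ⟨⟨s, hsK⟩, hs, rfl⟩
  · exact Subgroup.mul_mem _ (Subgroup.inv_mem _ (iotaA_mem p eA _)) hm

end

end Cfsg.Agent.Helper65
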