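import Mathlib
import Cfsg.Agent.Lib.Helper65.CoverUniq4

set_option autoImplicit false

namespace Cfsg.Agent.Helper65

open scoped commutatorElement

section Proj

variable {α : Type*} {G : Type*} [Group G] (p : FreeGroup α →* G)
  (S : Subgroup (CE p)) [S.Normal] (hS : S ≤ (cProj p).ker)
  (hinf : S ⊓ mult p = ⊥) (hsup : S ⊔ mult p = (cProj p).ker)

theorem coverKerEquiv_apply_coe (t : mult p) :
    ((coverKerEquiv p S hS hinf hsup t : (coverMap p S hS).ker) : CE p ⧸ S) =
      QuotientGroup.mk t.1 := rfl

/-- the class map `K → ker(cover)` -/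
def kerClass : (cProj p).ker →* (coverMap p S hS).ker :=
  ((QuotientGroup.mk' S).comp (cProj p).ker.subtype).codRestrict _ (fun k => by
    rw [MonoidHom.mem_ker, MonoidHom.comp_apply]
    show coverMap p S hS (QuotientGroup.mk k.1) = 1
    rw [coverMap_mk]
    exact k.2)

theorem kerClass_coe (k : (cProj p).ker) :
    ((kerClass p S hS k : (coverMap p S hS).ker) : CE p ⧸ S) = QuotientGroup.mk k.1 := rfl

/-- the projection `K → M` along the complement `S` -/
noncomputable def projM : (cProj p).ker →* mult p :=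
  (coverKerEquiv p S hS hinf hsup).symm.toMonoidHom.comp (kerClass p S hS)

theorem projM_of_mem (k : (cProj p).ker) (hk : k.1 ∈ S) : projM p S hS hinf hsup k = 1 := by
  show (coverKerEquiv p S hS hinf hsup).symm (kerClass p S hS k) = 1
  rw [MulEquiv.symm_apply_eq, map_one]
  apply Subtype.ext
  rw [kerClass_coe]
  exact (QuotientGroup.eq_one_iff _).mpr hk

theorem projM_of_mult (k : (cProj p).ker) (hk : k.1 ∈ mult p) :
    projM p S hS hinf hsup k = ⟨k.1, hk⟩ := by
  show (coverKerEquiv p S hS hinf hsup).symm (kerClass p S hS k) = _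
  rw [MulEquiv.symm_apply_eq]
  apply Subtype.ext
  rw [kerClass_coe, coverKerEquiv_apply_coe]

end Proj

end Cfsg.Agent.Helper65
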