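import Mathlib
import Cfsg.Agent.Lib.Helper65.CoverUniq5

set_option autoImplicit false

namespace Cfsg.Agent.Helper65

open scoped commutatorElement

section

variable {α : Type*} {G : Type*} [Group G] (p : FreeGroup α →* G)

/-- the difference `x⁻¹ θ(x)` of an endomorphism over `G` from the identity, as a hom into the
central kernel -/
def diffHom (θ : CE p →* CE p) (hθ : (cProj p).comp θ = cProj p) : CE p →* (cProj p).ker where
  toFun x := ⟨x⁻¹ * θ x, by
    rw [MonoidHom.mem_ker, map_mul, map_inv]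
    have := DFunLike.congr_fun hθ x
    simp only [MonoidHom.comp_apply] at this
    rw [this, inv_mul_cancel]⟩
  map_one' := by
    apply Subtype.ext
    simp
  map_mul' x y := by
    apply Subtype.ext
    have hx : x⁻¹ * θ x ∈ Subgroup.center (CE p) := by
      apply ker_cProj_le_center
      rw [MonoidHom.mem_ker, map_mul, map_inv]
      have := DFunLike.congr_fun hθ x
      simp only [MonoidHom.comp_apply] at this
      rw [this, inv_mul_cancel]
    have hc := Subgroup.mem_center_iff.mp hx y⁻¹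
    show (x * y)⁻¹ * θ (x * y) = x⁻¹ * θ x * (y⁻¹ * θ y)
    rw [map_mul, mul_inv_rev, mul_assoc, ← mul_assoc x⁻¹, ← mul_assoc (x⁻¹ * θ x), ← hc]
    group

theorem diffHom_coe (θ : CE p →* CE p) (hθ : (cProj p).comp θ = cProj p) (x : CE p) :
    ((diffHom p θ hθ x : (cProj p).ker) : CE p) = x⁻¹ * θ x := rfl

theorem diffHom_commutator (θ : CE p →* CE p) (hθ : (cProj p).comp θ = cProj p) (x : CE p)
    (hx : x ∈ commutator (CE p)) : diffHom p θ hθ x = 1 := by
  apply Subtype.ext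
  rw [diffHom_coe]
  have := eq_on_commutator_of_central (cProj p) (ker_cProj_le_center p) θ (MonoidHom.id _)
    (by rw [hθ, MonoidHom.comp_id]) x hx
  rw [this, MonoidHom.id_apply, inv_mul_cancel]
  rfl

end

section Main

variable {α : Type*} {G : Type*} [Group G] (p : FreeGroup α →* G)
  (N : ℕ) [NeZero N] (lam : G →* Multiplicative (ZMod N))
  {A : Type*} [CommGroup A] (a₁ : A) (eA : mult p ≃* A)
  (S₁ : Subgroup (CE p)) [S₁.Normal] [(twist p N lam a₁ eA S₁).Normal]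
  (hS₁ : S₁ ≤ (cProj p).ker)
  (hinf : S₁ ⊓ mult p = ⊥) (hsup : S₁ ⊔ mult p = (cProj p).ker)

include hinf hsup in
/-- The cover attached to the twisted complement is not isomorphic over `G` to the original one,
when `a₁` is not an `N`-th power. -/
theorem no_hom_over (hp : Function.Surjective p)
    (x₀ : CE p) (hx₀ : phi p N lam x₀ = Multiplicative.ofAdd 1)
    (hx₀N : (cProj p x₀) ^ N ∈ commutator G) (ha₁ : ∀ y : A, y ^ N ≠ a₁)
    (e : CE p ⧸ S₁ →* CE p ⧸ twist p N lam a₁ eA S₁)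
    (he : (coverMap p (twist p N lam a₁ eA S₁) (twist_le p N lam a₁ eA S₁)).comp e =
      coverMap p S₁ hS₁) : False := by
  set S₂ := twist p N lam a₁ eA S₁ with hS₂def
  have hS₂ : S₂ ≤ (cProj p).ker := twist_le p N lam a₁ eA S₁
  have hinf₂ : S₂ ⊓ mult p = ⊥ := twist_inf p N lam a₁ eA S₁ hinf
  have hsup₂ : S₂ ⊔ mult p = (cProj p).ker := twist_sup p N lam a₁ eA S₁ hsup
  -- lift e to an endomorphism θ of CE over G
  obtain ⟨φ, hφ'⟩ := exists_freeGroup_lift
    ((e.comp (QuotientGroup.mk' S₁)).comp (QuotientGroup.mk' (relC p)))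
    (QuotientGroup.mk' S₂) (QuotientGroup.mk'_surjective S₂)
  have hφ'' : ∀ f, (QuotientGroup.mk (φ f) : CE p ⧸ S₂) =
      e (QuotientGroup.mk (QuotientGroup.mk f : CE p)) := fun f => DFunLike.congr_fun hφ' f
  have hφ : (cProj p).comp φ = p := by
    ext a
    simp only [MonoidHom.comp_apply]
    rw [← coverMap_mk p S₂ hS₂, hφ'']
    have := DFunLike.congr_fun he (QuotientGroup.mk (QuotientGroup.mk (FreeGroup.of a) : CE p))
    simp only [MonoidHom.comp_apply] at this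
    rw [this, coverMap_mk, cProj_mk]
  set θ := cLift p (cProj p) (ker_cProj_le_center p) φ hφ with hθdef
  have hθ : (cProj p).comp θ = cProj p := cLift_comp p (cProj p) (ker_cProj_le_center p) φ hφ
  have hθe : ∀ x : CE p, (QuotientGroup.mk (θ x) : CE p ⧸ S₂) = e (QuotientGroup.mk x) := by
    intro x
    obtain ⟨f, rfl⟩ := QuotientGroup.mk_surjective x
    rw [hθdef, cLift_mk]
    exact hφ'' f
  have hθS : ∀ s ∈ S₁, θ s ∈ S₂ := by
    intro s hs
    rw [← QuotientGroup.eq_one_iff, hθe, (QuotientGroup.eq_one_iff s).mpr hs, map_one]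
  -- the homomorphism Ψ : CE → A
  set χ := diffHom p θ hθ with hχ
  set P₂ : (cProj p).ker →* A := eA.toMonoidHom.comp (projM p S₂ hS₂ hinf₂ hsup₂) with hP₂
  set Ψ : CE p →* A := P₂.comp χ with hΨ
  have hΨcomm : ∀ x ∈ commutator (CE p), Ψ x = 1 := by
    intro x hx
    exact MonoidHom.mem_ker.mp (Abelianization.commutator_subset_ker Ψ hx)
  -- Ψ restricted to S₁ is δ
  have hΨS : ∀ s : (cProj p).ker, s.1 ∈ S₁ → Ψ s.1 = delK p N lam a₁ s := by
    intro s hs
    -- θ s = s * χ s, and θ s ∈ S₂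
    have h1 : (⟨θ s.1, hS₂ (hθS s.1 hs)⟩ : (cProj p).ker) = s * χ s.1 := by
      apply Subtype.ext
      rw [Subgroup.coe_mul, hχ, diffHom_coe, mul_inv_cancel_left]
    have h2 : P₂ ⟨θ s.1, hS₂ (hθS s.1 hs)⟩ = 1 := by
      rw [hP₂, MonoidHom.comp_apply, projM_of_mem p S₂ hS₂ hinf₂ hsup₂ _ (hθS s.1 hs)]
      exact map_one _
    rw [h1, map_mul] at h2
    -- P₂ s = δ(s)⁻¹
    have h3 : P₂ s = (delK p N lam a₁ s)⁻¹ := by
      have hι : iotaA p eA (delK p N lam a₁ s) ∈ (cProj p).ker :=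
        mult_le_ker p (iotaA_mem p eA _)
      have htw : (⟨twMap p N lam a₁ eA s, hS₂ ((mem_twist p N lam a₁ eA S₁ _).mpr
          ⟨s, hs, rfl⟩)⟩ : (cProj p).ker) = s * ⟨_, hι⟩ := by
        apply Subtype.ext
        rfl
      have h4 : P₂ ⟨twMap p N lam a₁ eA s, hS₂ ((mem_twist p N lam a₁ eA S₁ _).mpr
          ⟨s, hs, rfl⟩)⟩ = 1 := by
        rw [hP₂, MonoidHom.comp_apply, projM_of_mem p S₂ hS₂ hinf₂ hsup₂ _
          ((mem_twist p N lam a₁ eA S₁ _).mpr ⟨s, hs, rfl⟩)]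
        exact map_one _
      rw [htw, map_mul] at h4
      have h5 : P₂ ⟨_, hι⟩ = delK p N lam a₁ s := by
        rw [hP₂, MonoidHom.comp_apply, projM_of_mult p S₂ hS₂ hinf₂ hsup₂ _
          (iotaA_mem p eA _)]
        exact eA_iotaA p eA _
      rw [h5] at h4
      exact eq_inv_of_mul_eq_one_left h4
    rw [h3] at h2
    show P₂ (χ s.1) = _
    exact (inv_mul_eq_one.mp h2).symm ▸ rfl
  -- the element k₀
  have hcomm : (cProj p x₀) ^ N ∈ (commutator (CE p)).map (cProj p) := by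
    rw [commutator_def, Subgroup.map_commutator, ← MonoidHom.range_eq_map,
      MonoidHom.range_eq_top.mpr (cProj_surjective p hp)]
    exact hx₀N
  obtain ⟨c, hc, hcx⟩ := hcomm
  set k₀ := x₀ ^ N * c⁻¹ with hk₀
  have hk₀K : k₀ ∈ (cProj p).ker := by
    rw [MonoidHom.mem_ker, hk₀, map_mul, map_inv, map_pow, hcx, mul_inv_cancel]
  -- Ψ k₀ = Ψ(x₀)^N
  have h1 : Ψ k₀ = Ψ x₀ ^ N := by
    rw [hk₀, map_mul, map_inv, map_pow, hΨcomm c hc, inv_one, mul_one]
  -- decomposition of k₀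
  have hk₀' : k₀ ∈ S₁ ⊔ mult p := by rw [hsup]; exact hk₀K
  have hMn : (mult p).Normal := normal_of_le_ker p _ (mult_le_ker p)
  obtain ⟨s, hs, m, hm, hsm⟩ := Subgroup.mem_sup_of_normal_right.mp hk₀'
  have h2 : Ψ k₀ = delK p N lam a₁ ⟨s, hS₁ hs⟩ := by
    rw [← hsm, map_mul, hΨcomm m hm.2, mul_one]
    exact hΨS ⟨s, hS₁ hs⟩ hs
  -- δ(s) = δ(k₀) = a₁
  have h3 : delK p N lam a₁ ⟨s, hS₁ hs⟩ = delK p N lam a₁ ⟨k₀, hk₀K⟩ := by
    have : (⟨k₀, hk₀K⟩ : (cProj p).ker) = ⟨s, hS₁ hs⟩ * ⟨m, mult_le_ker p hm⟩ :=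
      Subtype.ext hsm.symm
    rw [this, map_mul, delK_mult p N lam a₁ ⟨m, mult_le_ker p hm⟩ hm, mul_one]
  have h4 : delK p N lam a₁ ⟨k₀, hk₀K⟩ = a₁ := by
    rw [delK_apply]
    have : phi p N lam k₀ = Multiplicative.ofAdd (N : ℤ) := by
      rw [hk₀, map_mul, map_inv, map_pow, hx₀, phi_eq_one_of_mem_commutator p N lam c hc,
        inv_one, mul_one, ← ofAdd_nsmul]
      simp
    rw [this, toAdd_ofAdd, Int.ediv_self (by exact_mod_cast NeZero.ne N), zpow_one]
  exact ha₁ (Ψ x₀) (by rw [← h1, h2, h3, h4])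

end Main

end Cfsg.Agent.Helper65
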