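import Mathlib

set_option autoImplicit false

namespace Cfsg.Agent.Helper65

/-- homs into a divisible abelian group extend along injections -/
theorem exists_extension_to_divisible {M N Z : Type*} [CommGroup M] [CommGroup N] [CommGroup Z]
    (hZ : ∀ (c : Z) (m : ℤ), m ≠ 0 → ∃ d : Z, d ^ m = c) (f : M →* N)
    (hf : Function.Injective f) (g : M →* Z) : ∃ h : N →* Z, h.comp f = g := by
  have hdiv : DivisibleBy (Additive Z) ℤ := by
    apply divisibleByOfSMulRightSurj
    intro m hm c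
    obtain ⟨d, hd⟩ := hZ (Additive.toMul c) m hm
    exact ⟨Additive.ofMul d, by
      show Additive.ofMul (d ^ m) = c
      rw [hd]; rfl⟩
  have hB : Module.Baer ℤ (Additive Z) := Module.Baer.of_divisible (Additive Z)
  obtain ⟨h, hh⟩ := hB.extension_property_addMonoidHom (MonoidHom.toAdditive f)
    (by intro a b hab; exact hf hab) (MonoidHom.toAdditive g)
  refine ⟨MonoidHom.toAdditive.symm h, ?_⟩
  ext x
  have := DFunLike.congr_fun hh (Additive.ofMul x)
  exact this

open Matrix in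
/-- the center of `GL n ℂ` is divisible -/
theorem center_GL_divisible (n : ℕ) (c : Subgroup.center (GL (Fin n) ℂ)) (m : ℤ) (hm : m ≠ 0) :
    ∃ d : Subgroup.center (GL (Fin n) ℂ), d ^ m = c := by
  have hc : (c : GL (Fin n) ℂ) ∈ (GeneralLinearGroup.scalar (Fin n)).range :=
    GeneralLinearGroup.center_eq_range_scalar (n := Fin n) (R := ℂ) ▸ c.2
  obtain ⟨u, hu⟩ := hc
  -- roots in ℂˣ
  have hroot : ∀ (v : ℂˣ) (k : ℕ), 0 < k → ∃ w : ℂˣ, w ^ k = v := by
    intro v k hk
    obtain ⟨z, hz⟩ := IsAlgClosed.exists_pow_nat_eq (v : ℂ) hk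
    have hz0 : z ≠ 0 := by
      rintro rfl
      rw [zero_pow hk.ne'] at hz
      exact v.ne_zero hz.symm
    refine ⟨Units.mk0 z hz0, ?_⟩
    apply Units.ext
    simpa using hz
  have hrootZ : ∃ w : ℂˣ, w ^ m = u := by
    rcases lt_or_gt_of_ne hm with hneg | hpos
    · obtain ⟨w, hw⟩ := hroot u⁻¹ (-m).toNat (by omega)
      refine ⟨w, ?_⟩
      have h1 : ((-m).toNat : ℤ) = -m := Int.toNat_of_nonneg (by omega)
      have h2 : w ^ (-m) = u⁻¹ := by rw [← h1, zpow_natCast]; exact hw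
      rw [_root_.zpow_neg] at h2
      exact inv_injective h2
    · obtain ⟨w, hw⟩ := hroot u m.toNat (by omega)
      refine ⟨w, ?_⟩
      have h1 : (m.toNat : ℤ) = m := Int.toNat_of_nonneg (by omega)
      rw [← h1, zpow_natCast]; exact hw
  obtain ⟨w, hw⟩ := hrootZ
  have hd : GeneralLinearGroup.scalar (Fin n) w ∈ Subgroup.center (GL (Fin n) ℂ) := by
    rw [GeneralLinearGroup.center_eq_range_scalar]; exact ⟨w, rfl⟩
  refine ⟨⟨GeneralLinearGroup.scalar (Fin n) w, hd⟩, ?_⟩
  apply Subtype.ext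
  show (GeneralLinearGroup.scalar (Fin n) w) ^ m = c.1
  rw [← map_zpow, hw, hu]

end Cfsg.Agent.Helper65
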