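import Mathlib
import Cfsg.Prelude.Def_KGroupFacts

set_option autoImplicit false

namespace Cfsg.Agent.Helper65

open Subgroup
open scoped commutatorElement

/-- If `Γ` is generated by a set `S` together with a central subgroup `K`, and `N` is a normal
subgroup containing all commutators of elements of `S`, then `N` contains the commutator subgroup. -/
theorem commutator_le_of_generators {Γ : Type*} [Group Γ] (K : Subgroup Γ)
    (hK : K ≤ Subgroup.center Γ) (S : Set Γ) (hS : Subgroup.closure S ⊔ K = ⊤)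
    (N : Subgroup Γ) [N.Normal] (hN : ∀ s ∈ S, ∀ t ∈ S, ⁅s, t⁆ ∈ N) : commutator Γ ≤ N := by
  rw [← Subgroup.Normal.quotient_commutative_iff_commutator_le]
  set q := QuotientGroup.mk' N with hq
  have hqs : Function.Surjective q := QuotientGroup.mk'_surjective N
  -- images of K are central
  have hKc : ∀ k ∈ K, ∀ y : Γ ⧸ N, q k * y = y * q k := by
    intro k hk y
    obtain ⟨g, rfl⟩ := hqs y
    rw [← map_mul, ← map_mul, (Subgroup.mem_center_iff.1 (hK hk)) g]
  -- step 1: images of S are central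
  have h1 : ∀ s ∈ S, ∀ y : Γ ⧸ N, q s * y = y * q s := by
    intro s hs y
    obtain ⟨g, rfl⟩ := hqs y
    have : (⊤ : Subgroup Γ) ≤ (Subgroup.centralizer {q s}).comap q := by
      rw [← hS, sup_le_iff, Subgroup.closure_le]
      constructor
      · intro t ht
        rw [SetLike.mem_coe, Subgroup.mem_comap, Subgroup.mem_centralizer_iff]
        intro h hh
        rw [Set.mem_singleton_iff] at hh
        subst hh
        have := hN s hs t ht
        rw [← QuotientGroup.eq_one_iff, ← QuotientGroup.mk'_apply, map_commutatorElement,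
          commutatorElement_eq_one_iff_mul_comm] at this
        exact this
      · intro k hk
        rw [Subgroup.mem_comap, Subgroup.mem_centralizer_iff]
        intro h hh
        rw [Set.mem_singleton_iff] at hh
        subst hh
        exact (hKc k hk _).symm
    have := this (Subgroup.mem_top g)
    rw [Subgroup.mem_comap, Subgroup.mem_centralizer_iff] at this
    exact this _ (Set.mem_singleton _)
  -- step 2: everything is central
  have h2 : (⊤ : Subgroup Γ) ≤ (Subgroup.center (Γ ⧸ N)).comap q := by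
    rw [← hS, sup_le_iff, Subgroup.closure_le]
    constructor
    · intro s hs
      rw [SetLike.mem_coe, Subgroup.mem_comap, Subgroup.mem_center_iff]
      intro y
      exact (h1 s hs y).symm
    · intro k hk
      rw [Subgroup.mem_comap, Subgroup.mem_center_iff]
      intro y
      exact (hKc k hk y).symm
  refine ⟨⟨fun x y => ?_⟩⟩
  obtain ⟨g, rfl⟩ := hqs x
  have := h2 (Subgroup.mem_top g)
  rw [Subgroup.mem_comap, Subgroup.mem_center_iff] at this
  exact (this y).symm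

/-- Lifting generators along a surjection: the lifts together with the kernel generate. -/
theorem closure_lift_sup_ker {Γ G : Type*} [Group Γ] [Group G] (σ : Γ →* G) (S : Set Γ)
    (hS : Subgroup.closure (σ '' S) = ⊤) : Subgroup.closure S ⊔ σ.ker = ⊤ := by
  rw [← Subgroup.comap_map_eq, MonoidHom.map_closure, hS, Subgroup.comap_top]


section DihedralType

variable {Γ : Type*} [Group Γ]

/-- `c = x a x⁻¹` commutes with `a` when `x a x⁻¹ a` is central. -/
theorem dt_commute (a x : Γ) (hk : x * a * x⁻¹ * a ∈ Subgroup.center Γ) :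
    Commute (x * a * x⁻¹) a := by
  have h := (Subgroup.mem_center_iff.1 hk) a
  -- a * (c * a) = (c * a) * a
  have h2 : a * (x * a * x⁻¹) * a = (x * a * x⁻¹) * a * a := by
    rw [mul_assoc a, h]
  exact (mul_right_cancel h2).symm

theorem dt_commute_b (a x : Γ) (hk : x * a * x⁻¹ * a ∈ Subgroup.center Γ) :
    Commute a (x * a * x⁻¹ * a⁻¹) :=
  ((dt_commute a x hk).symm).mul_right (Commute.refl a).inv_right

theorem dt_conj_b (a x : Γ) (hk : x * a * x⁻¹ * a ∈ Subgroup.center Γ) :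
    x * (x * a * x⁻¹ * a⁻¹) * x⁻¹ = (x * a * x⁻¹ * a⁻¹)⁻¹ := by
  have hcomm := dt_commute a x hk
  have hcen := Subgroup.mem_center_iff.1 hk
  set c := x * a * x⁻¹ with hc
  set k1 := c * a with hk1
  have hck : c = k1 * a⁻¹ := by rw [hk1]; group
  have e1 : x * c * x⁻¹ = k1 * c⁻¹ := by
    calc x * c * x⁻¹ = x * (k1 * a⁻¹) * x⁻¹ := by rw [← hck]
      _ = (x * k1) * a⁻¹ * x⁻¹ := by group
      _ = (k1 * x) * a⁻¹ * x⁻¹ := by rw [hcen x]
      _ = k1 * (x * a * x⁻¹)⁻¹ := by group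
  calc x * (c * a⁻¹) * x⁻¹ = (x * c * x⁻¹) * (x * a * x⁻¹)⁻¹ := by group
    _ = k1 * c⁻¹ * c⁻¹ := by rw [e1]
    _ = (c * a) * c⁻¹ * c⁻¹ := by rw [hk1]
    _ = (a * c) * c⁻¹ * c⁻¹ := by rw [hcomm.eq]
    _ = (c * a⁻¹)⁻¹ := by group

theorem dt_conj_b' (a x : Γ) (hk : x * a * x⁻¹ * a ∈ Subgroup.center Γ) :
    x⁻¹ * (x * a * x⁻¹ * a⁻¹) * x = (x * a * x⁻¹ * a⁻¹)⁻¹ := by
  have h := dt_conj_b a x hk
  set b := x * a * x⁻¹ * a⁻¹
  have : b = x⁻¹ * b⁻¹ * x := by rw [← h]; group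
  calc x⁻¹ * b * x = (x⁻¹ * b⁻¹ * x)⁻¹ := by group
    _ = b⁻¹ := by rw [← this]

theorem dt_normal (K : Subgroup Γ) (hK : K ≤ Subgroup.center Γ) (a x : Γ)
    (hgen : Subgroup.closure {a, x} ⊔ K = ⊤) (hk : x * a * x⁻¹ * a ∈ K) :
    (Subgroup.zpowers (x * a * x⁻¹ * a⁻¹)).Normal := by
  rw [← Subgroup.normalizer_eq_top_iff, eq_top_iff, ← hgen, sup_le_iff, Subgroup.closure_le]
  have hkc := hK hk
  constructor
  · intro g hg
    rw [SetLike.mem_coe, Subgroup.mem_normalizer_iff_map_conj_eq, MonoidHom.map_zpowers]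
    rcases hg with rfl | hg
    · have := (dt_commute_b g x hkc).eq
      have h2 : (MulAut.conj g) (x * g * x⁻¹ * g⁻¹) = x * g * x⁻¹ * g⁻¹ := by
        rw [MulAut.conj_apply, this]; group
      erw [h2]
    · rw [Set.mem_singleton_iff] at hg
      subst hg
      have h2 : (MulAut.conj g) (g * a * g⁻¹ * a⁻¹) = (g * a * g⁻¹ * a⁻¹)⁻¹ := by
        rw [MulAut.conj_apply]; exact dt_conj_b a g hkc
      erw [h2]
      exact Subgroup.zpowers_inv
  · intro k hk'
    rw [Subgroup.mem_normalizer_iff_map_conj_eq, MonoidHom.map_zpowers]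
    have h2 : (MulAut.conj k) (x * a * x⁻¹ * a⁻¹) = x * a * x⁻¹ * a⁻¹ := by
      rw [MulAut.conj_apply, ← (Subgroup.mem_center_iff.1 (hK hk')) _]; group
    erw [h2]

theorem dt_commutator_le (K : Subgroup Γ) (hK : K ≤ Subgroup.center Γ) (a x : Γ)
    (hgen : Subgroup.closure {a, x} ⊔ K = ⊤) (hk : x * a * x⁻¹ * a ∈ K) :
    commutator Γ ≤ Subgroup.zpowers (x * a * x⁻¹ * a⁻¹) := by
  have := dt_normal K hK a x hgen hk
  apply commutator_le_of_generators K hK {a, x} hgen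
  have hb : x * a * x⁻¹ * a⁻¹ ∈ Subgroup.zpowers (x * a * x⁻¹ * a⁻¹) := Subgroup.mem_zpowers _
  intro s hs t ht
  rcases hs with rfl | hs <;> rcases ht with rfl | ht
  · simp
  · rw [Set.mem_singleton_iff] at ht; subst ht
    have : ⁅s, t⁆ = (t * s * t⁻¹ * s⁻¹)⁻¹ := by rw [commutatorElement_def]; group
    rw [this]; exact Subgroup.inv_mem _ hb
  · rw [Set.mem_singleton_iff] at hs; subst hs
    rw [commutatorElement_def]; exact hb
  · rw [Set.mem_singleton_iff] at hs ht; subst hs; subst ht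
    simp

/-- elements of `K ∩ ⟨b⟩` are involutions -/
theorem dt_sq_eq_one (a x : Γ) (hk : x * a * x⁻¹ * a ∈ Subgroup.center Γ) (z : Γ)
    (hz : z ∈ Subgroup.center Γ) (hzb : z ∈ Subgroup.zpowers (x * a * x⁻¹ * a⁻¹)) : z ^ 2 = 1 := by
  obtain ⟨i, rfl⟩ := Subgroup.mem_zpowers_iff.1 hzb
  set b := x * a * x⁻¹ * a⁻¹ with hb
  have h1 : x * b ^ i * x⁻¹ = (b ^ i)⁻¹ := by
    have : x * b ^ i * x⁻¹ = (x * b * x⁻¹) ^ i := by
      rw [← MulAut.conj_apply, ← MulAut.conj_apply, map_zpow]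
    rw [this, dt_conj_b a x hk, inv_zpow]
  have h2 : x * b ^ i * x⁻¹ = b ^ i := by
    rw [(Subgroup.mem_center_iff.1 hz) x]; group
  rw [h2] at h1
  rw [pow_two]
  nth_rewrite 1 [h1]
  group

/-- if `x` commutes with `a ^ n` then `b ^ n = 1` -/
theorem dt_pow_eq_one (a x : Γ) (hk : x * a * x⁻¹ * a ∈ Subgroup.center Γ) (n : ℕ)
    (hn : Commute x (a ^ n)) : (x * a * x⁻¹ * a⁻¹) ^ n = 1 := by
  have hcomm := dt_commute a x hk
  rw [(hcomm.inv_right).mul_pow]
  have : (x * a * x⁻¹) ^ n = x * a ^ n * x⁻¹ := by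
    rw [← MulAut.conj_apply, ← MulAut.conj_apply, map_pow]
  rw [this, hn.eq]
  group

end DihedralType

section Packaging

universe u

/-- a hom from `Multiplicative (ZMod n)` sending the generator to `z` with `z ^ n = 1` -/
def zmodHom {K : Type*} [Group K] (n : ℕ) [NeZero n] (z : K) (hz : z ^ n = 1) :
    Multiplicative (ZMod n) →* K where
  toFun k := z ^ (Multiplicative.toAdd k).val
  map_one' := by simp
  map_mul' a b := by
    show z ^ (Multiplicative.toAdd (a * b)).val = _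
    rw [toAdd_mul, ZMod.val_add, ← pow_add, ← pow_eq_pow_mod _ hz]

theorem zmodHom_apply_natCast {K : Type*} [Group K] (n : ℕ) [NeZero n] (z : K) (hz : z ^ n = 1)
    (m : ℕ) : zmodHom n z hz (Multiplicative.ofAdd (m : ZMod n)) = z ^ m := by
  show z ^ (Multiplicative.toAdd (Multiplicative.ofAdd (m : ZMod n))).val = z ^ m
  rw [toAdd_ofAdd, ZMod.val_natCast, ← pow_eq_pow_mod _ hz]

theorem exists_surj_of_le_zpowers {Γ : Type*} [Group Γ] (K : Subgroup Γ) (b : Γ)
    (hKb : K ≤ Subgroup.zpowers b) (n : ℕ) [NeZero n] (hn : ∀ z ∈ K, z ^ n = 1) :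
    ∃ π : Multiplicative (ZMod n) →* K, Function.Surjective π := by
  have : IsCyclic K := Subgroup.isCyclic_of_le hKb
  obtain ⟨z0, hz0⟩ := IsCyclic.exists_generator (α := K)
  have hz0n : z0 ^ n = 1 := by
    apply Subtype.ext
    simpa using hn z0.1 z0.2
  refine ⟨zmodHom n z0 hz0n, ?_⟩
  intro y
  have hfin : IsOfFinOrder z0 := isOfFinOrder_iff_pow_eq_one.2 ⟨n, Nat.pos_of_ne_zero (NeZero.ne n), hz0n⟩
  have hy := hz0 y
  rw [← hfin.mem_powers_iff_mem_zpowers] at hy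
  obtain ⟨m, rfl⟩ := hy
  exact ⟨Multiplicative.ofAdd (m : ZMod n), zmodHom_apply_natCast n z0 hz0n m⟩

theorem trivial_multiplier_of {G : Type u} [Group G] [Finite G]
    (h : ∀ (Γ : Type u) [Group Γ] [Finite Γ] (σ : Γ →* G), Cfsg.IsStemExtension σ → σ.ker = ⊥) :
    Cfsg.HasCyclicSchurMultiplier G 1 := by
  constructor
  · refine ⟨G, inferInstance, inferInstance, MonoidHom.id G, ⟨Function.surjective_id, ?_, ?_⟩, ⟨?_⟩⟩
    · rw [MonoidHom.ker_id]; exact bot_le
    · rw [MonoidHom.ker_id]; exact bot_le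
    · refine
        { toFun := fun _ => 1
          invFun := fun _ => 1
          left_inv := ?_
          right_inv := ?_
          map_mul' := ?_ }
      · intro x
        apply Subtype.ext
        have := x.2
        rw [MonoidHom.mem_ker] at this
        simpa using this.symm
      · intro x
        exact Subsingleton.elim (α := ZMod 1) _ _
      · intro x y
        simp
  · intro Γ _ _ σ hσ
    refine ⟨1, ?_⟩
    intro y
    refine ⟨1, ?_⟩
    apply Subtype.ext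
    have h1 : (y : Γ) ∈ σ.ker := y.2
    have h2 : (y : Γ) ∈ (⊥ : Subgroup Γ) := (h Γ σ hσ) ▸ h1
    rw [Subgroup.mem_bot] at h2
    simp [h2]

end Packaging

section StemDihedral

variable {Γ G : Type*} [Group Γ] [Group G]

theorem stem_dt_setup (σ : Γ →* G) (hσ : Cfsg.IsStemExtension σ) (a₀ x₀ : G)
    (hgen : Subgroup.closure {a₀, x₀} = ⊤) (hinv : x₀ * a₀ * x₀⁻¹ = a₀⁻¹) (a x : Γ)
    (ha : σ a = a₀) (hx : σ x = x₀) :
    Subgroup.closure {a, x} ⊔ σ.ker = ⊤ ∧ x * a * x⁻¹ * a ∈ σ.ker := by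
  constructor
  · apply closure_lift_sup_ker
    rw [Set.image_pair, ha, hx, hgen]
  · rw [MonoidHom.mem_ker]
    simp only [map_mul, map_inv, ha, hx, hinv]
    group

theorem stem_dt_ker_le (σ : Γ →* G) (hσ : Cfsg.IsStemExtension σ) (a₀ x₀ : G)
    (hgen : Subgroup.closure {a₀, x₀} = ⊤) (hinv : x₀ * a₀ * x₀⁻¹ = a₀⁻¹) (a x : Γ)
    (ha : σ a = a₀) (hx : σ x = x₀) : σ.ker ≤ Subgroup.zpowers (x * a * x⁻¹ * a⁻¹) := by
  obtain ⟨h1, h2⟩ := stem_dt_setup σ hσ a₀ x₀ hgen hinv a x ha hx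
  exact hσ.2.2.trans (dt_commutator_le σ.ker hσ.2.1 a x h1 h2)

theorem stem_dt_sq (σ : Γ →* G) (hσ : Cfsg.IsStemExtension σ) (a₀ x₀ : G)
    (hgen : Subgroup.closure {a₀, x₀} = ⊤) (hinv : x₀ * a₀ * x₀⁻¹ = a₀⁻¹) (a x : Γ)
    (ha : σ a = a₀) (hx : σ x = x₀) : ∀ z ∈ σ.ker, z ^ 2 = 1 := by
  obtain ⟨h1, h2⟩ := stem_dt_setup σ hσ a₀ x₀ hgen hinv a x ha hx
  intro z hz
  exact dt_sq_eq_one a x (hσ.2.1 h2) z (hσ.2.1 hz)
    (stem_dt_ker_le σ hσ a₀ x₀ hgen hinv a x ha hx hz)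

theorem stem_dt_ker_eq_bot (σ : Γ →* G) (hσ : Cfsg.IsStemExtension σ) (a₀ x₀ : G)
    (hgen : Subgroup.closure {a₀, x₀} = ⊤) (hinv : x₀ * a₀ * x₀⁻¹ = a₀⁻¹)
    (n m : ℕ) (hnm : a₀ ^ n = x₀ ^ m)
    (hord : ∀ i : ℤ, (x₀ * a₀ * x₀⁻¹ * a₀⁻¹) ^ i = 1 → (n : ℤ) ∣ i) : σ.ker = ⊥ := by
  obtain ⟨a, ha⟩ := hσ.1 a₀
  obtain ⟨x, hx⟩ := hσ.1 x₀
  obtain ⟨h1, h2⟩ := stem_dt_setup σ hσ a₀ x₀ hgen hinv a x ha hx
  have hle := stem_dt_ker_le σ hσ a₀ x₀ hgen hinv a x ha hx
  -- x commutes with a ^ n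
  have hcomm : Commute x (a ^ n) := by
    have hk : a ^ n * (x ^ m)⁻¹ ∈ σ.ker := by
      rw [MonoidHom.mem_ker]
      simp only [map_mul, map_inv, map_pow, ha, hx, hnm]
      group
    have hc := Subgroup.mem_center_iff.1 (hσ.2.1 hk)
    have e : a ^ n = (a ^ n * (x ^ m)⁻¹) * x ^ m := by group
    rw [e]
    apply Commute.mul_right
    · exact hc x
    · exact (Commute.refl x).pow_right m
  have hbn := dt_pow_eq_one a x (hσ.2.1 h2) n hcomm
  rw [eq_bot_iff]
  intro z hz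
  obtain ⟨i, rfl⟩ := Subgroup.mem_zpowers_iff.1 (hle hz)
  rw [MonoidHom.mem_ker, map_zpow] at hz
  have hb0 : σ (x * a * x⁻¹ * a⁻¹) = x₀ * a₀ * x₀⁻¹ * a₀⁻¹ := by
    simp only [map_mul, map_inv, ha, hx]
  rw [hb0] at hz
  obtain ⟨j, rfl⟩ := hord i hz
  rw [Subgroup.mem_bot, zpow_mul, zpow_natCast, hbn, one_zpow]

end StemDihedral

end Cfsg.Agent.Helper65
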