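import Mathlib
import Cfsg.Agent.Lib.Helper65.BorelAbs
import Cfsg.Agent.Lib.Helper65.Stem

/-! A field-free criterion for trivial multiplier of the Frobenius group `2³ : 7` (and its
quotients): a group generated by `e, t` with `e² = 1`, `t⁷ = 1` and `e · e^t = e^{t³} = e^t · e`. -/

set_option autoImplicit false

namespace Cfsg.Agent.Helper65.Frob56

open scoped commutatorElement
open Cfsg.Agent.Helper65.BorelAbs

section Core

variable {Γ : Type*} [Group Γ]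

/-- the conjugates `t^i e t^-i` -/
def cj (t e : Γ) (i : ℕ) : Γ := t ^ i * e * (t ^ i)⁻¹

theorem cj_zero (t e : Γ) : cj t e 0 = e := by simp [cj]

theorem cj_succ (t e : Γ) (i : ℕ) : cj t e (i + 1) = t * cj t e i * t⁻¹ := by
  unfold cj
  rw [pow_succ']
  group

theorem cj_add (t e : Γ) (i j : ℕ) : cj t e (i + j) = t ^ i * cj t e j * (t ^ i)⁻¹ := by
  unfold cj
  rw [pow_add]
  group

theorem comm_mul_right (a b c : Γ) : ⁅a, b * c⁆ = ⁅a, b⁆ * (b * ⁅a, c⁆ * b⁻¹) := by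
  simp only [commutatorElement_def]
  group

theorem comm_conj (t a b : Γ) : ⁅t * a * t⁻¹, t * b * t⁻¹⁆ = t * ⁅a, b⁆ * t⁻¹ := by
  simp only [commutatorElement_def]
  group

variable (Z : Subgroup Γ) (hZ : Z ≤ Subgroup.center Γ)

include hZ in
theorem central_conj {z : Γ} (hz : z ∈ Z) (g : Γ) : g * z * g⁻¹ = z := by
  have := Subgroup.mem_center_iff.1 (hZ hz) g
  rw [this, mul_inv_cancel_right]

include hZ in
theorem central_comm {z : Γ} (hz : z ∈ Z) (g : Γ) : g * z = z * g :=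
  Subgroup.mem_center_iff.1 (hZ hz) g

include hZ in
theorem comm_central_mul {z : Γ} (hz : z ∈ Z) (a b : Γ) : ⁅a, z * b⁆ = ⁅a, b⁆ := by
  rw [comm_mul_right]
  have h1 : ⁅a, z⁆ = 1 := by
    rw [commutatorElement_eq_one_iff_mul_comm]
    exact central_comm Z hZ hz a
  rw [h1, one_mul, ← central_comm Z hZ hz ⁅a, b⁆, mul_inv_cancel_right]

variable (e t : Γ)

section Rel

variable (z₁ z₂ : Γ) (hz₁ : z₁ ∈ Z) (hz₂ : z₂ ∈ Z)
  (r1 : cj t e 0 * cj t e 1 = z₁ * cj t e 3) (r2 : cj t e 1 * cj t e 0 = z₂ * cj t e 3)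

include hZ hz₁ r1 in
theorem r1_shift (i : ℕ) : cj t e i * cj t e (i + 1) = z₁ * cj t e (i + 3) := by
  induction i with
  | zero => simpa using r1
  | succ i ih =>
    rw [cj_succ t e i, cj_succ t e (i + 1), show i + 1 + 3 = (i + 3) + 1 by ring,
      cj_succ t e (i + 3)]
    have : t * cj t e i * t⁻¹ * (t * cj t e (i + 1) * t⁻¹) =
        t * (cj t e i * cj t e (i + 1)) * t⁻¹ := by group
    rw [this, ih]
    have h2 := central_comm Z hZ hz₁ t
    calc t * (z₁ * cj t e (i + 3)) * t⁻¹ = (t * z₁) * cj t e (i + 3) * t⁻¹ := by group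
      _ = z₁ * (t * cj t e (i + 3) * t⁻¹) := by rw [h2]; group

include hZ hz₂ r2 in
theorem r2_shift (i : ℕ) : cj t e (i + 1) * cj t e i = z₂ * cj t e (i + 3) := by
  induction i with
  | zero => simpa using r2
  | succ i ih =>
    rw [cj_succ t e i, cj_succ t e (i + 1), show i + 1 + 3 = (i + 3) + 1 by ring,
      cj_succ t e (i + 3)]
    have : t * cj t e (i + 1) * t⁻¹ * (t * cj t e i * t⁻¹) =
        t * (cj t e (i + 1) * cj t e i) * t⁻¹ := by group
    rw [this, ih]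
    have h2 := central_comm Z hZ hz₂ t
    calc t * (z₂ * cj t e (i + 3)) * t⁻¹ = (t * z₂) * cj t e (i + 3) * t⁻¹ := by group
      _ = z₂ * (t * cj t e (i + 3) * t⁻¹) := by rw [h2]; group

include hZ hz₁ hz₂ r1 r2 in
/-- the commutator of adjacent conjugates -/
theorem comm_adj (i : ℕ) : ⁅cj t e i, cj t e (i + 1)⁆ = z₁ * z₂⁻¹ := by
  have h1 := r1_shift Z hZ e t z₁ hz₁ r1 i
  have h2 := r2_shift Z hZ e t z₂ hz₂ r2 i
  rw [commutatorElement_def]
  have : cj t e i * cj t e (i + 1) * (cj t e i)⁻¹ * (cj t e (i + 1))⁻¹ =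
      (cj t e i * cj t e (i + 1)) * (cj t e (i + 1) * cj t e i)⁻¹ := by group
  rw [this, h1, h2]
  group

include hZ hz₁ hz₂ r1 r2 in
theorem comm_all : ⁅cj t e 0, cj t e 1⁆ = 1 ∧ ⁅cj t e 0, cj t e 2⁆ = 1 ∧
    ⁅cj t e 1, cj t e 2⁆ = 1 := by
  obtain ⟨u, hu⟩ : ∃ u, u = z₁ * z₂⁻¹ := ⟨_, rfl⟩
  have huZ : u ∈ Z := by rw [hu]; exact Z.mul_mem hz₁ (Z.inv_mem hz₂)
  have h01 := comm_adj Z hZ e t z₁ z₂ hz₁ hz₂ r1 r2 0
  have h12 := comm_adj Z hZ e t z₁ z₂ hz₁ hz₂ r1 r2 1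
  have h23 := comm_adj Z hZ e t z₁ z₂ hz₁ hz₂ r1 r2 2
  simp only [zero_add] at h01
  rw [show (1 : ℕ) + 1 = 2 by rfl] at h12
  rw [show (2 : ℕ) + 1 = 3 by rfl] at h23
  rw [← hu] at h01 h12 h23
  -- `c₃ = z₁⁻¹ c₀ c₁`
  have hc3 : cj t e 3 = z₁⁻¹ * (cj t e 0 * cj t e 1) := by rw [r1]; group
  -- `[c₁, c₃] = u⁻¹`
  have h13 : ⁅cj t e 1, cj t e 3⁆ = u⁻¹ := by
    rw [hc3, comm_central_mul Z hZ (Z.inv_mem hz₁), comm_mul_right, commutatorElement_self,
      mul_one, mul_inv_cancel, mul_one, ← commutatorElement_inv, h01]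
  -- `[c₀, c₂] = u⁻¹`
  have h02 : ⁅cj t e 0, cj t e 2⁆ = u⁻¹ := by
    have h := comm_conj t (cj t e 0) (cj t e 2)
    rw [← cj_succ, ← cj_succ, zero_add, show (2 : ℕ) + 1 = 3 by rfl, h13] at h
    have h' : ⁅cj t e 0, cj t e 2⁆ = t⁻¹ * u⁻¹ * t := by rw [h]; group
    rw [h']
    have := central_conj Z hZ (Z.inv_mem huZ) t⁻¹
    rwa [inv_inv] at this
  -- `[c₂, c₃] = 1`
  have h23' : ⁅cj t e 2, cj t e 3⁆ = 1 := by
    have h20 : ⁅cj t e 2, cj t e 0⁆ = u := by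
      rw [← commutatorElement_inv, h02, inv_inv]
    have h21 : ⁅cj t e 2, cj t e 1⁆ = u⁻¹ := by
      rw [← commutatorElement_inv, h12]
    rw [hc3, comm_central_mul Z hZ (Z.inv_mem hz₁), comm_mul_right, h20, h21,
      central_conj Z hZ (Z.inv_mem huZ), mul_inv_cancel]
  have hu1 : u = 1 := by rw [← h23, h23']
  rw [hu1] at h01 h12
  rw [hu1, inv_one] at h02
  exact ⟨h01, h02, h12⟩

end Rel

section Main

/-- the generating set of the abelian normal subgroup -/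
def SS (Z : Subgroup Γ) (e t : Γ) : Set Γ := {cj t e 0, cj t e 1, cj t e 2} ∪ (Z : Set Γ)

/-- the abelian normal subgroup -/
def UU (Z : Subgroup Γ) (e t : Γ) : Subgroup Γ := Subgroup.closure (SS Z e t)

theorem Z_le_UU : Z ≤ UU Z e t := by
  intro z hz
  exact Subgroup.subset_closure (Or.inr hz)

theorem cj0_mem : cj t e 0 ∈ UU Z e t := Subgroup.subset_closure (Or.inl (by simp))
theorem cj1_mem : cj t e 1 ∈ UU Z e t := Subgroup.subset_closure (Or.inl (by simp))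
theorem cj2_mem : cj t e 2 ∈ UU Z e t := Subgroup.subset_closure (Or.inl (by simp))

variable (s z₁ z₂ : Γ) (hs : s ∈ Z) (hz₁ : z₁ ∈ Z) (hz₂ : z₂ ∈ Z)
  (h0 : e * e = s)
  (h7 : t ^ 7 ∈ Z)
  (r1 : cj t e 0 * cj t e 1 = z₁ * cj t e 3) (r2 : cj t e 1 * cj t e 0 = z₂ * cj t e 3)
  (hgen : Subgroup.closure {e, t} ⊔ Z = ⊤)

include hZ hz₁ hz₂ r1 r2 in
theorem SS_comm : ∀ a ∈ SS Z e t, ∀ b ∈ SS Z e t, a * b = b * a := by
  obtain ⟨h01, h02, h12⟩ := comm_all Z hZ e t z₁ z₂ hz₁ hz₂ r1 r2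
  rw [commutatorElement_eq_one_iff_mul_comm] at h01 h02 h12
  intro a ha b hb
  rcases ha with ha | ha
  · rcases hb with hb | hb
    · simp only [Set.mem_insert_iff, Set.mem_singleton_iff] at ha hb
      rcases ha with rfl | rfl | rfl <;> rcases hb with rfl | rfl | rfl <;>
        first | rfl | assumption | (symm; assumption)
    · exact central_comm Z hZ hb a
  · exact (central_comm Z hZ ha b).symm

include hZ hz₁ hz₂ r1 r2 in
theorem UU_comm : ∀ x ∈ UU Z e t, ∀ y ∈ UU Z e t, x * y = y * x := by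
  have hS := SS_comm Z hZ e t z₁ z₂ hz₁ hz₂ r1 r2
  have h1 : UU Z e t ≤ Subgroup.centralizer (SS Z e t) := by
    unfold UU
    rw [Subgroup.closure_le]
    intro a ha
    rw [SetLike.mem_coe, Subgroup.mem_centralizer_iff]
    intro b hb
    exact hS b hb a ha
  have h2 : UU Z e t ≤ Subgroup.centralizer (UU Z e t : Set Γ) := by
    conv_lhs => unfold UU
    rw [Subgroup.closure_le]
    intro a ha
    rw [SetLike.mem_coe, Subgroup.mem_centralizer_iff]
    intro x hx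
    have := Subgroup.mem_centralizer_iff.1 (h1 hx) a ha
    exact this.symm
  intro x hx y hy
  exact (Subgroup.mem_centralizer_iff.1 (h2 hy) x hx)

include hZ hz₁ r1 in
theorem conj_mem_UU {x : Γ} (hx : x ∈ UU Z e t) : t * x * t⁻¹ ∈ UU Z e t := by
  have hle : UU Z e t ≤ (UU Z e t).comap (MulAut.conj t).toMonoidHom := by
    conv_lhs => unfold UU
    rw [Subgroup.closure_le]
    intro a ha
    rw [SetLike.mem_coe, Subgroup.mem_comap]
    show t * a * t⁻¹ ∈ UU Z e t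
    rcases ha with ha | ha
    · simp only [Set.mem_insert_iff, Set.mem_singleton_iff] at ha
      rcases ha with rfl | rfl | rfl
      · rw [← cj_succ]; exact cj1_mem Z e t
      · rw [← cj_succ]; exact cj2_mem Z e t
      · rw [← cj_succ]
        have hc3 : cj t e (2 + 1) = z₁⁻¹ * (cj t e 0 * cj t e 1) := by
          show cj t e 3 = _
          rw [r1]; group
        rw [hc3]
        exact (UU Z e t).mul_mem (Z_le_UU Z e t (Z.inv_mem hz₁))
          ((UU Z e t).mul_mem (cj0_mem Z e t) (cj1_mem Z e t))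
    · rw [central_conj Z hZ ha]
      exact Z_le_UU Z e t ha
  exact hle hx

include hZ hz₁ r1 in
theorem pow_conj_mem_UU (n : ℕ) {x : Γ} (hx : x ∈ UU Z e t) :
    t ^ n * x * (t ^ n)⁻¹ ∈ UU Z e t := by
  induction n with
  | zero => simpa using hx
  | succ n ih =>
    have := conj_mem_UU Z hZ e t z₁ hz₁ r1 ih
    have h2 : t * (t ^ n * x * (t ^ n)⁻¹) * t⁻¹ = t ^ (n + 1) * x * (t ^ (n + 1))⁻¹ := by
      rw [pow_succ']; group
    rwa [h2] at this

include hZ hz₁ r1 h7 in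
theorem inv_conj_mem_UU {x : Γ} (hx : x ∈ UU Z e t) : t⁻¹ * x * t ∈ UU Z e t := by
  have h6 := pow_conj_mem_UU Z hZ e t z₁ hz₁ r1 6 hx
  have hc := central_comm Z hZ (Z.inv_mem h7)
  -- `t⁻¹ = t⁶ (t⁷)⁻¹`
  have h1 : t⁻¹ = (t ^ 7)⁻¹ * t ^ 6 := by
    rw [show (7 : ℕ) = 6 + 1 by rfl, pow_succ]; group
  have h2 : t⁻¹ * x * t = t ^ 6 * x * (t ^ 6)⁻¹ := by
    have h3 : t = (t ^ 6)⁻¹ * t ^ 7 := by
      rw [show (7 : ℕ) = 6 + 1 by rfl, pow_succ]; group
    calc t⁻¹ * x * t = (t ^ 7)⁻¹ * t ^ 6 * x * ((t ^ 6)⁻¹ * t ^ 7) := by rw [← h1, ← h3]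
      _ = (t ^ 7)⁻¹ * (t ^ 6 * x * (t ^ 6)⁻¹ * t ^ 7) := by group
      _ = (t ^ 7)⁻¹ * (t ^ 7 * (t ^ 6 * x * (t ^ 6)⁻¹)) := by
          rw [central_comm Z hZ h7 (t ^ 6 * x * (t ^ 6)⁻¹)]
      _ = t ^ 6 * x * (t ^ 6)⁻¹ := by group
  rw [h2]
  exact h6

include hZ hz₁ r1 h7 hgen in
theorem UU_normal : (UU Z e t).Normal := by
  have hN : Subgroup.normalizer (UU Z e t : Set Γ) = ⊤ := by
    rw [eq_top_iff, ← hgen, sup_le_iff]
    constructor
    · rw [Subgroup.closure_le]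
      intro g hg
      simp only [Set.mem_insert_iff, Set.mem_singleton_iff] at hg
      rcases hg with rfl | rfl
      · apply Subgroup.le_normalizer
        have := cj0_mem Z g t
        rwa [cj_zero] at this
      · rw [SetLike.mem_coe, Subgroup.mem_normalizer_iff]
        intro x
        constructor
        · exact fun hx => conj_mem_UU Z hZ e g z₁ hz₁ r1 hx
        · intro hx
          have := inv_conj_mem_UU Z hZ e g z₁ hz₁ h7 r1 hx
          have h2 : g⁻¹ * (g * x * g⁻¹) * g = x := by group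
          rwa [h2] at this
    · exact le_trans (Z_le_UU Z e t) Subgroup.le_normalizer
  exact Subgroup.normalizer_eq_top_iff.1 hN

include hgen in
theorem mk_mem_zpowers (hN : (UU Z e t).Normal) (g : Γ) :
    (QuotientGroup.mk g : Γ ⧸ UU Z e t) ∈ Subgroup.zpowers (QuotientGroup.mk t : Γ ⧸ UU Z e t) := by
  have hle : (⊤ : Subgroup Γ) ≤
      (Subgroup.zpowers (QuotientGroup.mk t : Γ ⧸ UU Z e t)).comap (QuotientGroup.mk' (UU Z e t)) := by
    rw [← hgen, sup_le_iff]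
    constructor
    · rw [Subgroup.closure_le]
      intro g hg
      simp only [Set.mem_insert_iff, Set.mem_singleton_iff] at hg
      rw [SetLike.mem_coe, Subgroup.mem_comap]
      rcases hg with rfl | rfl
      · have h1 : (QuotientGroup.mk' (UU Z g t)) g = 1 := by
          rw [QuotientGroup.mk'_apply, QuotientGroup.eq_one_iff]
          have := cj0_mem Z g t
          rwa [cj_zero] at this
        rw [h1]
        exact Subgroup.one_mem _
      · exact Subgroup.mem_zpowers _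
    · intro z hz
      rw [Subgroup.mem_comap]
      have h1 : (QuotientGroup.mk' (UU Z e t)) z = 1 := by
        rw [QuotientGroup.mk'_apply, QuotientGroup.eq_one_iff]
        exact Z_le_UU Z e t hz
      rw [h1]
      exact Subgroup.one_mem _
  exact hle (Subgroup.mem_top g)

include hZ hs hz₁ hz₂ h0 h7 r1 r2 hgen in
/-- **the lifted relations force a trivial intersection with the commutator subgroup** -/
theorem inf_commutator_eq_bot' : Z ⊓ commutator Γ = ⊥ := by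
  have hN : (UU Z e t).Normal := UU_normal Z hZ e t z₁ hz₁ h7 r1 hgen
  have hab := UU_comm Z hZ e t z₁ z₂ hz₁ hz₂ r1 r2
  have hcyc : IsCyclic (Γ ⧸ UU Z e t) := by
    refine ⟨⟨(QuotientGroup.mk t : Γ ⧸ UU Z e t), fun y => ?_⟩⟩
    obtain ⟨g, rfl⟩ := QuotientGroup.mk_surjective y
    exact mk_mem_zpowers Z e t hgen hN g
  have hcomm : ∀ g : Γ, g * t * g⁻¹ * t⁻¹ ∈ UU Z e t := by
    intro g
    obtain ⟨k, hk⟩ := Subgroup.mem_zpowers_iff.1 (mk_mem_zpowers Z e t hgen hN g)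
    rw [← QuotientGroup.eq_one_iff]
    have : ((g * t * g⁻¹ * t⁻¹ : Γ) : Γ ⧸ UU Z e t) =
        (g : Γ ⧸ UU Z e t) * (t : Γ ⧸ UU Z e t) * (g : Γ ⧸ UU Z e t)⁻¹ *
          (t : Γ ⧸ UU Z e t)⁻¹ := rfl
    rw [this, ← hk]
    group
  -- the key congruence
  have hsq : ∀ i : ℕ, cj t e i * cj t e i = s := by
    intro i
    unfold cj
    have : t ^ i * e * (t ^ i)⁻¹ * (t ^ i * e * (t ^ i)⁻¹) = t ^ i * (e * e) * (t ^ i)⁻¹ := by
      group
    rw [this, h0, central_conj Z hZ hs]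
  have hgenD : ∀ i : ℕ, phi t (cj t e i) = t ^ 3 * cj t e i * (t ^ 3)⁻¹ * (s⁻¹ * z₂) := by
    intro i
    have h2 := r2_shift Z hZ e t z₂ hz₂ r2 i
    have hinv : (cj t e i)⁻¹ = s⁻¹ * cj t e i := by
      rw [← hsq i]; group
    unfold phi
    rw [← cj_succ, hinv, ← cj_add, add_comm 3 i]
    have hc := central_comm Z hZ (Z.inv_mem hs) (cj t e (i + 1))
    calc cj t e (i + 1) * (s⁻¹ * cj t e i) = (cj t e (i + 1) * s⁻¹) * cj t e i := by group
      _ = s⁻¹ * (cj t e (i + 1) * cj t e i) := by rw [hc]; group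
      _ = s⁻¹ * (z₂ * cj t e (i + 3)) := by rw [h2]
      _ = cj t e (i + 3) * (s⁻¹ * z₂) := by
          rw [← mul_assoc, central_comm Z hZ (Z.mul_mem (Z.inv_mem hs) hz₂)]
  have hD : ∀ x ∈ UU Z e t, ∃ z ∈ Z, phi t x = t ^ 3 * x * (t ^ 3)⁻¹ * z := by
    intro x hx
    unfold UU at hx
    induction hx using Subgroup.closure_induction with
    | mem a ha =>
      rcases ha with ha | ha
      · simp only [Set.mem_insert_iff, Set.mem_singleton_iff] at ha
        rcases ha with rfl | rfl | rfl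
        · exact ⟨_, Z.mul_mem (Z.inv_mem hs) hz₂, hgenD 0⟩
        · exact ⟨_, Z.mul_mem (Z.inv_mem hs) hz₂, hgenD 1⟩
        · exact ⟨_, Z.mul_mem (Z.inv_mem hs) hz₂, hgenD 2⟩
      · refine ⟨a⁻¹, Z.inv_mem ha, ?_⟩
        unfold phi
        rw [central_conj Z hZ ha, central_conj Z hZ ha]
    | one =>
      refine ⟨1, Z.one_mem, ?_⟩
      unfold phi
      group
    | mul x y hx hy ihx ihy =>
      obtain ⟨zx, hzx, ex⟩ := ihx
      obtain ⟨zy, hzy, ey⟩ := ihy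
      refine ⟨zx * zy, Z.mul_mem hzx hzy, ?_⟩
      have hx' : x ∈ UU Z e t := hx
      have hy' : y ∈ UU Z e t := hy
      rw [phi_mul (UU Z e t) hab t hx' hy', ex, ey]
      have hc := central_comm Z hZ hzx (t ^ 3 * y * (t ^ 3)⁻¹)
      calc t ^ 3 * x * (t ^ 3)⁻¹ * zx * (t ^ 3 * y * (t ^ 3)⁻¹ * zy)
          = t ^ 3 * x * (t ^ 3)⁻¹ * (zx * (t ^ 3 * y * (t ^ 3)⁻¹)) * zy := by group
        _ = t ^ 3 * x * (t ^ 3)⁻¹ * ((t ^ 3 * y * (t ^ 3)⁻¹) * zx) * zy := by rw [hc]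
        _ = t ^ 3 * (x * y) * (t ^ 3)⁻¹ * (zx * zy) := by group
    | inv x hx ih =>
      obtain ⟨zx, hzx, ex⟩ := ih
      refine ⟨zx⁻¹, Z.inv_mem hzx, ?_⟩
      have hx' : x ∈ UU Z e t := hx
      have h1 := phi_mul (UU Z e t) hab t hx' ((UU Z e t).inv_mem hx')
      rw [mul_inv_cancel] at h1
      have h2 : phi t (1 : Γ) = 1 := by unfold phi; group
      rw [h2] at h1
      have h3 : phi t x⁻¹ = (phi t x)⁻¹ := (inv_eq_of_mul_eq_one_right h1.symm).symm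
      rw [h3, ex]
      have hc := central_comm Z hZ (Z.inv_mem hzx) (t ^ 3 * x⁻¹ * (t ^ 3)⁻¹)
      calc (t ^ 3 * x * (t ^ 3)⁻¹ * zx)⁻¹ = zx⁻¹ * (t ^ 3 * x⁻¹ * (t ^ 3)⁻¹) := by group
        _ = t ^ 3 * x⁻¹ * (t ^ 3)⁻¹ * zx⁻¹ := by rw [hc]
  apply inf_commutator_eq_bot (UU Z e t) hab Z hZ t hcomm
  · intro x hx hphi
    obtain ⟨z, hz, hxz⟩ := hD x hx
    have h1 : t ^ 3 * x * (t ^ 3)⁻¹ ∈ Z := by
      have : t ^ 3 * x * (t ^ 3)⁻¹ = phi t x * z⁻¹ := by rw [hxz]; group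
      rw [this]
      exact Z.mul_mem hphi (Z.inv_mem hz)
    have h2 := central_conj Z hZ h1 (t ^ 3)⁻¹
    have h3 : (t ^ 3)⁻¹ * (t ^ 3 * x * (t ^ 3)⁻¹) * (t ^ 3)⁻¹⁻¹ = x := by group
    rw [h3] at h2
    rw [h2]
    exact h1
  · intro y hy
    have hx : (t ^ 3)⁻¹ * y * t ^ 3 ∈ UU Z e t := by
      have := hN.conj_mem y hy (t ^ 3)⁻¹
      rwa [inv_inv] at this
    obtain ⟨z, hz, hxz⟩ := hD _ hx
    refine ⟨_, hx, z⁻¹, Z.inv_mem hz, ?_⟩
    rw [hxz]
    group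

end Main

end Core

section Stem

universe u

theorem map_cj {Γ Q : Type*} [Group Γ] [Group Q] (σ : Γ →* Q) (t e : Γ) (i : ℕ) :
    σ (cj t e i) = cj (σ t) (σ e) i := by
  unfold cj
  rw [map_mul, map_mul, map_inv, map_pow]

/-- a finite group generated by `e, t` with `e² = 1`, `t⁷ = 1` and `e · e^t = e^{t³} = e^t · e`
has trivial Schur multiplier -/
theorem trivial_mult {Q : Type u} [Group Q] [Finite Q] (e t : Q) (h0 : e * e = 1)
    (h7 : t ^ 7 = 1) (r1 : e * (t * e * t⁻¹) = t ^ 3 * e * (t ^ 3)⁻¹)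
    (r2 : (t * e * t⁻¹) * e = t ^ 3 * e * (t ^ 3)⁻¹)
    (hgen : Subgroup.closure {e, t} = ⊤) : Cfsg.HasCyclicSchurMultiplier Q 1 := by
  apply trivial_multiplier_of
  intro Γ _ _ σ hσ
  obtain ⟨hsurj, hcen, hcomm⟩ := hσ
  obtain ⟨e', he'⟩ := hsurj e
  obtain ⟨t', ht'⟩ := hsurj t
  have hc0 : cj t e 0 = e := cj_zero t e
  have hc1 : cj t e 1 = t * e * t⁻¹ := by simp [cj]
  have hc3 : cj t e 3 = t ^ 3 * e * (t ^ 3)⁻¹ := rfl
  have hz₁ : cj t' e' 0 * cj t' e' 1 * (cj t' e' 3)⁻¹ ∈ σ.ker := by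
    rw [MonoidHom.mem_ker, map_mul, map_mul, map_inv, map_cj, map_cj, map_cj, he', ht', hc0, hc1,
      hc3, r1, mul_inv_cancel]
  have hz₂ : cj t' e' 1 * cj t' e' 0 * (cj t' e' 3)⁻¹ ∈ σ.ker := by
    rw [MonoidHom.mem_ker, map_mul, map_mul, map_inv, map_cj, map_cj, map_cj, he', ht', hc0, hc1,
      hc3, r2, mul_inv_cancel]
  have hs : e' * e' ∈ σ.ker := by
    rw [MonoidHom.mem_ker, map_mul, he', h0]
  have h7' : t' ^ 7 ∈ σ.ker := by
    rw [MonoidHom.mem_ker, map_pow, ht', h7]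
  have hgen' : Subgroup.closure {e', t'} ⊔ σ.ker = ⊤ := by
    rw [eq_top_iff]
    intro g _
    have hg : σ g ∈ (Subgroup.closure {e', t'}).map σ := by
      rw [MonoidHom.map_closure]
      have : σ '' {e', t'} = {e, t} := by
        rw [Set.image_pair, he', ht']
      rw [this, hgen]
      exact Subgroup.mem_top _
    obtain ⟨y, hy, hyg⟩ := hg
    have hk : y⁻¹ * g ∈ σ.ker := by
      rw [MonoidHom.mem_ker, map_mul, map_inv, hyg, inv_mul_cancel]
    have : g = y * (y⁻¹ * g) := by group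
    rw [this]
    exact Subgroup.mul_mem_sup hy hk
  have key := inf_commutator_eq_bot' σ.ker hcen e' t' (e' * e') _ _ hs hz₁ hz₂ rfl h7'
    (by group) (by group) hgen'
  rw [← key]
  exact le_antisymm (le_inf le_rfl hcomm) inf_le_left

end Stem

end Cfsg.Agent.Helper65.Frob56
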