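import Mathlib

set_option autoImplicit false

namespace Cfsg.Agent.Helper65.G24

/-- one projection of the diagonal argument -/
theorem h65_proj_equiv {A B : Type*} [Group A] [Group B] (f : A →* B) (T : Subgroup A) (K : Subgroup B)
    (hmap : T.map f = K) (N : ℕ) (hN : 0 < N) (hfin : Finite ↥T) (hbound : Nat.card ↥T ≤ N)
    (hK : Nat.card ↥K = N) : Nonempty (↥T ≃* ↥K) := by
  subst hmap
  have hsurj : Function.Surjective (f.subgroupMap T) := f.subgroupMap_surjective T
  have hbij : Function.Bijective (f.subgroupMap T) :=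
    hsurj.bijective_of_nat_card_le (by rw [hK]; exact hbound)
  exact ⟨MulEquiv.ofBijective (f.subgroupMap T) hbij⟩

/-- (ABS) [M, generic] the diagonal argument: `T := closure {(x g, y g)}`; `MonoidHom.fst` maps `T` onto `closure (x '' _)`
(`MonoidHom.map_closure`, `Set.image_image`), a surjection from a set of at most `N` elements onto one of exactly `N` elements is bijective
(`Nat.card` + `Function.Surjective.bijective_of_nat_card_le` / `Finite`), same for `snd`; compose the two `MulEquiv`s. -/
theorem iso_of_diagonal {P G : Type*} [Group P] [Group G] (N : ℕ) (hN : 0 < N) (x : ℕ → P) (y : ℕ → G) (m : ℕ)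
    (hfin : Finite ↥(Subgroup.closure ((fun g => ((x g, y g) : P × G)) '' {g | g < m})))
    (hbound : Nat.card ↥(Subgroup.closure ((fun g => ((x g, y g) : P × G)) '' {g | g < m})) ≤ N)
    (hH : Nat.card ↥(Subgroup.closure (x '' {g | g < m})) = N)
    (hS : Nat.card ↥(Subgroup.closure (y '' {g | g < m})) = N) :
    Nonempty (↥(Subgroup.closure (x '' {g | g < m})) ≃* ↥(Subgroup.closure (y '' {g | g < m}))) := by
  have h1 : (Subgroup.closure ((fun g => ((x g, y g) : P × G)) '' {g | g < m})).map (MonoidHom.fst P G) =
      Subgroup.closure (x '' {g | g < m}) := by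
    rw [MonoidHom.map_closure, Set.image_image]
    rfl
  have h2 : (Subgroup.closure ((fun g => ((x g, y g) : P × G)) '' {g | g < m})).map (MonoidHom.snd P G) =
      Subgroup.closure (y '' {g | g < m}) := by
    rw [MonoidHom.map_closure, Set.image_image]
    rfl
  obtain ⟨e1⟩ := h65_proj_equiv (MonoidHom.fst P G) _ _ h1 N hN hfin hbound hH
  obtain ⟨e2⟩ := h65_proj_equiv (MonoidHom.snd P G) _ _ h2 N hN hfin hbound hS
  exact ⟨e1.symm.trans e2⟩

end Cfsg.Agent.Helper65.G24
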