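import Mathlib

set_option autoImplicit false

/-!
# Sub-lemma (N) for G2 (NILCRIT) `g2_nilcrit` (helper31 server, S3795)

`nil_sylow_fixed_eq_bot`: a finite nilpotent group generated by the elements `x⁻¹ t(x)` has no
nontrivial Sylow subgroup fixed pointwise by `t`.
-/

namespace Cfsg.Agent.Helper65.G2

open Subgroup

/-- If `g ^ a` and `g ^ b` lie in the normal subgroup `D` with `a`, `b` coprime, then `g ∈ D`. -/
theorem h65n_mem_of_pow_pow {X : Type*} [Group X] (D : Subgroup X) [D.Normal] (g : X)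
    (a b : ℕ) (hab : Nat.Coprime a b) (ha : g ^ a ∈ D) (hb : g ^ b ∈ D) : g ∈ D := by
  have h1 : ((g : X) : X ⧸ D) ^ a = 1 := by
    rw [← QuotientGroup.mk_pow]; exact (QuotientGroup.eq_one_iff _).2 ha
  have h2 : ((g : X) : X ⧸ D) ^ b = 1 := by
    rw [← QuotientGroup.mk_pow]; exact (QuotientGroup.eq_one_iff _).2 hb
  have h3 : orderOf ((g : X) : X ⧸ D) ∣ Nat.gcd a b :=
    Nat.dvd_gcd (orderOf_dvd_of_pow_eq_one h1) (orderOf_dvd_of_pow_eq_one h2)
  rw [hab] at h3
  have h4 : ((g : X) : X ⧸ D) = 1 := orderOf_eq_one_iff.1 (Nat.dvd_one.1 h3)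
  exact (QuotientGroup.eq_one_iff _).1 h4

theorem nil_sylow_fixed_eq_bot {X : Type*} [Group X] [Finite X] (hX : Group.IsNilpotent X)
    (t : MulAut X) (hgen : Subgroup.closure {c : X | ∃ x : X, c = x⁻¹ * t x} = ⊤)
    (q : ℕ) (hq : q.Prime) (P : Subgroup X) (hP : IsPGroup q P) (hidx : ¬ q ∣ P.index)
    (hfix : ∀ g ∈ P, t g = g) : P = ⊥ := by
  have : Fact q.Prime := ⟨hq⟩
  have hnorm : ∀ (p : ℕ) (_ : Fact p.Prime) (R : Sylow p X), (R : Subgroup X).Normal :=
    ((Group.isNilpotent_of_finite_tfae (G := X)).out 0 3).mp hX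
  have hSP : ((hP.toSylow hidx : Sylow q X) : Subgroup X) = P := IsPGroup.toSylow_coe hP hidx
  have hPn : P.Normal := hSP ▸ hnorm q ⟨hq⟩ (hP.toSylow hidx)
  -- the centraliser of `P`
  have hDt : ∀ d ∈ Subgroup.centralizer (P : Set X), t d ∈ Subgroup.centralizer (P : Set X) := by
    intro d hd
    rw [Subgroup.mem_centralizer_iff] at hd ⊢
    intro g hg
    have := congrArg t (hd g hg)
    rwa [map_mul, map_mul, hfix g hg] at this
  -- `D` contains every Sylow `s`-subgroup, `s ≠ q`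
  have hDs : ∀ s : ℕ, s.Prime → s ≠ q → ¬ s ∣ (Subgroup.centralizer (P : Set X)).index := by
    intro s hs hsq hdvd
    have : Fact s.Prime := ⟨hs⟩
    obtain ⟨R⟩ : Nonempty (Sylow s X) := inferInstance
    have hRn : (R : Subgroup X).Normal := hnorm s ⟨hs⟩ R
    have hle : (R : Subgroup X) ≤ Subgroup.centralizer (P : Set X) := by
      intro r hr
      rw [Subgroup.mem_centralizer_iff]
      intro g hg
      exact (Subgroup.commute_of_normal_of_disjoint _ _ hPn hRn
        (IsPGroup.disjoint_of_ne q s (Ne.symm hsq) _ _ hP R.2) g r hg hr).eq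
    exact R.not_dvd_index (hdvd.trans (Subgroup.index_dvd_of_le hle))
  -- `P ⊔ D = ⊤`
  have hsup : P ⊔ Subgroup.centralizer (P : Set X) = ⊤ := by
    rw [← Subgroup.index_eq_one, Nat.eq_one_iff_not_exists_prime_dvd]
    intro s hs hdvd
    by_cases hsq : s = q
    · subst hsq
      exact hidx (hdvd.trans (Subgroup.index_dvd_of_le le_sup_left))
    · exact hDs s hs hsq (hdvd.trans (Subgroup.index_dvd_of_le le_sup_right))
  -- all generators lie in `D`
  have hgenD : ∀ x : X, x⁻¹ * t x ∈ Subgroup.centralizer (P : Set X) := by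
    intro x
    have hx : x ∈ P ⊔ Subgroup.centralizer (P : Set X) := hsup ▸ Subgroup.mem_top x
    rw [← SetLike.mem_coe, Subgroup.mul_normal] at hx
    obtain ⟨a, ha, d, hd, rfl⟩ := hx
    have : (a * d)⁻¹ * t (a * d) = d⁻¹ * t d := by
      rw [map_mul, hfix a ha]; group
    rw [this]
    exact Subgroup.mul_mem _ (Subgroup.inv_mem _ hd) (hDt d hd)
  have hDtop : Subgroup.centralizer (P : Set X) = ⊤ := by
    rw [eq_top_iff, ← hgen, Subgroup.closure_le]
    rintro c ⟨x, rfl⟩
    exact hgenD x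
  -- Burnside transfer
  have hNC : Subgroup.normalizer ((hP.toSylow hidx : Sylow q X) : Set X) ≤
      Subgroup.centralizer ((hP.toSylow hidx : Sylow q X) : Set X) := by
    have : ((hP.toSylow hidx : Sylow q X) : Set X) = (P : Set X) :=
      congrArg (fun H : Subgroup X => (H : Set X)) hSP
    rw [this, hDtop]; exact le_top
  have hcompl := MonoidHom.ker_transferSylow_isComplement' (hP.toSylow hidx) hNC
  have hnd := MonoidHom.not_dvd_card_ker_transferSylow (hP.toSylow hidx) hNC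
  set φ := MonoidHom.transferSylow (hP.toSylow hidx) hNC with hφ
  -- the kernel is `{x | x ^ m = 1}`
  have hker : ∀ x : X, x ∈ φ.ker ↔ x ^ Nat.card φ.ker = 1 := by
    intro x
    constructor
    · intro hx
      have := pow_card_eq_one' (G := φ.ker) (x := ⟨x, hx⟩)
      exact congrArg Subtype.val this
    · intro hx
      rw [MonoidHom.mem_ker]
      have h1 : (φ x) ^ Nat.card φ.ker = 1 := by rw [← map_pow, hx, map_one]
      obtain ⟨k, hk⟩ := (hP.toSylow hidx).2 (φ x)
      have hcop : Nat.Coprime (Nat.card φ.ker) (q ^ k) :=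
        Nat.Coprime.pow_right k ((Nat.Prime.coprime_iff_not_dvd hq).2 hnd).symm
      have h3 : orderOf (φ x) ∣ Nat.gcd (Nat.card φ.ker) (q ^ k) :=
        Nat.dvd_gcd (orderOf_dvd_of_pow_eq_one h1) (orderOf_dvd_of_pow_eq_one hk)
      rw [hcop] at h3
      exact orderOf_eq_one_iff.1 (Nat.dvd_one.1 h3)
  have hkert : ∀ x ∈ φ.ker, t x ∈ φ.ker := by
    intro x hx
    rw [hker] at hx ⊢
    rw [← map_pow, hx, map_one]
  have hgenK : ∀ x : X, x⁻¹ * t x ∈ φ.ker := by
    intro x
    have hx : x ∈ φ.ker ⊔ (hP.toSylow hidx : Subgroup X) := by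
      rw [hcompl.sup_eq_top]; exact Subgroup.mem_top x
    rw [← SetLike.mem_coe, Subgroup.normal_mul] at hx
    obtain ⟨n, hn, a, ha, rfl⟩ := hx
    have ha' : a ∈ P := hSP ▸ ha
    have : (n * a)⁻¹ * t (n * a) = a⁻¹ * (n⁻¹ * t n) * a := by
      rw [map_mul, hfix a ha']; group
    rw [this]
    have hnn : n⁻¹ * t n ∈ φ.ker := Subgroup.mul_mem _ (Subgroup.inv_mem _ hn) (hkert n hn)
    have := (inferInstance : φ.ker.Normal).conj_mem _ hnn a⁻¹
    simpa using this
  have hKtop : φ.ker = ⊤ := by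
    rw [eq_top_iff, ← hgen, Subgroup.closure_le]
    rintro c ⟨x, rfl⟩
    exact hgenK x
  have hdisj := hcompl.disjoint
  rw [hKtop, hSP] at hdisj
  exact top_disjoint.1 hdisj

end Cfsg.Agent.Helper65.G2
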