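import Mathlib
import Cfsg.Agent.Lib.Helper65.G2NilN

set_option autoImplicit false

/-!
# G2 (NILCRIT) `g2_nilcrit` (helper31 server, S3795), statement verbatim

Route: for a prime `q` with its `t`-invariant Sylow subgroup `P`, let `A` be the set of elements of
`L` of prime power order `s ^ e`, `s ≠ q`, and `C = C_K(A)` (normal, `t`-invariant, contains all
`g⁻¹ t(g)`, `g ∈ P`, and all `q`-elements of `L`).  `nil_sylow_fixed_eq_bot` on `K ⧸ (C ⊔ L)` gives
`P ≤ C ⊔ L`, then `P ≤ C` by coprimality; `P ⊔ L ⊴ K` as `K ⧸ L` is nilpotent, `L ≤ N_K(P)` Sylow by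
Sylow, so every conjugate of `P` normalises `P` and equals `P` by maximality.
-/

namespace Cfsg.Agent.Helper65.G2

open Subgroup

/-- In a finite nilpotent group a `q`-element commutes with an `s`-element, `q ≠ s`. -/
theorem h65n_commute {X : Type*} [Group X] [Finite X] (hX : Group.IsNilpotent X) {q s : ℕ}
    (hq : q.Prime) (hs : s.Prime) (hne : q ≠ s) (x a : X) (k e : ℕ) (hx : x ^ q ^ k = 1)
    (ha : a ^ s ^ e = 1) : x * a = a * x := by
  have hnorm : ∀ (p : ℕ) (_ : Fact p.Prime) (R : Sylow p X), (R : Subgroup X).Normal :=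
    ((Group.isNilpotent_of_finite_tfae (G := X)).out 0 3).mp hX
  have : Fact q.Prime := ⟨hq⟩
  have : Fact s.Prime := ⟨hs⟩
  have key : ∀ (p : ℕ) (y : X) (j : ℕ), y ^ p ^ j = 1 → IsPGroup p (Subgroup.zpowers y) := by
    intro p y j hy
    rintro ⟨g, hg⟩
    obtain ⟨n, rfl⟩ := Subgroup.mem_zpowers_iff.1 hg
    refine ⟨j, Subtype.ext ?_⟩
    show (y ^ n) ^ p ^ j = 1
    rw [← zpow_natCast, ← zpow_mul, mul_comm, zpow_mul, zpow_natCast, hy, one_zpow]
  obtain ⟨Q, hQ⟩ := (key q x k hx).exists_le_sylow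
  obtain ⟨S, hS⟩ := (key s a e ha).exists_le_sylow
  exact (Subgroup.commute_of_normal_of_disjoint _ _ (hnorm q ⟨hq⟩ Q) (hnorm s ⟨hs⟩ S)
    (IsPGroup.disjoint_of_ne q s hne _ _ Q.2 S.2) x a (hQ (Subgroup.mem_zpowers x))
    (hS (Subgroup.mem_zpowers a))).eq

/-- A quotient of `K` by a normal subgroup containing a term of the lower central series. -/
theorem h65n_quot_nilpotent {K : Type*} [Group K] (L N : Subgroup K) [N.Normal] (hLN : L ≤ N)
    (hKL : ∃ k : ℕ, (⊤ : Subgroup K).lowerCentralSeries k ≤ L) : Group.IsNilpotent (K ⧸ N) := by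
  obtain ⟨k, hk⟩ := hKL
  rw [Subgroup.nilpotent_iff_lowerCentralSeries]
  refine ⟨k, ?_⟩
  have h1 : (⊤ : Subgroup (K ⧸ N)) = (⊤ : Subgroup K).map (QuotientGroup.mk' N) := by
    rw [Subgroup.map_top_of_surjective _ (QuotientGroup.mk'_surjective N)]
  rw [h1, ← Subgroup.map_lowerCentralSeries, eq_bot_iff]
  refine (Subgroup.map_mono (hk.trans hLN)).trans ?_
  rw [le_bot_iff, Subgroup.map_eq_bot_iff, QuotientGroup.ker_mk']

/-- The core of `g2_nilcrit`: the given `t`-invariant Sylow `q`-subgroup is normal. -/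
theorem h65n_sylow_normal {K : Type*} [Group K] [Finite K] {q : ℕ} (hq : q.Prime) (t : MulAut K)
    (htt : ∀ x : K, t (t x) = x) (L : Subgroup K) [hLn : L.Normal] (hLt : ∀ g ∈ L, t g ∈ L)
    (hLnil : Group.IsNilpotent L) (hKL : ∃ k : ℕ, (⊤ : Subgroup K).lowerCentralSeries k ≤ L)
    (hgen : Subgroup.closure {c : K | ∃ k : K, c = k⁻¹ * t k} = ⊤)
    (P : Subgroup K) (hP : IsPGroup q P)
    (hmax : ∀ P' : Subgroup K, IsPGroup q P' → P ≤ P' → P' = P)
    (hcomm : ∀ g ∈ P, ∀ (s e : ℕ), s.Prime → s ≠ q → ∀ a ∈ L, a ^ s ^ e = 1 →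
        (g⁻¹ * t g) * a = a * (g⁻¹ * t g)) : P.Normal := by
  have hqF : Fact q.Prime := ⟨hq⟩
  have hidx : ¬ q ∣ P.index :=
    (⟨P, hP, fun {Q} hQ hPQ => hmax Q hQ hPQ⟩ : Sylow q K).not_dvd_index
  -- the set `A` and its centraliser `C`
  have hAconj : ∀ a ∈ {a : K | a ∈ L ∧ ∃ s e : ℕ, s.Prime ∧ s ≠ q ∧ a ^ s ^ e = 1}, ∀ g : K,
      g * a * g⁻¹ ∈ {a : K | a ∈ L ∧ ∃ s e : ℕ, s.Prime ∧ s ≠ q ∧ a ^ s ^ e = 1} := by
    rintro a ⟨haL, s, e, hs, hsq, hae⟩ g
    refine ⟨hLn.conj_mem a haL g, s, e, hs, hsq, ?_⟩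
    rw [conj_pow, hae, mul_one, mul_inv_cancel]
  have hAt : ∀ a ∈ {a : K | a ∈ L ∧ ∃ s e : ℕ, s.Prime ∧ s ≠ q ∧ a ^ s ^ e = 1},
      t a ∈ {a : K | a ∈ L ∧ ∃ s e : ℕ, s.Prime ∧ s ≠ q ∧ a ^ s ^ e = 1} := by
    rintro a ⟨haL, s, e, hs, hsq, hae⟩
    exact ⟨hLt a haL, s, e, hs, hsq, by rw [← map_pow, hae, map_one]⟩
  generalize hA : {a : K | a ∈ L ∧ ∃ s e : ℕ, s.Prime ∧ s ≠ q ∧ a ^ s ^ e = 1} = A at hAconj hAt
  have hAmem : ∀ a : K, a ∈ L → ∀ s e : ℕ, s.Prime → s ≠ q → a ^ s ^ e = 1 → a ∈ A := by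
    intro a haL s e hs hsq hae
    rw [← hA]; exact ⟨haL, s, e, hs, hsq, hae⟩
  have hCn : (Subgroup.centralizer A).Normal := by
    constructor
    intro c hc g
    rw [Subgroup.mem_centralizer_iff] at hc ⊢
    intro a ha
    have h1 := hc (g⁻¹ * a * g) (by simpa using hAconj a ha g⁻¹)
    calc a * (g * c * g⁻¹) = g * ((g⁻¹ * a * g) * c) * g⁻¹ := by group
      _ = g * (c * (g⁻¹ * a * g)) * g⁻¹ := by rw [h1]
      _ = g * c * g⁻¹ * a := by group
  have hCt : ∀ c ∈ Subgroup.centralizer A, t c ∈ Subgroup.centralizer A := by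
    intro c hc
    rw [Subgroup.mem_centralizer_iff] at hc ⊢
    intro a ha
    have h1 := congrArg t (hc (t a) (hAt a ha))
    rwa [map_mul, map_mul, htt] at h1
  have hPC0 : ∀ g ∈ P, g⁻¹ * t g ∈ Subgroup.centralizer A := by
    intro g hg
    rw [Subgroup.mem_centralizer_iff]
    intro a ha
    rw [← hA] at ha
    obtain ⟨haL, s, e, hs, hsq, hae⟩ := ha
    exact (hcomm g hg s e hs hsq a haL hae).symm
  -- `q`-elements of `L` lie in `C`
  have hqL : ∀ x ∈ L, ∀ k : ℕ, x ^ q ^ k = 1 → x ∈ Subgroup.centralizer A := by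
    intro x hx k hxk
    rw [Subgroup.mem_centralizer_iff]
    intro a ha
    rw [← hA] at ha
    obtain ⟨haL, s, e, hs, hsq, hae⟩ := ha
    have h1 := h65n_commute hLnil hq hs (Ne.symm hsq) (⟨x, hx⟩ : L) ⟨a, haL⟩ k e
      (Subtype.ext (by simpa using hxk)) (Subtype.ext (by simpa using hae))
    have h2 := congrArg Subtype.val h1
    simpa using h2.symm
  -- `N = C ⊔ L`
  have hNt : ∀ x ∈ Subgroup.centralizer A ⊔ L, t x ∈ Subgroup.centralizer A ⊔ L := by
    intro x hx
    rw [← SetLike.mem_coe, Subgroup.normal_mul] at hx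
    obtain ⟨c, hc, l, hl, rfl⟩ := hx
    rw [map_mul]
    exact Subgroup.mul_mem _ (Subgroup.mem_sup_left (hCt c hc)) (Subgroup.mem_sup_right (hLt l hl))
  have hNmap : (Subgroup.centralizer A ⊔ L).map ((t : K ≃* K) : K →* K) =
      Subgroup.centralizer A ⊔ L := by
    apply le_antisymm
    · rintro _ ⟨x, hx, rfl⟩; exact hNt x hx
    · intro x hx; exact ⟨t x, hNt x hx, htt x⟩
  have hPN : P ≤ Subgroup.centralizer A ⊔ L := by
    have hXnil : Group.IsNilpotent (K ⧸ (Subgroup.centralizer A ⊔ L)) :=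
      h65n_quot_nilpotent L (Subgroup.centralizer A ⊔ L) le_sup_right hKL
    have hgenX : Subgroup.closure {c : K ⧸ (Subgroup.centralizer A ⊔ L) | ∃ x, c = x⁻¹ *
        (QuotientGroup.congr (Subgroup.centralizer A ⊔ L) (Subgroup.centralizer A ⊔ L) t hNmap) x}
        = ⊤ := by
      rw [eq_top_iff, ← Subgroup.map_top_of_surjective
        (QuotientGroup.mk' (Subgroup.centralizer A ⊔ L)) (QuotientGroup.mk'_surjective _), ← hgen,
        MonoidHom.map_closure]
      apply Subgroup.closure_mono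
      rintro _ ⟨c, ⟨k, rfl⟩, rfl⟩
      refine ⟨(k : K ⧸ (Subgroup.centralizer A ⊔ L)), ?_⟩
      rw [QuotientGroup.congr_mk]
      rfl
    have hPb : IsPGroup q (P.map (QuotientGroup.mk' (Subgroup.centralizer A ⊔ L))) := hP.map _
    have hidxb : ¬ q ∣ (P.map (QuotientGroup.mk' (Subgroup.centralizer A ⊔ L))).index :=
      fun h => hidx (h.trans (Subgroup.index_map_dvd P (QuotientGroup.mk'_surjective _)))
    have hfixb : ∀ g ∈ P.map (QuotientGroup.mk' (Subgroup.centralizer A ⊔ L)),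
        (QuotientGroup.congr (Subgroup.centralizer A ⊔ L) (Subgroup.centralizer A ⊔ L) t hNmap) g
          = g := by
      rintro _ ⟨g, hg, rfl⟩
      show (QuotientGroup.congr (Subgroup.centralizer A ⊔ L) (Subgroup.centralizer A ⊔ L) t hNmap)
        (g : K ⧸ (Subgroup.centralizer A ⊔ L)) = (g : K ⧸ (Subgroup.centralizer A ⊔ L))
      rw [QuotientGroup.congr_mk, eq_comm, QuotientGroup.eq]
      exact Subgroup.mem_sup_left (hPC0 g hg)
    have h1 := nil_sylow_fixed_eq_bot hXnil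
      (QuotientGroup.congr (Subgroup.centralizer A ⊔ L) (Subgroup.centralizer A ⊔ L) t hNmap)
      hgenX q hq _ hPb hidxb hfixb
    rw [Subgroup.map_eq_bot_iff, QuotientGroup.ker_mk'] at h1
    exact h1
  -- `P ≤ C`
  have hPC : P ≤ Subgroup.centralizer A := by
    intro g hg
    have hgN := hPN hg
    rw [← SetLike.mem_coe, Subgroup.normal_mul] at hgN
    obtain ⟨c, hc, l, hl, rfl⟩ := hgN
    obtain ⟨k, hk⟩ := hP ⟨c * l, hg⟩
    have hk' : (c * l) ^ q ^ k = 1 := by simpa using congrArg Subtype.val hk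
    obtain ⟨e, n', hn', hon⟩ :=
      Nat.exists_eq_pow_mul_and_not_dvd (orderOf_pos l).ne' q hq.ne_one
    have hln : l ^ n' ∈ Subgroup.centralizer A := by
      apply hqL _ (Subgroup.pow_mem _ hl _) e
      rw [← pow_mul, mul_comm, ← hon, pow_orderOf_eq_one]
    apply h65n_mem_of_pow_pow (Subgroup.centralizer A) (c * l) n' (q ^ k) ?_ ?_ ?_
    · exact Nat.Coprime.pow_right k ((Nat.Prime.coprime_iff_not_dvd hq).2 hn').symm
    · have h1 : (((c * l) ^ n' : K) : K ⧸ Subgroup.centralizer A) = 1 := by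
        rw [QuotientGroup.mk_pow, QuotientGroup.mk_mul, (QuotientGroup.eq_one_iff c).2 hc, one_mul,
          ← QuotientGroup.mk_pow]
        exact (QuotientGroup.eq_one_iff _).2 hln
      exact (QuotientGroup.eq_one_iff _).1 h1
    · rw [hk']; exact Subgroup.one_mem _
  -- `P ⊔ L` is normal
  have hPLn : (P ⊔ L).Normal := by
    have hXnil : Group.IsNilpotent (K ⧸ L) := h65n_quot_nilpotent L L le_rfl hKL
    have hnorm : ∀ (p : ℕ) (_ : Fact p.Prime) (R : Sylow p (K ⧸ L)),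
        (R : Subgroup (K ⧸ L)).Normal :=
      ((Group.isNilpotent_of_finite_tfae (G := K ⧸ L)).out 0 3).mp hXnil
    have hPb : IsPGroup q (P.map (QuotientGroup.mk' L)) := hP.map _
    have hidxb : ¬ q ∣ (P.map (QuotientGroup.mk' L)).index :=
      fun h => hidx (h.trans (Subgroup.index_map_dvd P (QuotientGroup.mk'_surjective _)))
    have h1 : (P.map (QuotientGroup.mk' L)).Normal := by
      have h0 := hnorm q ⟨hq⟩ (hPb.toSylow hidxb)
      rwa [IsPGroup.toSylow_coe] at h0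
    have h2 := h1.comap (QuotientGroup.mk' L)
    rwa [QuotientGroup.comap_map_mk', sup_comm] at h2
  -- `L` normalises `P`
  have hLN : L ≤ Subgroup.normalizer (P : Set K) := by
    have htop : (Subgroup.normalizer (P : Set K)).subgroupOf L = ⊤ := by
      rw [← Subgroup.index_eq_one, Nat.eq_one_iff_not_exists_prime_dvd]
      intro s hs hdvd
      have hsF : Fact s.Prime := ⟨hs⟩
      obtain ⟨R⟩ : Nonempty (Sylow s L) := inferInstance
      have hle : (R : Subgroup L) ≤ (Subgroup.normalizer (P : Set K)).subgroupOf L := by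
        intro r hr
        rw [Subgroup.mem_subgroupOf]
        by_cases hsq : s = q
        · subst hsq
          have hnormL : ∀ (p : ℕ) (_ : Fact p.Prime) (R : Sylow p L), (R : Subgroup L).Normal :=
            ((Group.isNilpotent_of_finite_tfae (G := L)).out 0 3).mp hLnil
          have hRn : (R : Subgroup L).Normal := hnormL s ⟨hs⟩ R
          have hRc : (R : Subgroup L).Characteristic := Sylow.characteristic_of_normal R hRn
          have hRK : ((R : Subgroup L).map L.subtype).Normal := inferInstance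
          have hpg : IsPGroup s (P ⊔ (R : Subgroup L).map L.subtype : Subgroup K) :=
            hP.to_sup_of_normal_right (R.2.map _)
          have h1 := hmax _ hpg le_sup_left
          have hrP : (r : K) ∈ P := by
            rw [← h1]; exact Subgroup.mem_sup_right ⟨r, hr, rfl⟩
          exact Subgroup.le_normalizer hrP
        · obtain ⟨e, he⟩ := R.2 ⟨r, hr⟩
          have he' : (r : K) ^ s ^ e = 1 := by
            have := congrArg (fun x : (R : Subgroup L) => ((x : L) : K)) he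
            simpa using this
          have hrA : (r : K) ∈ A := hAmem _ r.2 s e hs hsq he'
          apply Subgroup.centralizer_le_normalizer
          rw [Subgroup.mem_centralizer_iff]
          intro g hg
          have h1 := hPC hg
          rw [Subgroup.mem_centralizer_iff] at h1
          exact (h1 _ hrA).symm
      exact R.not_dvd_index (hdvd.trans (Subgroup.index_dvd_of_le hle))
    intro l hl
    have h1 : (⟨l, hl⟩ : L) ∈ (Subgroup.normalizer (P : Set K)).subgroupOf L := by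
      rw [htop]; trivial
    exact h1
  -- conclusion
  constructor
  intro x hx g
  have hP'q : IsPGroup q (P.map ((MulAut.conj g : K ≃* K) : K →* K)) := hP.map _
  have hP'le : P.map ((MulAut.conj g : K ≃* K) : K →* K) ≤ Subgroup.normalizer (P : Set K) := by
    rintro _ ⟨y, hy, rfl⟩
    have h1 : g * y * g⁻¹ ∈ P ⊔ L := hPLn.conj_mem y (Subgroup.mem_sup_left hy) g
    exact (sup_le Subgroup.le_normalizer hLN) h1
  have hpg : IsPGroup q (P.map ((MulAut.conj g : K ≃* K) : K →* K) ⊔ P : Subgroup K) :=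
    hP'q.to_sup_of_normal_right' hP hP'le
  have h1 := hmax _ hpg le_sup_right
  have h2 : g * x * g⁻¹ ∈ P.map ((MulAut.conj g : K ≃* K) : K →* K) ⊔ P :=
    Subgroup.mem_sup_left ⟨x, hx, rfl⟩
  rwa [h1] at h2

/-- (NILCRIT) a nilpotency criterion (statement verbatim from `tools/g2_sigs_helper31.lean.txt`). -/
theorem g2_nilcrit {K : Type*} [Group K] [Finite K] (hodd : Odd (Nat.card K)) (t : MulAut K)
    (ht : t ^ 2 = 1) (L : Subgroup K) [L.Normal] (hLt : ∀ g ∈ L, t g ∈ L)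
    (hLnil : Group.IsNilpotent L) (hKL : ∃ k : ℕ, (⊤ : Subgroup K).lowerCentralSeries k ≤ L)
    (hgen : Subgroup.closure {c : K | ∃ k : K, c = k⁻¹ * t k} = ⊤)
    (hsyl : ∀ q : ℕ, q.Prime → ∃ P : Subgroup K, IsPGroup q P ∧
      (∀ P' : Subgroup K, IsPGroup q P' → P ≤ P' → P' = P) ∧ (∀ g ∈ P, t g ∈ P) ∧
      ∀ g ∈ P, ∀ (s e : ℕ), s.Prime → s ≠ q → ∀ a ∈ L, a ^ s ^ e = 1 →
        (g⁻¹ * t g) * a = a * (g⁻¹ * t g)) :
    Group.IsNilpotent K := by
  have htt : ∀ x : K, t (t x) = x := by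
    intro x
    have h1 := congrArg (fun f : MulAut K => f x) ht
    simpa [pow_two] using h1
  refine ((Group.isNilpotent_of_finite_tfae (G := K)).out 0 3).mpr ?_
  intro q hqF R
  have hq : q.Prime := hqF.out
  obtain ⟨P, hP, hmax, -, hcomm⟩ := hsyl q hq
  have hPn : P.Normal := h65n_sylow_normal hq t htt L hLt hLnil hKL hgen P hP hmax hcomm
  have hSn : ((⟨P, hP, fun {Q} hQ hPQ => hmax Q hQ hPQ⟩ : Sylow q K) : Subgroup K).Normal := hPn
  have huniq := Sylow.unique_of_normal (⟨P, hP, fun {Q} hQ hPQ => hmax Q hQ hPQ⟩ : Sylow q K) hSn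
  have hRS : R = (⟨P, hP, fun {Q} hQ hPQ => hmax Q hQ hPQ⟩ : Sylow q K) := Subsingleton.elim _ _
  rw [hRS]; exact hPn

end Cfsg.Agent.Helper65.G2
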