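import Mathlib
import Cfsg.Agent.S1611

/-! The monomial automorphism group of the hexacode as a group (`3.A₆`), with its map onto `A₆`. -/

set_option autoImplicit false

namespace Cfsg.Agent.Helper65.HexaGroup

open Cfsg.Agent.S1611 Cfsg.Agent.S1610

section general

variable {F : Type*} [Field F]

/-- the coordinate permutations acting on the vectors of scalars -/
def permAut (F : Type*) [Field F] : Equiv.Perm (Fin 6) →* MulAut (Fin 6 → Fˣ) where
  toFun σ :=
    { toFun := fun c i => c (σ.symm i)
      invFun := fun c i => c (σ i)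
      left_inv := fun c => by funext i; simp
      right_inv := fun c => by funext i; simp
      map_mul' := fun _ _ => rfl }
  map_one' := by ext c i; rfl
  map_mul' := fun σ τ => by ext c i; rfl

theorem permAut_apply (σ : Equiv.Perm (Fin 6)) (c : Fin 6 → Fˣ) (i : Fin 6) :
    permAut F σ c i = c (σ.symm i) := rfl

/-- the monomial group -/
abbrev Mon (F : Type*) [Field F] : Type _ := (Fin 6 → Fˣ) ⋊[permAut F] Equiv.Perm (Fin 6)

instance [Finite F] : Finite (Mon F) := Finite.of_equiv _ SemidirectProduct.equivProd.symm

theorem pres_mul (ω : F) (a b : Mon F) (ha : Pres F ω a.right a.left)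
    (hb : Pres F ω b.right b.left) : Pres F ω (a * b).right (a * b).left := by
  intro x hx
  have h := ha _ (hb x hx)
  rw [monomialMap_comp] at h
  exact h

theorem pres_one (ω : F) : Pres F ω (1 : Mon F).right (1 : Mon F).left := by
  intro x hx
  have : Cfsg.monomialMap (1 : Mon F).right (1 : Mon F).left x = x := monomialMap_one x
  rw [this]
  exact hx

/-- the monomial maps preserving the hexacode, as a submonoid -/
def hexMonoid (F : Type*) [Field F] (ω : F) : Submonoid (Mon F) where
  carrier := {w | Pres F ω w.right w.left}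
  mul_mem' := fun {a b} ha hb => pres_mul ω a b ha hb
  one_mem' := pres_one ω

/-- the monomial maps preserving the hexacode, as a subgroup -/
def hexGroup (F : Type*) [Field F] [Finite F] (ω : F) : Subgroup (Mon F) :=
  { hexMonoid F ω with
    inv_mem' := by
      intro w hw
      have h1 : w⁻¹ = w ^ (orderOf w - 1) := by
        apply inv_eq_of_mul_eq_one_left
        rw [← pow_succ, Nat.sub_add_cancel (orderOf_pos w), pow_orderOf_eq_one]
      rw [h1]
      exact (hexMonoid F ω).pow_mem hw _ }

theorem mem_hexGroup [Finite F] (ω : F) (w : Mon F) :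
    w ∈ hexGroup F ω ↔ Pres F ω w.right w.left := Iff.rfl

end general

section four

variable {F : Type*} [Field F] [Fintype F]

/-- the permutation part, as a map to the alternating group -/
def toAlt (hF : Fintype.card F = 4) (ω : F) (hω : ω ^ 2 + ω + 1 = 0) :
    hexGroup F ω →* alternatingGroup (Fin 6) :=
  (SemidirectProduct.rightHom.comp (hexGroup F ω).subtype).codRestrict (alternatingGroup (Fin 6))
    (fun w => by
      rw [← T_eq hF ω hω]
      exact ⟨w.1.left, w.2⟩)

theorem toAlt_coe (hF : Fintype.card F = 4) (ω : F) (hω : ω ^ 2 + ω + 1 = 0)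
    (w : hexGroup F ω) : ((toAlt hF ω hω w : alternatingGroup (Fin 6)) : Equiv.Perm (Fin 6)) =
      w.1.right := rfl

theorem toAlt_surjective (hF : Fintype.card F = 4) (ω : F) (hω : ω ^ 2 + ω + 1 = 0) :
    Function.Surjective (toAlt hF ω hω) := by
  rintro ⟨σ, hσ⟩
  rw [← T_eq hF ω hω] at hσ
  obtain ⟨c, hc⟩ := hσ
  exact ⟨⟨⟨c, σ⟩, hc⟩, Subtype.ext rfl⟩

theorem toAlt_ker_le_center (hF : Fintype.card F = 4) (ω : F) (hω : ω ^ 2 + ω + 1 = 0) :
    (toAlt hF ω hω).ker ≤ Subgroup.center (hexGroup F ω) := by
  intro w hw
  rw [MonoidHom.mem_ker] at hw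
  have hr : w.1.right = 1 := by
    have := congrArg (fun t : alternatingGroup (Fin 6) => (t : Equiv.Perm (Fin 6))) hw
    simpa [toAlt_coe] using this
  have hp : Pres F ω 1 w.1.left := by
    have := w.2
    rw [mem_hexGroup, hr] at this
    exact this
  have hconst := diag_const hF ω hω _ hp
  rw [Subgroup.mem_center_iff]
  intro v
  apply Subtype.ext
  apply SemidirectProduct.ext
  · show v.1.left * permAut F v.1.right w.1.left = w.1.left * permAut F w.1.right v.1.left
    rw [hr]
    funext i
    simp only [Pi.mul_apply, permAut_apply]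
    rw [hconst (v.1.right.symm i) i, mul_comm]
    rfl
  · show v.1.right * w.1.right = w.1.right * v.1.right
    rw [hr, mul_one, one_mul]

end four

end Cfsg.Agent.Helper65.HexaGroup
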