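import Mathlib
import Cfsg.Agent.Lib.Helper65.HexaGroup

/-! Two elements of the hexacode group whose commutator is a nontrivial scalar. -/

set_option autoImplicit false

namespace Cfsg.Agent.Helper65.HexaGroup

open Cfsg.Agent.S1611 Cfsg.Agent.S1610

/-- the permutation part of `a` -/
def sA : Equiv.Perm (Fin 6) := Equiv.swap 3 4 * Equiv.swap 4 5
/-- the permutation part of `b` -/
def sB : Equiv.Perm (Fin 6) := Equiv.swap 0 1 * Equiv.swap 1 2
/-- the scalars of `a` -/
def cA : Fin 6 → Fin 4 := ![2, 3, 1, 1, 1, 1]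
/-- the scalars of `b` -/
def cB : Fin 6 → Fin 4 := ![1, 1, 1, 1, 3, 2]
/-- the scalars of `z` -/
def cZ : Fin 6 → Fin 4 := fun _ => 2

theorem presA : presT sA cA = true := by decide +kernel
theorem presB : presT sB cB = true := by decide +kernel
theorem presZ : presT 1 cZ = true := by decide +kernel

theorem cA_ne : ∀ i, cA i ≠ 0 := by decide
theorem cB_ne : ∀ i, cB i ≠ 0 := by decide
theorem cZ_ne : ∀ i, cZ i ≠ 0 := by decide

theorem s_comm : sA * sB = 1 * (sB * sA) := by decide +kernel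

theorem c_comm : ∀ i : Fin 6, mul4 (cA i) (cB (sA.symm i)) =
    mul4 (cZ i) (mul4 (cB ((1 : Equiv.Perm (Fin 6)).symm i))
      (cA (sB.symm ((1 : Equiv.Perm (Fin 6)).symm i)))) := by decide +kernel

variable {F : Type*} [Field F] [Fintype F]

theorem exists_pair (hF : Fintype.card F = 4) (ω : F) (hω : ω ^ 2 + ω + 1 = 0) :
    ∃ a b z : hexGroup F ω, a * b = z * (b * a) ∧ z ∈ (toAlt hF ω hω).ker ∧ z ^ 2 ≠ 1 := by
  have hA : (⟨unitsOf ω hω cA cA_ne, sA⟩ : Mon F) ∈ hexGroup F ω := by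
    rw [mem_hexGroup, pres_iff hF ω hω _ _ cA (fun i => rfl)]
    exact presA
  have hB : (⟨unitsOf ω hω cB cB_ne, sB⟩ : Mon F) ∈ hexGroup F ω := by
    rw [mem_hexGroup, pres_iff hF ω hω _ _ cB (fun i => rfl)]
    exact presB
  have hZ : (⟨unitsOf ω hω cZ cZ_ne, 1⟩ : Mon F) ∈ hexGroup F ω := by
    rw [mem_hexGroup, pres_iff hF ω hω _ _ cZ (fun i => rfl)]
    exact presZ
  refine ⟨⟨_, hA⟩, ⟨_, hB⟩, ⟨_, hZ⟩, ?_, ?_, ?_⟩
  · apply Subtype.ext
    apply SemidirectProduct.ext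
    · show unitsOf ω hω cA cA_ne * permAut F sA (unitsOf ω hω cB cB_ne) =
        unitsOf ω hω cZ cZ_ne * permAut F 1
          (unitsOf ω hω cB cB_ne * permAut F sB (unitsOf ω hω cA cA_ne))
      funext i
      apply Units.ext
      simp only [Pi.mul_apply, permAut_apply, Units.val_mul]
      show phi ω (cA i) * phi ω (cB (sA.symm i)) =
        phi ω (cZ i) * (phi ω (cB ((1 : Equiv.Perm (Fin 6)).symm i)) *
          phi ω (cA (sB.symm ((1 : Equiv.Perm (Fin 6)).symm i))))
      rw [← phi_mul ω hω, ← phi_mul ω hω, ← phi_mul ω hω, c_comm i]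
    · exact s_comm
  · rw [MonoidHom.mem_ker]
    apply Subtype.ext
    rfl
  · intro h
    have h1 := congrArg (fun w : hexGroup F ω => ((w.1.left 0 : Fˣ) : F)) h
    have h2 : ((1 : hexGroup F ω).1.left 0 : Fˣ) = 1 := rfl
    have h3 : ((⟨(⟨unitsOf ω hω cZ cZ_ne, 1⟩ : Mon F), hZ⟩ : hexGroup F ω) ^ 2).1.left 0 =
        unitsOf ω hω cZ cZ_ne 0 * unitsOf ω hω cZ cZ_ne 0 := by
      rw [pow_two]
      rfl
    simp only [h2, h3] at h1
    have h4 : ((unitsOf ω hω cZ cZ_ne 0 : Fˣ) : F) = ω := by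
      show phi ω (cZ 0) = ω
      simp [phi, cZ]
    rw [Units.val_mul, h4, Units.val_one] at h1
    -- ω * ω = 1 and ω ^ 2 + ω + 1 = 0
    have h2F := two_eq_zero hF
    have hω2 : ω = -2 := by linear_combination hω - h1
    have : (1 : F) = 0 := by
      have h5 : ω * ω = 4 := by rw [hω2]; ring
      have : (1 : F) = 4 := by rw [← h1, h5]
      linear_combination this + 2 * h2F
    exact one_ne_zero this

end Cfsg.Agent.Helper65.HexaGroup
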