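import Mathlib
import Cfsg.Agent.Lib.Helper65.HexaPair
import Cfsg.Agent.Lib.Helper65.Pull
import Cfsg.Agent.S0254

/-! The multiplier of `SL₂(9)` is nontrivial: pull back `3.A₆ → A₆` along `SL₂(9) → A₆`. -/

set_option autoImplicit false

namespace Cfsg.Agent.Helper65.HexaGroup

open scoped commutatorElement
open Cfsg.Agent.Helper65

section abstractP

variable {G H Q : Type*} [Group G] [Group H] [Group Q]

theorem ker_inf_commutator_ne_bot (ψ : G →* Q) (φ : H →* Q) (hψ : Function.Surjective ψ)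
    (hk : ∀ k ∈ ψ.ker, k ^ 2 = 1) (a b z : H) (hab : a * b = z * (b * a)) (hz : z ∈ φ.ker)
    (hz2 : z ^ 2 ≠ 1) :
    (gpb1 ψ φ).ker ⊓ commutator (gpb ψ φ) ≠ ⊥ := by
  obtain ⟨g, hg⟩ := hψ (φ a)
  obtain ⟨h, hh⟩ := hψ (φ b)
  let A : gpb ψ φ := ⟨(g, a), hg⟩
  let B : gpb ψ φ := ⟨(h, b), hh⟩
  have hcomm : ⁅a, b⁆ = z := by
    rw [commutatorElement_def, hab]; group
  have hk1 : ⁅g, h⁆ ∈ ψ.ker := by
    rw [MonoidHom.mem_ker, map_commutatorElement, hg, hh, ← map_commutatorElement, hcomm]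
    exact hz
  intro hbot
  have ht : ⁅A, B⁆ ^ 2 ∈ (gpb1 ψ φ).ker ⊓ commutator (gpb ψ φ) := by
    refine Subgroup.mem_inf.2 ⟨?_, ?_⟩
    · rw [MonoidHom.mem_ker, map_pow, map_commutatorElement]
      show ⁅g, h⁆ ^ 2 = 1
      exact hk _ hk1
    · rw [commutator_def]
      exact pow_mem (Subgroup.commutator_mem_commutator (Subgroup.mem_top _)
        (Subgroup.mem_top _)) 2
  rw [hbot, Subgroup.mem_bot] at ht
  have := congrArg (gpb2 ψ φ) ht
  rw [map_pow, map_commutatorElement, map_one] at this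
  apply hz2
  rw [← hcomm]
  exact this

end abstractP

theorem exists_omega {K : Type*} [Field K] [Fintype K] (hK : Fintype.card K = 4) :
    ∃ ω : K, ω ^ 2 + ω + 1 = 0 := by
  classical
  have hex : ∃ x : K, x ≠ 0 ∧ x ≠ 1 := by
    by_contra h
    push Not at h
    have hsub : (Finset.univ : Finset K) ⊆ {0, 1} := by
      intro x _
      by_cases hx : x = 0
      · simp [hx]
      · simp [h x hx]
    have := Finset.card_le_card hsub
    rw [Finset.card_univ, hK] at this
    have h2 : ({0, 1} : Finset K).card ≤ 2 := Finset.card_le_two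
    omega
  obtain ⟨x, hx0, hx1⟩ := hex
  have h3 : x ^ 3 = 1 := by
    have := FiniteField.pow_card_sub_one_eq_one x hx0
    rwa [hK] at this
  refine ⟨x, ?_⟩
  have hmul : (x - 1) * (x ^ 2 + x + 1) = 0 := by
    have : (x - 1) * (x ^ 2 + x + 1) = x ^ 3 - 1 := by ring
    rw [this, h3, sub_self]
  rcases mul_eq_zero.1 hmul with h | h
  · exact absurd (sub_eq_zero.1 h) hx1
  · exact h

theorem center_sq {F : Type*} [Field F] (k : Matrix.SpecialLinearGroup (Fin 2) F)
    (hk : k ∈ Subgroup.center (Matrix.SpecialLinearGroup (Fin 2) F)) : k ^ 2 = 1 := by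
  rw [Matrix.SpecialLinearGroup.mem_center_iff] at hk
  obtain ⟨r, hr, hrk⟩ := hk
  apply Subtype.ext
  rw [Matrix.SpecialLinearGroup.coe_pow, ← hrk, Matrix.SpecialLinearGroup.coe_one]
  rw [Fintype.card_fin] at hr
  rw [← map_pow, hr, map_one]

theorem mult_ne_bot {F : Type*} [Field F] [Fintype F] (hF : Fintype.card F = 9) :
    mult (fp (Matrix.SpecialLinearGroup (Fin 2) F)) ≠ ⊥ := by
  classical
  have : Fact (Nat.Prime 2) := ⟨Nat.prime_two⟩
  let _ : Fintype (GaloisField 2 2) := Fintype.ofFinite _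
  have hK : Fintype.card (GaloisField 2 2) = 4 := by
    rw [← Nat.card_eq_fintype_card, GaloisField.card 2 2 (by norm_num)]; norm_num
  obtain ⟨ω, hω⟩ := exists_omega hK
  obtain ⟨e⟩ := Cfsg.Agent.S0254.result hF
  let ψ : Matrix.SpecialLinearGroup (Fin 2) F →* alternatingGroup (Fin 6) :=
    e.toMonoidHom.comp (QuotientGroup.mk' _)
  have hψ : Function.Surjective ψ := by
    intro y
    obtain ⟨x, hx⟩ := QuotientGroup.mk'_surjective _ (e.symm y)
    refine ⟨x, ?_⟩
    show e (QuotientGroup.mk' _ x) = y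
    rw [hx, MulEquiv.apply_symm_apply]
  have hk : ∀ k ∈ ψ.ker, k ^ 2 = 1 := by
    intro k hk
    apply center_sq
    rw [MonoidHom.mem_ker] at hk
    have h1 : e (QuotientGroup.mk' _ k) = 1 := hk
    have h2 : (QuotientGroup.mk' _ k : Matrix.ProjectiveSpecialLinearGroup (Fin 2) F) = 1 := by
      rw [← e.map_one] at h1
      exact e.injective h1
    exact (QuotientGroup.eq_one_iff k).1 h2
  intro hbot
  obtain ⟨a, b, z, hab, hz, hz2⟩ := exists_pair hK ω hω
  have h1 := ker_inf_commutator_eq_bot (fp _) (fp_surj _) hbot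
    (gpb1 ψ (toAlt hK ω hω)) (gpb1_surj ψ (toAlt hK ω hω) (toAlt_surjective hK ω hω))
    (gpb1_ker_central ψ (toAlt hK ω hω) (toAlt_ker_le_center hK ω hω))
  exact ker_inf_commutator_ne_bot ψ (toAlt hK ω hω) hψ hk a b z hab hz hz2 h1

end Cfsg.Agent.Helper65.HexaGroup
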