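import Mathlib
import Cfsg.Prelude.Def_KGroupFacts

set_option autoImplicit false

namespace Cfsg.Agent.Helper65

universe u v w

/-- a copy of `Fin n` in an arbitrary universe, without any algebraic instance -/
def FinCopy (n : ℕ) : Type v := ULift.{v} (Fin n)

instance (n : ℕ) : Finite (FinCopy.{v} n) := inferInstanceAs (Finite (ULift.{v} (Fin n)))

/-- a finite group has an isomorphic copy in any universe -/
theorem exists_group_copy (Γ : Type u) [Group Γ] [Finite Γ] :
    ∃ (Γ' : Type v) (_ : Group Γ') (_ : Finite Γ'), Nonempty (Γ' ≃* Γ) := by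
  obtain ⟨n, ⟨f⟩⟩ := Finite.exists_equiv_fin Γ
  let ε : FinCopy.{v} n ≃ Γ := (Equiv.ulift (α := Fin n)).trans f.symm
  let _ : Group (FinCopy.{v} n) := ε.group
  exact ⟨FinCopy.{v} n, inferInstance, inferInstance, ⟨ε.mulEquiv⟩⟩

/-- transport of a stem extension along isomorphisms -/
theorem stem_transport {Γ : Type*} {Γ' : Type*} {G : Type*} {G' : Type*} [Group Γ] [Group Γ']
    [Group G] [Group G'] (σ : Γ →* G) (hσ : Cfsg.IsStemExtension σ) (e : G ≃* G') (ε : Γ' ≃* Γ) :
    Cfsg.IsStemExtension (e.toMonoidHom.comp (σ.comp ε.toMonoidHom)) ∧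
      Nonempty ((e.toMonoidHom.comp (σ.comp ε.toMonoidHom)).ker ≃* σ.ker) := by
  obtain ⟨h1, h2, h3⟩ := hσ
  have hker : ∀ x : Γ', x ∈ (e.toMonoidHom.comp (σ.comp ε.toMonoidHom)).ker ↔ ε x ∈ σ.ker := by
    intro x
    rw [MonoidHom.mem_ker, MonoidHom.mem_ker]
    show e (σ (ε x)) = 1 ↔ σ (ε x) = 1
    rw [MulEquiv.map_eq_one_iff]
  refine ⟨⟨?_, ?_, ?_⟩, ?_⟩
  · exact e.surjective.comp (h1.comp ε.surjective)
  · intro x hx
    have hc := h2 ((hker x).1 hx)
    rw [Subgroup.mem_center_iff] at hc ⊢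
    intro y
    apply ε.injective
    rw [map_mul, map_mul]
    exact hc (ε y)
  · intro x hx
    have hc := h3 ((hker x).1 hx)
    have hmap : (commutator Γ').map ε.toMonoidHom = commutator Γ := by
      rw [commutator_def, Subgroup.map_commutator, commutator_def,
        Subgroup.map_top_of_surjective _ ε.surjective]
    rw [← hmap] at hc
    obtain ⟨y, hy, hyx⟩ := hc
    have : y = x := ε.injective hyx
    rw [← this]; exact hy
  · refine ⟨{ toFun := fun x => ⟨ε x.1, (hker x.1).1 x.2⟩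
              invFun := fun y => ⟨ε.symm y.1, (hker _).2 (by rw [MulEquiv.apply_symm_apply]; exact y.2)⟩
              left_inv := fun x => Subtype.ext (ε.symm_apply_apply x.1)
              right_inv := fun y => Subtype.ext (ε.apply_symm_apply y.1)
              map_mul' := fun x y => Subtype.ext (map_mul ε x.1 y.1) }⟩

/-- `HasSchurMultiplier` is invariant under isomorphism, across universes. -/
theorem hasSchurMultiplier_of_mulEquiv {G : Type u} {G' : Type v} [Group G] [Group G']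
    (e : G ≃* G') {A : Type w} [CommGroup A] (h : Cfsg.HasSchurMultiplier G A) :
    Cfsg.HasSchurMultiplier G' A := by
  obtain ⟨⟨Γ, i1, i2, σ, hσ, ⟨eA⟩⟩, h2⟩ := h
  constructor
  · obtain ⟨Γ', j1, j2, ⟨ε⟩⟩ := exists_group_copy.{u, v} Γ
    obtain ⟨hs, ⟨ek⟩⟩ := stem_transport σ hσ e ε
    exact ⟨Γ', j1, j2, _, hs, ⟨ek.trans eA⟩⟩
  · intro Δ' _ _ τ' hτ'
    obtain ⟨Δ, j1, j2, ⟨ε⟩⟩ := exists_group_copy.{v, u} Δ'
    obtain ⟨hs, ⟨ek⟩⟩ := stem_transport τ' hτ' e.symm ε
    obtain ⟨π, hπ⟩ := h2 Δ _ hs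
    exact ⟨ek.toMonoidHom.comp π, ek.surjective.comp hπ⟩

end Cfsg.Agent.Helper65
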