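import Mathlib
import Cfsg.Agent.Lib.Helper65.HopfGen

set_option autoImplicit false

namespace Cfsg.Agent.Helper65

open scoped commutatorElement
open scoped IsMulCommutative

/-- a hom from a commutative monoid sending all factors to `c` sends the product to a power -/
theorem map_prod_eq_pow {ι A M : Type*} [CommMonoid A] [Monoid M] (f : A →* M) (s : Finset ι)
    (a : ι → A) (c : M) (h : ∀ i ∈ s, f (a i) = c) : f (∏ i ∈ s, a i) = c ^ s.card := by
  classical
  induction s using Finset.induction_on with
  | empty => simp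
  | insert i s hi ih =>
    rw [Finset.prod_insert hi, map_mul, Finset.card_insert_of_notMem hi, pow_succ']
    rw [h i (Finset.mem_insert_self i s), ih (fun j hj => h j (Finset.mem_insert_of_mem hj))]

section Norm

variable {F G : Type*} [Group F] [Group G] (p : F →* G) (P : Subgroup G)

/-- the preimage of `P` -/
abbrev preE : Subgroup F := P.comap p

/-- the restricted presentation `E → P` -/
abbrev pE : preE p P →* P := p.subgroupComap P

theorem pE_apply (e : preE p P) : ((pE p P e : P) : G) = p e.1 := rfl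

theorem ker_le_preE : p.ker ≤ preE p P := fun r hr => by
  show p r ∈ P
  rw [MonoidHom.mem_ker.mp hr]; exact P.one_mem

theorem pE_comp : p.comp (preE p P).subtype = P.subtype.comp (pE p P) := rfl

/-- the class of an element of `R` in the center of `E/[R,E]` -/
def kap : p.ker →* Subgroup.center (CE (pE p P)) :=
  ((QuotientGroup.mk' (relC (pE p P))).comp (Subgroup.inclusion (ker_le_preE p P))).codRestrict
    (Subgroup.center _) (fun r => by
      apply ker_cProj_le_center
      rw [MonoidHom.mem_ker, MonoidHom.comp_apply]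
      show cProj (pE p P) (QuotientGroup.mk _) = 1
      rw [cProj_mk]
      apply Subtype.ext
      rw [pE_apply]
      exact r.2)

theorem kap_coe (r : p.ker) :
    ((kap p P r : Subgroup.center (CE (pE p P))) : CE (pE p P)) =
      QuotientGroup.mk (⟨r.1, ker_le_preE p P r.2⟩ : preE p P) := rfl

theorem kap_mem_ker (r : p.ker) : ((kap p P r : Subgroup.center (CE (pE p P))) : CE (pE p P)) ∈
    (cProj (pE p P)).ker := by
  rw [kap_coe, MonoidHom.mem_ker, cProj_mk]
  apply Subtype.ext
  rw [pE_apply]
  exact r.2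

/-- conjugation by elements of `E` does not change the class -/
theorem kap_conj (e : F) (he : e ∈ preE p P) (r : p.ker) :
    kap p P (MulAut.conjNormal e r) = kap p P r := by
  apply Subtype.ext
  rw [kap_coe, kap_coe]
  have h1 : (⟨(MulAut.conjNormal e r : p.ker).1, ker_le_preE p P (MulAut.conjNormal e r).2⟩ : preE p P)
      = ⟨e, he⟩ * ⟨r.1, ker_le_preE p P r.2⟩ * (⟨e, he⟩ : preE p P)⁻¹ := by
    apply Subtype.ext
    simp [MulAut.conjNormal_apply]
  rw [h1, QuotientGroup.mk_mul, QuotientGroup.mk_mul, QuotientGroup.mk_inv]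
  have hc := (kap p P r).2
  rw [kap_coe] at hc
  rw [Subgroup.mem_center_iff.mp hc, mul_inv_cancel_right]

variable [Fintype (F ⧸ preE p P)]

/-- the norm (transfer) map `R → Z(E/[R,E])`, `r ↦ ∏ t⁻¹ r t` -/
noncomputable def normHom : p.ker →* Subgroup.center (CE (pE p P)) :=
  ∏ q : F ⧸ preE p P,
    (kap p P).comp (MulAut.conjNormal (Quotient.out q : F)⁻¹ : p.ker ≃* p.ker).toMonoidHom

theorem normHom_apply (r : p.ker) :
    normHom p P r = ∏ q : F ⧸ preE p P, kap p P (MulAut.conjNormal (Quotient.out q : F)⁻¹ r) := by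
  unfold normHom
  rw [MonoidHom.finsetProd_apply]
  rfl

/-- the norm is invariant under conjugation by `F` -/
theorem normHom_conj (g : F) (r : p.ker) :
    normHom p P (MulAut.conjNormal g r) = normHom p P r := by
  rw [normHom_apply, normHom_apply]
  refine Fintype.prod_equiv (MulAction.toPerm g⁻¹) _ _ ?_
  intro q
  -- `(out q)⁻¹ g = e⁻¹ (out (g⁻¹ • q))⁻¹`
  set t := (Quotient.out q : F) with ht
  set t' := (Quotient.out ((MulAction.toPerm g⁻¹ : Equiv.Perm (F ⧸ preE p P)) q) : F) with ht'
  have hmem : t'⁻¹ * (g⁻¹ * t) ∈ preE p P := by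
    rw [← QuotientGroup.eq, ht', QuotientGroup.out_eq']
    show g⁻¹ • q = ((g⁻¹ * t : F) : F ⧸ preE p P)
    rw [← smul_eq_mul, ← MulAction.Quotient.smul_mk, ht, QuotientGroup.out_eq']
  have hmem' : (t'⁻¹ * (g⁻¹ * t))⁻¹ ∈ preE p P := (preE p P).inv_mem hmem
  have h1 : (MulAut.conjNormal t⁻¹ (MulAut.conjNormal g r) : p.ker) =
      MulAut.conjNormal (t'⁻¹ * (g⁻¹ * t))⁻¹ (MulAut.conjNormal t'⁻¹ r) := by
    rw [← MulAut.mul_apply, ← MulAut.mul_apply, ← map_mul, ← map_mul]
    congr 2
    group
  rw [h1, kap_conj p P _ hmem']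

/-- the norm kills `[R,F]` -/
theorem normHom_commutator (r : p.ker) (hr : (r : F) ∈ relC p) : normHom p P r = 1 := by
  have hle : relC p ≤ (normHom p P).ker.map p.ker.subtype := by
    unfold relC
    rw [Subgroup.commutator_le]
    intro a ha f _
    have h1 : ⁅a, f⁆ = a * (f * a⁻¹ * f⁻¹) := by
      rw [commutatorElement_def]; group
    refine ⟨(⟨a, ha⟩ : p.ker) * MulAut.conjNormal f (⟨a, ha⟩ : p.ker)⁻¹, ?_, ?_⟩
    · show _ ∈ (normHom p P).ker
      rw [MonoidHom.mem_ker, map_mul, normHom_conj, ← map_mul, mul_inv_cancel, map_one]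
    · rw [h1]
      simp [MulAut.conjNormal_apply, mul_assoc]
  obtain ⟨r', hr', hrr⟩ := hle hr
  have : r' = r := Subtype.ext hrr
  rw [← this]
  exact hr'

/-- the class map `R → ker(F/[R,F] → G)` -/
def classHom : p.ker →* (cProj p).ker :=
  ((QuotientGroup.mk' (relC p)).comp p.ker.subtype).codRestrict _ (fun r => by
    rw [MonoidHom.mem_ker, MonoidHom.comp_apply]
    show cProj p (QuotientGroup.mk _) = 1
    rw [cProj_mk]
    exact r.2)

theorem classHom_coe (r : p.ker) : ((classHom p r : (cProj p).ker) : CE p) = QuotientGroup.mk r.1 :=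
  rfl

theorem classHom_surj : Function.Surjective (classHom p) := by
  rintro ⟨x, hx⟩
  obtain ⟨f, rfl⟩ := QuotientGroup.mk_surjective x
  rw [MonoidHom.mem_ker, cProj_mk] at hx
  exact ⟨⟨f, hx⟩, Subtype.ext rfl⟩

theorem classHom_ker_le : (classHom p).ker ≤ (normHom p P).ker := by
  intro r hr
  rw [MonoidHom.mem_ker] at hr ⊢
  apply normHom_commutator
  have := congrArg Subtype.val hr
  rw [classHom_coe] at this
  exact (QuotientGroup.eq_one_iff _).mp this

/-- the norm map on `R/[R,F]` -/
noncomputable def normBar : (cProj p).ker →* Subgroup.center (CE (pE p P)) :=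
  (classHom p).liftOfSurjective (classHom_surj p) ⟨normHom p P, classHom_ker_le p P⟩

theorem normBar_classHom (r : p.ker) : normBar p P (classHom p r) = normHom p P r :=
  MonoidHom.liftOfRightInverse_comp_apply _ _ _ _ _

theorem normBar_mem_ker (x : (cProj p).ker) :
    ((normBar p P x : Subgroup.center (CE (pE p P))) : CE (pE p P)) ∈ (cProj (pE p P)).ker := by
  obtain ⟨r, rfl⟩ := classHom_surj p x
  rw [normBar_classHom, normHom_apply]
  have : ∏ q : F ⧸ preE p P, kap p P (MulAut.conjNormal (Quotient.out q : F)⁻¹ r) ∈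
      (cProj (pE p P)).ker.comap (Subgroup.center (CE (pE p P))).subtype := by
    apply Subgroup.prod_mem
    intro q _
    exact kap_mem_ker p P _
  exact this

/-- the inclusion-induced map `E/[R,E] → F/[R,F]` -/
def incMap : CE (pE p P) →* CE p :=
  ceMap (pE p P) p (preE p P).subtype P.subtype (pE_comp p P)

omit [Fintype (F ⧸ preE p P)] in
theorem incMap_mk (e : preE p P) : incMap p P (QuotientGroup.mk e) = QuotientGroup.mk e.1 := rfl

/-- `ι ∘ N = (·)^m` -/
theorem incMap_normBar (x : (cProj p).ker) :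
    incMap p P (normBar p P x : Subgroup.center (CE (pE p P))) =
      (x : CE p) ^ Fintype.card (F ⧸ preE p P) := by
  obtain ⟨r, rfl⟩ := classHom_surj p x
  rw [normBar_classHom, normHom_apply]
  have := map_prod_eq_pow ((incMap p P).comp (Subgroup.center (CE (pE p P))).subtype) Finset.univ
    (fun q : F ⧸ preE p P => kap p P (MulAut.conjNormal (Quotient.out q : F)⁻¹ r))
    ((classHom p r : (cProj p).ker) : CE p) (by
      intro q _
      rw [MonoidHom.comp_apply, Subgroup.subtype_apply, kap_coe, incMap_mk, classHom_coe]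
      show (QuotientGroup.mk ((MulAut.conjNormal (Quotient.out q : F)⁻¹ r : p.ker) : F) : CE p) =
        QuotientGroup.mk r.1
      rw [MulAut.conjNormal_apply, QuotientGroup.mk_mul, QuotientGroup.mk_mul]
      have hc : (QuotientGroup.mk r.1 : CE p) ∈ Subgroup.center (CE p) := by
        apply ker_cProj_le_center
        rw [MonoidHom.mem_ker, cProj_mk]; exact r.2
      rw [Subgroup.mem_center_iff.mp hc, ← QuotientGroup.mk_mul, ← QuotientGroup.mk_mul,
        mul_inv_cancel_right])
  rw [MonoidHom.comp_apply, Subgroup.subtype_apply] at this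
  rw [this, Finset.card_univ]

end Norm

end Cfsg.Agent.Helper65
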