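import Mathlib
import Cfsg.Agent.Lib.Helper65.NormMap

set_option autoImplicit false

namespace Cfsg.Agent.Helper65

open scoped commutatorElement
open scoped IsMulCommutative

universe u

/-- the abelianization of an (abstractly) free group is torsion free -/
theorem abelianization_isFreeGroup_torsionfree {E : Type*} [Group E] [IsFreeGroup E]
    (x : Abelianization E) (n : ℕ) (hn : 0 < n) (h : x ^ n = 1) : x = 1 := by
  let ε := (IsFreeGroup.toFreeGroup E).abelianizationCongr
  have h1 : (ε x) ^ n = 1 := by rw [← map_pow, h, map_one]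
  have h2 := abelianization_freeGroup_torsionfree _ n hn h1
  exact (MulEquiv.map_eq_one_iff ε).mp h2

/-- **Transfer for the Schur multiplier.** For a subgroup `P` of a finite group `G` there are
homomorphisms `tr : M(G) → M(P)` and `ι : M(P) → M(G)` with `ι ∘ tr` the `|G:P|`-th power map. -/
theorem exists_transfer_mult {G : Type u} [Group G] [Finite G] (P : Subgroup G) :
    ∃ (tr : mult (fp G) →* mult (fp P)) (ι : mult (fp P) →* mult (fp G)),
      ∀ x, ι (tr x) = x ^ P.index := by
  classical
  let pp := fp G
  have hpp : Function.Surjective pp := fp_surj G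
  let E := preE pp P
  let q := pE pp P
  have hq : Function.Surjective q := MonoidHom.subgroupComap_surjective_of_surjective pp P hpp
  -- finite index
  have hidx : E.index = P.index := Subgroup.index_comap_of_surjective P hpp
  have hfi : E.FiniteIndex := ⟨by rw [hidx]; exact Subgroup.FiniteIndex.index_ne_zero⟩
  let _ : Fintype (FreeGroup G ⧸ preE pp P) := Subgroup.fintypeQuotientOfFiniteIndex
  have hcard : Fintype.card (FreeGroup G ⧸ preE pp P) = P.index := by
    rw [← hidx, Subgroup.index_eq_card, Nat.card_eq_fintype_card]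
  -- E is free
  have htf : ∀ (x : Abelianization E) (n : ℕ), 0 < n → x ^ n = 1 → x = 1 :=
    abelianization_isFreeGroup_torsionfree
  -- the two presentations of P
  obtain ⟨ψ, hψ⟩ := exists_freeGroup_lift (fp P) q hq
  let ε := IsFreeGroup.toFreeGroup E
  obtain ⟨φ₀, hφ₀⟩ := exists_freeGroup_lift (q.comp ε.symm.toMonoidHom) (fp P) (fp_surj P)
  let φ : E →* FreeGroup P := φ₀.comp ε.toMonoidHom
  have hφ : (fp P).comp φ = q := by
    refine MonoidHom.ext fun e => ?_
    have := DFunLike.congr_fun hφ₀ (ε e)
    simp only [MonoidHom.comp_apply] at this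
    show (fp P) (φ₀ (ε e)) = q e
    rw [this]
    simp
  let eP : multG q ≃* multG (fp P) := multG_equiv q (fp P) φ ψ hφ hψ
  -- the transfer
  let tr0 : mult pp →* CE q :=
    (Subgroup.center (CE q)).subtype.comp ((normBar pp P).comp (Subgroup.inclusion (mult_le_ker pp)))
  have htr0 : ∀ x : mult pp, tr0 x ∈ multG q := by
    intro x
    refine ⟨normBar_mem_ker pp P _, ?_⟩
    have hk : 0 < Nat.card (mult pp) := Nat.card_pos
    apply mem_commutator_of_pow_memG q htf _ _ hk
    rw [← map_pow, pow_card_eq_one', map_one]
    exact Subgroup.one_mem _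
  let tr1 : mult pp →* multG q := tr0.codRestrict (multG q) htr0
  let ι1 : multG q →* multG pp := multMap q pp (preE pp P).subtype P.subtype (pE_comp pp P)
  have hcomp : ∀ x : mult pp, ι1 (tr1 x) = x ^ P.index := by
    intro x
    apply Subtype.ext
    rw [multMap_coe]
    show incMap pp P (normBar pp P ⟨x.1, mult_le_ker pp x.2⟩ : Subgroup.center (CE q)) = _
    rw [incMap_normBar, hcard]
    rfl
  refine ⟨eP.toMonoidHom.comp tr1, ι1.comp eP.symm.toMonoidHom, ?_⟩
  intro x
  show ι1 (eP.symm (eP (tr1 x))) = x ^ P.index
  rw [MulEquiv.symm_apply_apply, hcomp]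

end Cfsg.Agent.Helper65
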