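import Mathlib
import Cfsg.Agent.Lib.Helper65.TransferMult
import Cfsg.Agent.Lib.Helper65.Pull
import Cfsg.Agent.Lib.Helper65.MultTransport

set_option autoImplicit false

namespace Cfsg.Agent.Helper65

universe u v

/-- the order of the Hopf multiplier, from `HasSchurMultiplier` -/
theorem card_mult_of_hasSchurMultiplier {G : Type u} [Group G] [Finite G] {A : Type v}
    [CommGroup A] (hA : Cfsg.HasSchurMultiplier G A) : Nat.card (mult (fp G)) = Nat.card A := by
  obtain ⟨e⟩ := mult_equiv_of_hasSchurMultiplier hA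
  exact Nat.card_congr e.toEquiv

/-- if `M(P)` is trivial, `M(G)` is killed by `|G : P|` -/
theorem pow_index_eq_one_of_trivial {G : Type u} [Group G] [Finite G] (P : Subgroup G)
    (hP : Cfsg.HasCyclicSchurMultiplier P 1) (x : mult (fp G)) : x ^ P.index = 1 := by
  obtain ⟨tr, ι, h⟩ := exists_transfer_mult P
  have hbot := mult_eq_bot_of_trivial hP
  have h1 : tr x = 1 := by
    apply Subtype.ext
    have h2 : ∀ y : CE (fp P), y ∈ mult (fp P) → y = 1 := by
      intro y hy
      rw [hbot, Subgroup.mem_bot] at hy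
      exact hy
    exact h2 _ (tr x).2
  rw [← h, h1, map_one]

/-- **Sylow bound for the multiplier.** If for every prime `q ≠ p₀` dividing `|G|` some subgroup of
index prime to `q` has trivial multiplier, then `|M(G)| ≤ |M(P₀)|` for a Sylow `p₀`-subgroup. -/
theorem card_mult_le_of_sylow {G : Type u} [Group G] [Finite G] (p₀ : ℕ) [Fact p₀.Prime]
    (P₀ : Sylow p₀ G)
    (h : ∀ q : ℕ, q.Prime → q ≠ p₀ → q ∣ Nat.card G →
      ∃ Q : Subgroup G, ¬ q ∣ Q.index ∧ Cfsg.HasCyclicSchurMultiplier Q 1) :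
    Nat.card (mult (fp G)) ≤ Nat.card (mult (fp (P₀ : Subgroup G))) := by
  obtain ⟨tr, ι, hι⟩ := exists_transfer_mult (P₀ : Subgroup G)
  have hfin : Finite (mult (fp (P₀ : Subgroup G))) := mult_finite _
  apply Nat.card_le_card_of_injective tr
  rw [injective_iff_map_eq_one]
  intro x hx
  by_contra hne
  have hpow : x ^ (P₀ : Subgroup G).index = 1 := by rw [← hι, hx, map_one]
  have hord : orderOf x ≠ 1 := fun h1 => hne (orderOf_eq_one_iff.1 h1)
  obtain ⟨q, hq, hqx⟩ := Nat.exists_prime_and_dvd hord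
  have hqidx : q ∣ (P₀ : Subgroup G).index := hqx.trans (orderOf_dvd_of_pow_eq_one hpow)
  have hqp : q ≠ p₀ := by
    rintro rfl
    exact P₀.not_dvd_index hqidx
  have hqG : q ∣ Nat.card G := hqidx.trans (Subgroup.index_dvd_card _)
  obtain ⟨Q, hQ1, hQ2⟩ := h q hq hqp hqG
  exact hQ1 (hqx.trans (orderOf_dvd_of_pow_eq_one (pow_index_eq_one_of_trivial Q hQ2 x)))

end Cfsg.Agent.Helper65
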