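import Mathlib
import Cfsg.Agent.Lib.Helper65.SylowMult
import Cfsg.Agent.Lib.Helper65.Stem

set_option autoImplicit false

namespace Cfsg.Agent.Helper65

universe u

/-- cyclic groups have trivial multiplier (general form) -/
theorem trivial_mult_of_isCyclic' (Q : Type u) [Group Q] [Finite Q] [IsCyclic Q] :
    Cfsg.HasCyclicSchurMultiplier Q 1 := by
  apply trivial_multiplier_of
  intro Γ _ _ σ hσ
  obtain ⟨hsurj, hcen, hcomm⟩ := hσ
  have hab : ∀ a b : Γ, a * b = b * a := commutative_of_cyclic_center_quotient σ hcen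
  have hc : commutator Γ = ⊥ := by
    rw [commutator_def, Subgroup.commutator_eq_bot_iff_le_centralizer]
    intro x _
    rw [Subgroup.mem_centralizer_iff]
    intro y _
    exact hab y x
  rw [hc] at hcomm
  exact le_bot_iff.1 hcomm

/-- **Sylow criterion for a trivial multiplier.** If for every prime `q` dividing `|G|` some
subgroup of index prime to `q` has trivial multiplier, then `M(G) = 1`. -/
theorem trivial_mult_of_sylow {G : Type u} [Group G] [Finite G]
    (h : ∀ q : ℕ, q.Prime → q ∣ Nat.card G →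
      ∃ Q : Subgroup G, ¬ q ∣ Q.index ∧ Cfsg.HasCyclicSchurMultiplier Q 1) :
    Cfsg.HasCyclicSchurMultiplier G 1 := by
  apply trivial_multiplier_of
  intro Γ _ _ σ hσ
  obtain ⟨f, hf⟩ := exists_mult_surj (fp G) (fp_surj G) σ hσ
  have hall : ∀ x : mult (fp G), x = 1 := by
    intro x
    by_contra hne
    have hord : orderOf x ≠ 1 := fun h1 => hne (orderOf_eq_one_iff.1 h1)
    obtain ⟨q, hq, hqx⟩ := Nat.exists_prime_and_dvd hord
    have hbot : Cfsg.HasCyclicSchurMultiplier (⊥ : Subgroup G) 1 :=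
      trivial_mult_of_isCyclic' _
    have h1 := pow_index_eq_one_of_trivial (⊥ : Subgroup G) hbot x
    rw [Subgroup.index_bot] at h1
    have hqG : q ∣ Nat.card G := hqx.trans (orderOf_dvd_of_pow_eq_one h1)
    obtain ⟨Q, hQ1, hQ2⟩ := h q hq hqG
    exact hQ1 (hqx.trans (orderOf_dvd_of_pow_eq_one (pow_index_eq_one_of_trivial Q hQ2 x)))
  rw [eq_bot_iff]
  intro k hk
  obtain ⟨t, ht⟩ := hf ⟨k, hk⟩
  rw [hall t, map_one] at ht
  rw [Subgroup.mem_bot]
  exact (congrArg Subtype.val ht).symm

end Cfsg.Agent.Helper65
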