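import Mathlib
import Cfsg.Agent.Lib.Helper65.Frob56
import Cfsg.Agent.Lib.Helper65.SylowMult2
import Cfsg.Agent.Lib.Helper72.J1Elts

/-! A subgroup `2³ : 7` of odd index in `J₁` with trivial multiplier. -/

set_option autoImplicit false

namespace Cfsg.Agent.Helper65.J1Frob

open Cfsg.Spor Cfsg.Agent.Helper72.J1

/-- an element of order 7 normalizing `E` -/
def tG : GL (Fin 7) (ZMod 11) :=
  jankoX ^ 2 * jankoY ^ 3 * jankoX ^ 3 * jankoY ^ 2 * jankoX ^ 3 * jankoY * jankoX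

/-- its code -/
def tE : ℕ :=
  mulE (mulE (mulE (mulE (mulE (mulE (powE xE 2) (powE yE 3)) (powE xE 3)) (powE yE 2))
    (powE xE 3)) yE) xE

theorem rep_t : Rep tG tE :=
  ((((((rep_x.pow 2).mul (rep_y.pow 3)).mul (rep_x.pow 3)).mul (rep_y.pow 2)).mul
    (rep_x.pow 3)).mul rep_y).mul rep_x

theorem t_pow : tG ^ 7 = 1 := (rep_t.pow 7).eq (rep_one.congr (by decide +kernel))

theorem conj1 : tG * eG 1 * tG⁻¹ = eG 7 :=
  (Rep.conj rep_t (rep_e (by norm_num : 1 < 8)) (by decide +kernel)).eq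
    (rep_e (by norm_num : 7 < 8))

theorem conj7 : tG * eG 7 * tG⁻¹ = eG 2 :=
  (Rep.conj rep_t (rep_e (by norm_num : 7 < 8)) (by decide +kernel)).eq
    (rep_e (by norm_num : 2 < 8))

theorem conj3 : tG ^ 3 * eG 1 * (tG ^ 3)⁻¹ = eG 6 :=
  (Rep.conj (rep_t.pow 3) (rep_e (by norm_num : 1 < 8)) (by decide +kernel)).eq
    (rep_e (by norm_num : 6 < 8))

theorem e_mem (i : ℕ) (hi : i < 8) : eG i ∈ G := (rep_e hi).1

/-- the involution as an element of `G` -/
def eQ : G := ⟨eG 1, e_mem 1 (by norm_num)⟩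
/-- the element of order 7 as an element of `G` -/
def tQ : G := ⟨tG, rep_t.1⟩

/-- the subgroup `2³ : 7` -/
def Q56 : Subgroup G := Subgroup.closure {eQ, tQ}

theorem eQ_mem : eQ ∈ Q56 := Subgroup.subset_closure (by simp)
theorem tQ_mem : tQ ∈ Q56 := Subgroup.subset_closure (by simp)

/-- membership in `Q56` for elements of the ambient group -/
def MemQ (g : GL (Fin 7) (ZMod 11)) : Prop := ∃ h : g ∈ G, (⟨g, h⟩ : G) ∈ Q56

theorem MemQ.mul {g h : GL (Fin 7) (ZMod 11)} (hg : MemQ g) (hh : MemQ h) : MemQ (g * h) := by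
  obtain ⟨h1, h2⟩ := hg
  obtain ⟨h3, h4⟩ := hh
  exact ⟨G.mul_mem h1 h3, Q56.mul_mem h2 h4⟩

theorem MemQ.inv {g : GL (Fin 7) (ZMod 11)} (hg : MemQ g) : MemQ g⁻¹ := by
  obtain ⟨h1, h2⟩ := hg
  exact ⟨G.inv_mem h1, Q56.inv_mem h2⟩

theorem memQ_e1 : MemQ (eG 1) := ⟨_, eQ_mem⟩
theorem memQ_t : MemQ tG := ⟨_, tQ_mem⟩

theorem memQ_e7 : MemQ (eG 7) := by
  rw [← conj1]
  exact (memQ_t.mul memQ_e1).mul memQ_t.inv

theorem memQ_e2 : MemQ (eG 2) := by
  rw [← conj7]
  exact (memQ_t.mul memQ_e7).mul memQ_t.inv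

theorem memQ_e (i : ℕ) (hi : i < 8) : MemQ (eG i) := by
  have h3 : eG 1 * eG 2 = eG 3 := e_mul (by norm_num) (by norm_num)
  have h4 : eG 3 * eG 7 = eG 4 := e_mul (by norm_num) (by norm_num)
  have h5 : eG 1 * eG 4 = eG 5 := e_mul (by norm_num) (by norm_num)
  have h6 : eG 2 * eG 4 = eG 6 := e_mul (by norm_num) (by norm_num)
  have m3 : MemQ (eG 3) := h3 ▸ memQ_e1.mul memQ_e2
  have m4 : MemQ (eG 4) := h4 ▸ m3.mul memQ_e7
  have m5 : MemQ (eG 5) := h5 ▸ memQ_e1.mul m4
  have m6 : MemQ (eG 6) := h6 ▸ memQ_e2.mul m4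
  interval_cases i
  · rw [e_zero]; exact ⟨G.one_mem, Q56.one_mem⟩
  · exact memQ_e1
  · exact memQ_e2
  · exact m3
  · exact m4
  · exact m5
  · exact m6
  · exact memQ_e7

theorem E_le : E ≤ Q56 := by
  intro z hz
  obtain ⟨i, hi, hzi⟩ := mem_E.1 hz
  obtain ⟨h1, h2⟩ := memQ_e i hi
  have : z = ⟨eG i, h1⟩ := Subtype.ext hzi
  rw [this]
  exact h2

theorem not_dvd_index : ¬ 2 ∣ Q56.index := by
  have h8 : 8 ∣ Nat.card Q56 := by
    rw [← card_E]
    exact Subgroup.card_dvd_of_le E_le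
  have h1 := Subgroup.card_mul_index Q56
  rw [card_G] at h1
  obtain ⟨m, hm⟩ := h8
  rintro ⟨k, hk⟩
  have : Nat.card Q56 * Q56.index = 16 * (m * k) := by rw [hm, hk]; ring
  omega

theorem Q56_trivial : Cfsg.HasCyclicSchurMultiplier ↥Q56 1 := by
  have hfin : Finite G := Nat.finite_of_card_ne_zero (by rw [card_G]; norm_num)
  apply Frob56.trivial_mult (⟨eQ, eQ_mem⟩ : Q56) (⟨tQ, tQ_mem⟩ : Q56)
  · apply Subtype.ext
    apply Subtype.ext
    show eG 1 * eG 1 = 1
    rw [e_mul (by norm_num) (by norm_num)]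
    exact e_zero
  · apply Subtype.ext
    apply Subtype.ext
    show tG ^ 7 = 1
    exact t_pow
  · apply Subtype.ext
    apply Subtype.ext
    show eG 1 * (tG * eG 1 * tG⁻¹) = tG ^ 3 * eG 1 * (tG ^ 3)⁻¹
    rw [conj1, conj3]
    exact e_mul (by norm_num) (by norm_num)
  · apply Subtype.ext
    apply Subtype.ext
    show (tG * eG 1 * tG⁻¹) * eG 1 = tG ^ 3 * eG 1 * (tG ^ 3)⁻¹
    rw [conj1, conj3]
    exact e_mul (by norm_num) (by norm_num)
  · rw [eq_top_iff]
    rintro ⟨x, hx⟩ -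
    unfold Q56 at hx
    induction hx using Subgroup.closure_induction with
    | mem a ha =>
      apply Subgroup.subset_closure
      simp only [Set.mem_insert_iff, Set.mem_singleton_iff] at ha ⊢
      rcases ha with rfl | rfl
      · left; rfl
      · right; rfl
    | one => exact Subgroup.one_mem _
    | mul a b ha hb iha ihb => exact Subgroup.mul_mem _ iha ihb
    | inv a ha iha => exact Subgroup.inv_mem _ iha

theorem sylow_card_prime' {K : Type*} [Group K] [Finite K] (r : ℕ) [Fact r.Prime] (M : ℕ)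
    (hc : Nat.card K = r * M) (hM : ¬ r ∣ M) (P : Sylow r K) : Nat.card P = r := by
  have hr : r.Prime := Fact.out
  have hM0 : M ≠ 0 := fun h => hM (h ▸ dvd_zero r)
  rw [Sylow.card_eq_multiplicity, hc, Nat.factorization_mul hr.ne_zero hM0, Finsupp.add_apply,
    hr.factorization_self, Nat.factorization_eq_zero_of_not_dvd hM, add_zero, pow_one]

theorem trivial_of_sylow_prime' {K : Type*} [Group K] [Finite K] (r : ℕ) [Fact r.Prime] (M : ℕ)
    (hc : Nat.card K = r * M) (hM : ¬ r ∣ M) :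
    ∃ Q : Subgroup K, ¬ r ∣ Q.index ∧ Cfsg.HasCyclicSchurMultiplier Q 1 := by
  obtain ⟨P⟩ := (inferInstance : Nonempty (Sylow r K))
  refine ⟨P, P.not_dvd_index, ?_⟩
  have hcard := sylow_card_prime' r M hc hM P
  have : IsCyclic (P : Subgroup K) := isCyclic_of_prime_card hcard
  exact trivial_mult_of_isCyclic' _

theorem G_trivial : Cfsg.HasCyclicSchurMultiplier ↥G 1 := by
  have hfin : Finite G := Nat.finite_of_card_ne_zero (by rw [card_G]; norm_num)
  apply trivial_mult_of_sylow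
  intro r hr hrG
  rw [card_G] at hrG
  have hcases : r = 2 ∨ r = 3 ∨ r = 5 ∨ r = 7 ∨ r = 11 ∨ r = 19 := by
    have h : (175560 : ℕ) = 2 ^ 3 * 3 * 5 * 7 * 11 * 19 := by norm_num
    rw [h] at hrG
    rcases (Nat.Prime.dvd_mul hr).1 hrG with h1 | h1
    · rcases (Nat.Prime.dvd_mul hr).1 h1 with h2 | h2
      · rcases (Nat.Prime.dvd_mul hr).1 h2 with h3 | h3
        · rcases (Nat.Prime.dvd_mul hr).1 h3 with h4 | h4
          · rcases (Nat.Prime.dvd_mul hr).1 h4 with h5 | h5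
            · left
              exact (Nat.prime_dvd_prime_iff_eq hr Nat.prime_two).1 (hr.dvd_of_dvd_pow h5)
            · right; left
              exact (Nat.prime_dvd_prime_iff_eq hr Nat.prime_three).1 h5
          · right; right; left
            exact (Nat.prime_dvd_prime_iff_eq hr Nat.prime_five).1 h4
        · right; right; right; left
          exact (Nat.prime_dvd_prime_iff_eq hr (by norm_num)).1 h3
      · right; right; right; right; left
        exact (Nat.prime_dvd_prime_iff_eq hr (by norm_num)).1 h2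
    · right; right; right; right; right
      exact (Nat.prime_dvd_prime_iff_eq hr (by norm_num)).1 h1
  rcases hcases with rfl | rfl | rfl | rfl | rfl | rfl
  · exact ⟨Q56, not_dvd_index, Q56_trivial⟩
  · have : Fact (Nat.Prime 3) := ⟨hr⟩
    exact trivial_of_sylow_prime' 3 58520 (by rw [card_G]) (by norm_num)
  · have : Fact (Nat.Prime 5) := ⟨hr⟩
    exact trivial_of_sylow_prime' 5 35112 (by rw [card_G]) (by norm_num)
  · have : Fact (Nat.Prime 7) := ⟨hr⟩
    exact trivial_of_sylow_prime' 7 25080 (by rw [card_G]) (by norm_num)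
  · have : Fact (Nat.Prime 11) := ⟨hr⟩
    exact trivial_of_sylow_prime' 11 15960 (by rw [card_G]) (by norm_num)
  · have : Fact (Nat.Prime 19) := ⟨hr⟩
    exact trivial_of_sylow_prime' 19 9240 (by rw [card_G]) (by norm_num)

end Cfsg.Agent.Helper65.J1Frob
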