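import Mathlib
import Cfsg.Prelude.Def_OddOrderLocal
import Cfsg.Agent.Lib.Helper53.MC3Defs

set_option autoImplicit false

namespace Cfsg.Agent.Helper65.MC3

open Cfsg.Agent.Helper53.MC3
open Subgroup

universe u

/-- Iterating a "unipotent" automorphism: `a g1 = g1 g2`, `a g2 = g2 w`, `a w = w d`, `a d = d`. -/
theorem h65b2_iter {L : Type*} [Group L] (a : MulAut L) (g1 g2 w d : L)
    (h1 : a g1 = g1 * g2) (h2 : a g2 = g2 * w) (h3 : a w = w * d) (h4 : a d = d)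
    (c1 : Commute g2 w) (c2 : Commute w d) (n : ℕ) :
    (a ^ n) g1 = g1 * (g2 ^ n * w ^ n.choose 2 * d ^ n.choose 3) := by
  induction n with
  | zero => simp
  | succ n ih =>
    have e2 : (n + 1).choose 2 = n + n.choose 2 := by
      rw [Nat.choose_succ_succ, Nat.choose_one_right]
    have e3 : (n + 1).choose 3 = n.choose 2 + n.choose 3 := Nat.choose_succ_succ n 2
    rw [pow_succ', MulAut.mul_apply, ih, map_mul, map_mul, map_mul, map_pow, map_pow, map_pow,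
      h1, h2, h3, h4, c1.mul_pow, c2.mul_pow, e2, e3, pow_succ' g2, pow_add, pow_add]
    simp only [mul_assoc]

/-- Powers of an element with `w2 ^ 3 = 1`. -/
theorem h65b2_pow3 {L : Type*} [Group L] (w2 : L) (hw2p : w2 ^ 3 = 1) (k : ℕ) :
    w2 ^ k = 1 ∨ w2 ^ k = w2 ∨ w2 ^ k = w2⁻¹ := by
  rw [pow_eq_pow_mod k hw2p]
  have h3 : k % 3 < 3 := Nat.mod_lt _ (by norm_num)
  interval_cases k % 3
  · left; simp
  · right; left; simp
  · right; right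
    exact eq_inv_of_mul_eq_one_left (by rw [← pow_succ, hw2p])

section B
variable {L : Type*} [Group L] {p : ℕ} [Fact p.Prime]

theorem pow_three (hp2 : p ≠ 2) (D : OmData p L)
    (a : MulAut L) (ha : a ^ p = 1) (w2 : L) (hw2 : w2 ≠ 1) (hw2p : w2 ^ p = 1) (haw2 : a w2 = w2)
    (hdel : ∀ w : L, w ^ p = 1 → ∃ k : ℕ, w⁻¹ * a w = w2 ^ k)
    (hfix : ∀ w : L, w ^ p = 1 → a w = w → ∃ k : ℕ, w = w2 ^ k)
    (x : L) (hx : x ^ p = 1) (hax : a x ≠ x) :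
    p = 3 ∧ ∀ g : L, g ^ p ^ 2 = 1 → a g = g → g ^ p = 1 := by
  have hpP : p.Prime := Fact.out
  have h12 : ∀ w : L, w ^ p = 1 → w ^ p ^ 2 = 1 := by
    intro w hw; rw [pow_two, pow_mul, hw, one_pow]
  have hinv1 : ∀ w : L, w ^ p = 1 → w⁻¹ ^ p = 1 := by
    intro w hw; rw [inv_pow, hw, inv_one]
  have hinv2 : ∀ w : L, w ^ p ^ 2 = 1 → w⁻¹ ^ p ^ 2 = 1 := by
    intro w hw; rw [inv_pow, hw, inv_one]
  have ha2 : ∀ w : L, w ^ p ^ 2 = 1 → (a w) ^ p ^ 2 = 1 := by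
    intro w hw; rw [← map_pow, hw, map_one]
  have hw2k : ∀ k : ℕ, (w2 ^ k) ^ p = 1 := by
    intro k; rw [← pow_mul, mul_comm, pow_mul, hw2p, one_pow]
  have haw2k : ∀ k : ℕ, a (w2 ^ k) = w2 ^ k := by
    intro k; rw [map_pow, haw2]
  obtain ⟨g1, hg1⟩ := D.surj x hx
  have hg1' : g1 ^ p ^ 2 = 1 := by rw [pow_two, pow_mul, hg1, hx]
  obtain ⟨g2, hg2⟩ : ∃ g2 : L, a g1 = g1 * g2 := ⟨g1⁻¹ * a g1, by rw [mul_inv_cancel_left]⟩
  have hg2eq : g2 = g1⁻¹ * a g1 := by rw [hg2, inv_mul_cancel_left]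
  have hg2' : g2 ^ p ^ 2 = 1 := by
    rw [hg2eq]; exact D.mul2 _ _ (hinv2 _ hg1') (ha2 _ hg1')
  obtain ⟨kv, hkv⟩ := hdel x hx
  have hv : g2 ^ p = w2 ^ kv := by
    rw [hg2eq, D.pow_mul _ _ (hinv2 _ hg1') (ha2 _ hg1'), inv_pow, ← map_pow, hg1, hkv]
  have hv1 : g2 ^ p ≠ 1 := by
    rw [hv, ← hkv]; intro h; exact hax (inv_mul_eq_one.1 h).symm
  obtain ⟨w, hw⟩ : ∃ w : L, a g2 = g2 * w := ⟨g2⁻¹ * a g2, by rw [mul_inv_cancel_left]⟩
  have hweq : w = g2⁻¹ * a g2 := by rw [hw, inv_mul_cancel_left]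
  have hwp : w ^ p = 1 := by
    rw [hweq, D.pow_mul _ _ (hinv2 _ hg2') (ha2 _ hg2'), inv_pow, ← map_pow, hv, haw2k,
      inv_mul_cancel]
  obtain ⟨kd, hkd⟩ := hdel w hwp
  have h3 : a w = w * w2 ^ kd := by rw [← hkd, mul_inv_cancel_left]
  have c1 : Commute g2 w := (D.central w g2 hwp hg2').symm
  have c2 : Commute w (w2 ^ kd) := (D.central (w2 ^ kd) w (hw2k kd) (h12 w hwp)).symm
  have hiter := h65b2_iter a g1 g2 w (w2 ^ kd) hg2 hw h3 (haw2k kd) c1 c2 p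
  rw [ha, MulAut.one_apply] at hiter
  have h5 : g2 ^ p * w ^ p.choose 2 * (w2 ^ kd) ^ p.choose 3 = 1 :=
    mul_left_cancel (hiter.symm.trans (mul_one g1).symm)
  have h3le : 3 ≤ p := by have := hpP.two_le; omega
  have hc2 : w ^ p.choose 2 = 1 := by
    obtain ⟨m, hm⟩ := hpP.dvd_choose_self (by norm_num : (2 : ℕ) ≠ 0) (by omega : 2 < p)
    rw [hm, pow_mul, hwp, one_pow]
  rw [hc2, mul_one] at h5
  have hp3 : p = 3 := by
    by_contra hne
    have h4 : 3 < p := by omega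
    obtain ⟨m, hm⟩ := hpP.dvd_choose_self (by norm_num : (3 : ℕ) ≠ 0) h4
    rw [hm, pow_mul, hw2k, one_pow, mul_one] at h5
    exact hv1 h5
  refine ⟨hp3, ?_⟩
  subst hp3
  have hvd : g2 ^ 3 * w2 ^ kd = 1 := by simpa [Nat.choose] using h5
  -- the key claim
  have claim : ∀ g : L, g ^ 3 ^ 2 = 1 → a g = g → g ^ 3 = g2 ^ 3 → False := by
    intro g hg9 hag hg3
    have hω9 : (g2⁻¹ * g) ^ 3 ^ 2 = 1 := D.mul2 _ _ (hinv2 _ hg2') hg9
    have hω3 : (g2⁻¹ * g) ^ 3 = 1 := by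
      rw [D.pow_mul _ _ (hinv2 _ hg2') hg9, inv_pow, hg3, inv_mul_cancel]
    obtain ⟨ke, hke⟩ := hdel _ hω3
    have haω : a (g2⁻¹ * g) = (g2⁻¹ * g) * w2 ^ ke := by rw [← hke, mul_inv_cancel_left]
    have haω' : a (g2⁻¹ * g) = w⁻¹ * (g2⁻¹ * g) := by
      rw [map_mul, map_inv, hw, hag, mul_inv_rev, mul_assoc]
    have hwe : w⁻¹ = w2 ^ ke := by
      have h := haω'.symm.trans haω
      rw [D.central w⁻¹ _ (hinv1 w hwp) hω9] at h
      exact mul_left_cancel h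
    have haw : a w = w := by
      have h : a w⁻¹ = w⁻¹ := by rw [hwe, haw2k]
      rwa [map_inv, inv_inj] at h
    have hd1 : w2 ^ kd = 1 := by
      have h := h3
      rw [haw] at h
      exact (mul_eq_left.1 h.symm)
    rw [hd1, mul_one] at hvd
    exact hv1 hvd
  intro g hg9 hag
  by_contra hg3ne
  have hu3 : (g ^ 3) ^ 3 = 1 := by
    rw [← pow_mul]; exact hg9
  have hau : a (g ^ 3) = g ^ 3 := by rw [map_pow, hag]
  obtain ⟨k, hk⟩ := hfix (g ^ 3) hu3 hau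
  have hinvw : w2⁻¹ ≠ 1 := by simpa using hw2
  rcases h65b2_pow3 w2 hw2p k with h | h | h <;> rcases h65b2_pow3 w2 hw2p kv with h' | h' | h'
  · exact hg3ne (hk.trans h)
  · exact hg3ne (hk.trans h)
  · exact hg3ne (hk.trans h)
  · exact hv1 (hv.trans h')
  · exact claim g hg9 hag (by rw [hk, h, hv, h'])
  · refine claim g⁻¹ (hinv2 g hg9) (by rw [map_inv, hag]) ?_
    rw [inv_pow, hk, h, hv, h']
  · exact hv1 (hv.trans h')
  · refine claim g⁻¹ (hinv2 g hg9) (by rw [map_inv, hag]) ?_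
    rw [inv_pow, hk, h, hv, h', inv_inv]
  · exact claim g hg9 hag (by rw [hk, h, hv, h'])

end B

end Cfsg.Agent.Helper65.MC3
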