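import Mathlib
import Cfsg.Prelude.Def_OddOrderLocal
import Cfsg.Agent.Lib.Helper53.MC3Defs

set_option autoImplicit false

namespace Cfsg.Agent.Helper65.MC3

open Cfsg.Agent.Helper53.MC3
open Subgroup

universe u

theorem h65sd_mem {L : Type*} [Group L] (a : MulAut L)
    (g : SemidirectProduct L ↥(Subgroup.zpowers a) (Subgroup.zpowers a).subtype) :
    g ∈ Subgroup.centralizer
      ({(SemidirectProduct.inr ⟨a, Subgroup.mem_zpowers a⟩ :
          SemidirectProduct L ↥(Subgroup.zpowers a) (Subgroup.zpowers a).subtype)} :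
        Set (SemidirectProduct L ↥(Subgroup.zpowers a) (Subgroup.zpowers a).subtype)) ↔
      a g.left = g.left := by
  rw [Subgroup.mem_centralizer_iff]
  simp only [Set.mem_singleton_iff, forall_eq]
  rw [SemidirectProduct.ext_iff]
  have hc : (⟨a, Subgroup.mem_zpowers a⟩ : ↥(Subgroup.zpowers a)) * g.right =
      g.right * ⟨a, Subgroup.mem_zpowers a⟩ := by
    obtain ⟨z, hz⟩ := g.right
    obtain ⟨n, rfl⟩ := Subgroup.mem_zpowers_iff.1 hz
    apply Subtype.ext
    show a * a ^ n = a ^ n * a
    exact (Commute.self_zpow a n).eq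
  simp [hc]

/-- (SD) the centralizer of `a` in `L ⋊ ⟨a⟩` is `C_L(a) × ⟨a⟩`. -/
theorem card_centralizer_inr {L : Type*} [Group L] [Finite L] (a : MulAut L) :
    Nat.card (Subgroup.centralizer
      ({(SemidirectProduct.inr ⟨a, Subgroup.mem_zpowers a⟩ :
          SemidirectProduct L ↥(Subgroup.zpowers a) (Subgroup.zpowers a).subtype)} :
        Set (SemidirectProduct L ↥(Subgroup.zpowers a) (Subgroup.zpowers a).subtype))) =
      Nat.card {g : L // a g = g} * Nat.card ↥(Subgroup.zpowers a) := by
  rw [← Nat.card_prod]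
  apply Nat.card_congr
  exact
    { toFun := fun g => (⟨g.1.left, (h65sd_mem a g.1).1 g.2⟩, g.1.right)
      invFun := fun x => ⟨⟨x.1.1, x.2⟩, (h65sd_mem a _).2 x.1.2⟩
      left_inv := fun g => by
        apply Subtype.ext
        rfl
      right_inv := fun x => by
        rfl }

end Cfsg.Agent.Helper65.MC3
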