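import Mathlib

set_option autoImplicit false

namespace Cfsg.Agent.Helper65

namespace MetaFin

variable {G : Type*} [Group G] (a b : G) (m n r t : ℕ)

/-- a group generated by `a, b` with the metacyclic relations is finite -/
theorem finite_of_metacyclic (hm : 0 < m) (hn : 0 < n) (hrn : r ^ n ≡ 1 [MOD m])
    (h1 : a ^ m = 1) (h2 : b ^ n = a ^ t) (h3 : b * a * b⁻¹ = a ^ r)
    (hgen : Subgroup.closure ({a, b} : Set G) = ⊤) : Finite G := by
  have hfo : IsOfFinOrder a := isOfFinOrder_iff_pow_eq_one.2 ⟨m, hm, h1⟩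
  set H : Subgroup G := Subgroup.zpowers a with hH
  have hHfin : Finite H := by
    have : (Subgroup.zpowers a : Set G).Finite := hfo.finite_zpowers
    exact this.to_subtype
  -- b⁻¹ a b is a power of a
  have hn1 : n = (n - 1) + 1 := by omega
  have hinv : b⁻¹ * a * b = a ^ (r ^ (n - 1)) := by
    have h4 : b * a ^ (r ^ (n - 1)) * b⁻¹ = a := by
      rw [← conj_pow, h3, ← pow_mul, ← pow_succ', ← hn1]
      have : r ^ n ≡ 1 [MOD orderOf a] := hrn.of_dvd (orderOf_dvd_of_pow_eq_one h1)
      have h5 := (pow_eq_pow_iff_modEq (x := a)).2 this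
      rw [h5, pow_one]
    calc b⁻¹ * a * b = b⁻¹ * (b * a ^ (r ^ (n - 1)) * b⁻¹) * b := by rw [h4]
      _ = a ^ (r ^ (n - 1)) := by group
  have hnormal : H.Normal := by
    constructor
    intro h hh g
    have hg : g ∈ Subgroup.closure ({a, b} : Set G) := by rw [hgen]; trivial
    revert h
    induction hg using Subgroup.closure_induction'' with
    | one => intro h hh; simpa using hh
    | mem x hx =>
      intro h hh
      obtain ⟨k, rfl⟩ := Subgroup.mem_zpowers_iff.1 hh
      rcases hx with rfl | hx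
      · rw [← conj_zpow]
        have : x * x * x⁻¹ = x := by group
        rw [this]; exact Subgroup.zpow_mem_zpowers _ _
      · rw [Set.mem_singleton_iff] at hx
        subst hx
        rw [← conj_zpow, h3]
        exact Subgroup.zpow_mem _ (Subgroup.pow_mem _ (Subgroup.mem_zpowers a) _) _
    | inv_mem x hx =>
      intro h hh
      obtain ⟨k, rfl⟩ := Subgroup.mem_zpowers_iff.1 hh
      rcases hx with rfl | hx
      · rw [← conj_zpow]
        have : x⁻¹ * x * x⁻¹⁻¹ = x := by group
        rw [this]; exact Subgroup.zpow_mem_zpowers _ _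
      · rw [Set.mem_singleton_iff] at hx
        subst hx
        rw [← conj_zpow]
        have : x⁻¹ * a * x⁻¹⁻¹ = x⁻¹ * a * x := by group
        rw [this, hinv]
        exact Subgroup.zpow_mem _ (Subgroup.pow_mem _ (Subgroup.mem_zpowers a) _) _
    | mul x y _ _ ihx ihy =>
      intro h hh
      have : x * y * h * (x * y)⁻¹ = x * (y * h * y⁻¹) * x⁻¹ := by group
      rw [this]
      exact ihx _ (ihy _ hh)
  -- the quotient is cyclic generated by the image of b
  have hq : ∀ q : G ⧸ H, q ∈ Subgroup.zpowers (QuotientGroup.mk b : G ⧸ H) := by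
    intro q
    obtain ⟨g, rfl⟩ := QuotientGroup.mk_surjective q
    have hg : g ∈ Subgroup.closure ({a, b} : Set G) := by rw [hgen]; trivial
    have : (QuotientGroup.mk' H) g ∈ (Subgroup.closure ({a, b} : Set G)).map (QuotientGroup.mk' H) :=
      Subgroup.mem_map_of_mem _ hg
    rw [MonoidHom.map_closure] at this
    refine (Subgroup.closure_le _).2 ?_ this
    rintro _ ⟨x, hx, rfl⟩
    rcases hx with rfl | hx
    · have : (QuotientGroup.mk' H) x = 1 := by
        rw [QuotientGroup.mk'_apply, QuotientGroup.eq_one_iff]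
        exact Subgroup.mem_zpowers x
      rw [this]; exact Subgroup.one_mem _
    · rw [Set.mem_singleton_iff] at hx
      subst hx
      exact Subgroup.mem_zpowers _
  have hfo2 : IsOfFinOrder (QuotientGroup.mk b : G ⧸ H) := by
    refine isOfFinOrder_iff_pow_eq_one.2 ⟨n, hn, ?_⟩
    rw [← QuotientGroup.mk_pow, h2, QuotientGroup.eq_one_iff]
    exact Subgroup.pow_mem _ (Subgroup.mem_zpowers a) _
  have hQfin : Finite (G ⧸ H) := by
    have hf : (Subgroup.zpowers (QuotientGroup.mk b : G ⧸ H) : Set (G ⧸ H)).Finite :=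
      hfo2.finite_zpowers
    have : (Set.univ : Set (G ⧸ H)) ⊆ (Subgroup.zpowers (QuotientGroup.mk b : G ⧸ H) : Set (G ⧸ H)) :=
      fun q _ => hq q
    exact Set.finite_univ_iff.1 (hf.subset this)
  exact Finite.of_subgroup_quotient H

end MetaFin

end Cfsg.Agent.Helper65
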