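import Mathlib
import Cfsg.Agent.Lib.Helper65.MetaFin

set_option autoImplicit false

namespace Cfsg.Agent.Helper65

namespace MetaFin

variable {G : Type*} [Group G] (a b : G) (m n r t : ℕ)

/-- a metacyclic group with the given relations has order at most `m n` -/
theorem card_le_of_metacyclic (hm : 0 < m) (hn : 0 < n) (hrn : r ^ n ≡ 1 [MOD m])
    (h1 : a ^ m = 1) (h2 : b ^ n = a ^ t) (h3 : b * a * b⁻¹ = a ^ r)
    (hgen : Subgroup.closure ({a, b} : Set G) = ⊤) : Nat.card G ≤ m * n := by
  have hfinG : Finite G := finite_of_metacyclic a b m n r t hm hn hrn h1 h2 h3 hgen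
  set H : Subgroup G := Subgroup.zpowers a with hH
  -- b⁻¹ a b is a power of a
  have hn1 : n = (n - 1) + 1 := by omega
  have hinv : b⁻¹ * a * b = a ^ (r ^ (n - 1)) := by
    have h4 : b * a ^ (r ^ (n - 1)) * b⁻¹ = a := by
      rw [← conj_pow, h3, ← pow_mul, ← pow_succ', ← hn1]
      have : r ^ n ≡ 1 [MOD orderOf a] := hrn.of_dvd (orderOf_dvd_of_pow_eq_one h1)
      have h5 := (pow_eq_pow_iff_modEq (x := a)).2 this
      rw [h5, pow_one]
    calc b⁻¹ * a * b = b⁻¹ * (b * a ^ (r ^ (n - 1)) * b⁻¹) * b := by rw [h4]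
      _ = a ^ (r ^ (n - 1)) := by group
  have hnormal : H.Normal := by
    constructor
    intro h hh g
    have hg : g ∈ Subgroup.closure ({a, b} : Set G) := by rw [hgen]; trivial
    revert h
    induction hg using Subgroup.closure_induction'' with
    | one => intro h hh; simpa using hh
    | mem x hx =>
      intro h hh
      obtain ⟨k, rfl⟩ := Subgroup.mem_zpowers_iff.1 hh
      rcases hx with rfl | hx
      · rw [← conj_zpow]
        have : x * x * x⁻¹ = x := by group
        rw [this]; exact Subgroup.zpow_mem_zpowers _ _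
      · rw [Set.mem_singleton_iff] at hx
        subst hx
        rw [← conj_zpow, h3]
        exact Subgroup.zpow_mem _ (Subgroup.pow_mem _ (Subgroup.mem_zpowers a) _) _
    | inv_mem x hx =>
      intro h hh
      obtain ⟨k, rfl⟩ := Subgroup.mem_zpowers_iff.1 hh
      rcases hx with rfl | hx
      · rw [← conj_zpow]
        have : x⁻¹ * x * x⁻¹⁻¹ = x := by group
        rw [this]; exact Subgroup.zpow_mem_zpowers _ _
      · rw [Set.mem_singleton_iff] at hx
        subst hx
        rw [← conj_zpow]
        have : x⁻¹ * a * x⁻¹⁻¹ = x⁻¹ * a * x := by group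
        rw [this, hinv]
        exact Subgroup.zpow_mem _ (Subgroup.pow_mem _ (Subgroup.mem_zpowers a) _) _
    | mul x y _ _ ihx ihy =>
      intro h hh
      have : x * y * h * (x * y)⁻¹ = x * (y * h * y⁻¹) * x⁻¹ := by group
      rw [this]
      exact ihx _ (ihy _ hh)
  -- the quotient is cyclic generated by the image of b
  have hq : ∀ q : G ⧸ H, q ∈ Subgroup.zpowers (QuotientGroup.mk b : G ⧸ H) := by
    intro q
    obtain ⟨g, rfl⟩ := QuotientGroup.mk_surjective q
    have hg : g ∈ Subgroup.closure ({a, b} : Set G) := by rw [hgen]; trivial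
    have : (QuotientGroup.mk' H) g ∈ (Subgroup.closure ({a, b} : Set G)).map (QuotientGroup.mk' H) :=
      Subgroup.mem_map_of_mem _ hg
    rw [MonoidHom.map_closure] at this
    refine (Subgroup.closure_le _).2 ?_ this
    rintro _ ⟨x, hx, rfl⟩
    rcases hx with rfl | hx
    · have : (QuotientGroup.mk' H) x = 1 := by
        rw [QuotientGroup.mk'_apply, QuotientGroup.eq_one_iff]
        exact Subgroup.mem_zpowers x
      rw [this]; exact Subgroup.one_mem _
    · rw [Set.mem_singleton_iff] at hx
      subst hx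
      exact Subgroup.mem_zpowers _
  have hbn : (QuotientGroup.mk b : G ⧸ H) ^ n = 1 := by
    rw [← QuotientGroup.mk_pow, h2, QuotientGroup.eq_one_iff]
    exact Subgroup.pow_mem _ (Subgroup.mem_zpowers a) _
  have hcardH : Nat.card H ≤ m := by
    rw [hH, Nat.card_zpowers]
    exact Nat.le_of_dvd hm (orderOf_dvd_of_pow_eq_one h1)
  have hcardQ : Nat.card (G ⧸ H) ≤ n := by
    have htop : Subgroup.zpowers (QuotientGroup.mk b : G ⧸ H) = ⊤ := by
      rw [eq_top_iff]; intro q _; exact hq q
    have : Nat.card (G ⧸ H) = orderOf (QuotientGroup.mk b : G ⧸ H) := by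
      rw [← Nat.card_zpowers, htop, Subgroup.card_top]
    rw [this]
    exact Nat.le_of_dvd hn (orderOf_dvd_of_pow_eq_one hbn)
  rw [Subgroup.card_eq_card_quotient_mul_card_subgroup H, mul_comm]
  exact Nat.mul_le_mul hcardH hcardQ

end MetaFin

end Cfsg.Agent.Helper65
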