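import Mathlib
import Cfsg.Agent.Lib.Helper65.HopfGen

set_option autoImplicit false

namespace Cfsg.Agent.Helper65

section CeHom

variable {α : Type*} {G : Type*} [Group G]

/-- A map from the generators to a group in which the relators become central (for the image)
induces a homomorphism from `F/[R,F]`. -/
theorem exists_ce_hom (p : FreeGroup α →* G) (rels : Set (FreeGroup α))
    (hker : p.ker = Subgroup.normalClosure rels) {P : Type*} [Group P] (f : α → P)
    (hc : ∀ r ∈ rels, ∀ a : α, Commute (FreeGroup.lift f r) (f a)) :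
    ∃ Φ : CE p →* P, ∀ x : FreeGroup α, Φ (QuotientGroup.mk x) = FreeGroup.lift f x := by
  set φ : FreeGroup α →* P := FreeGroup.lift f with hφ
  have hrange : (φ.range : Set P) = ((Subgroup.closure (Set.range f) : Subgroup P) : Set P) := by
    rw [hφ, FreeGroup.range_lift_eq_closure]
  let N : Subgroup (FreeGroup α) := (Subgroup.centralizer (φ.range : Set P)).comap φ
  have hN : N.Normal := by
    constructor
    intro k hk y
    rw [Subgroup.mem_comap] at hk ⊢
    rw [Subgroup.mem_centralizer_iff] at hk ⊢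
    have h1 : φ (y * k * y⁻¹) = φ k := by
      rw [map_mul, map_mul, map_inv]
      have := hk (φ y) ⟨y, rfl⟩
      rw [this]; group
    rw [h1]; exact hk
  have hrels : rels ⊆ N := by
    intro r hr
    show φ r ∈ Subgroup.centralizer (φ.range : Set P)
    rw [hrange, Subgroup.centralizer_closure, Subgroup.mem_centralizer_iff]
    rintro h ⟨a, rfl⟩
    exact (hc r hr a).eq.symm
  have hle : p.ker ≤ N := by
    rw [hker]; exact Subgroup.normalClosure_le_normal hrels
  have hrel : relC p ≤ φ.ker := by
    unfold relC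
    rw [Subgroup.commutator_le]
    intro k hk y _
    rw [MonoidHom.mem_ker, map_commutatorElement, commutatorElement_eq_one_iff_mul_comm]
    have := hle hk
    have h2 : φ k ∈ Subgroup.centralizer (φ.range : Set P) := this
    rw [Subgroup.mem_centralizer_iff] at h2
    exact (h2 (φ y) ⟨y, rfl⟩).symm
  exact ⟨QuotientGroup.lift (relC p) φ hrel, fun x => rfl⟩

end CeHom

namespace MetaModel

variable {R : Type*} [CommRing R]

/-- translation -/
def tr (c : R) : Equiv.Perm R := Equiv.addRight c

/-- scaling by a unit -/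
def sc (ρ : Rˣ) : Equiv.Perm R := Units.mulLeft ρ

@[simp] theorem tr_apply (c x : R) : tr c x = x + c := rfl
@[simp] theorem sc_apply (ρ : Rˣ) (x : R) : sc ρ x = ρ * x := rfl

theorem tr_mul (c c' : R) : tr c * tr c' = tr (c + c') := by
  ext x; simp [Equiv.Perm.mul_apply, add_assoc, add_comm c c']

theorem tr_zero : tr (0 : R) = 1 := by
  ext x; simp

theorem tr_pow (c : R) (k : ℕ) : tr c ^ k = tr (k * c) := by
  induction k with
  | zero => simp [tr_zero]
  | succ k ih => rw [pow_succ, ih, tr_mul]; congr 1; push_cast; ring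

theorem tr_inv (c : R) : (tr c)⁻¹ = tr (-c) := by
  rw [inv_eq_iff_mul_eq_one, tr_mul, add_neg_cancel, tr_zero]

theorem sc_one : sc (1 : Rˣ) = 1 := by
  ext x; simp

theorem sc_mul (ρ σ : Rˣ) : sc ρ * sc σ = sc (ρ * σ) := by
  ext x; simp [Equiv.Perm.mul_apply, mul_assoc]

theorem sc_pow (ρ : Rˣ) (k : ℕ) : sc ρ ^ k = sc (ρ ^ k) := by
  induction k with
  | zero => simp [sc_one]
  | succ k ih => rw [pow_succ, ih, sc_mul, pow_succ]

theorem sc_tr (ρ : Rˣ) (c : R) : sc ρ * tr c = tr (ρ * c) * sc ρ := by
  ext x; simp [Equiv.Perm.mul_apply, mul_add]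

theorem sc_conj (ρ : Rˣ) (c : R) : sc ρ * tr c * (sc ρ)⁻¹ = tr (ρ * c) := by
  rw [sc_tr]; group

theorem commute_tr_tr (c c' : R) : Commute (tr c) (tr c') := by
  show tr c * tr c' = tr c' * tr c
  rw [tr_mul, tr_mul, add_comm]

theorem commute_tr_sc (ρ : Rˣ) (c : R) (h : (ρ : R) * c = c) : Commute (tr c) (sc ρ) := by
  show tr c * sc ρ = sc ρ * tr c
  rw [sc_tr, h]

theorem tr_injective : Function.Injective (tr : R → Equiv.Perm R) := by
  intro c c' h
  have := congrArg (fun σ : Equiv.Perm R => σ 0) h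
  simpa using this

theorem orderOf_tr (c : R) : orderOf (tr c) = addOrderOf c := by
  have h : ∀ k : ℕ, tr c ^ k = 1 ↔ k • c = 0 := by
    intro k
    rw [tr_pow, ← tr_zero]
    constructor
    · intro h; have := tr_injective h; rw [nsmul_eq_mul]; exact this
    · intro h; rw [nsmul_eq_mul] at h; rw [h]
  apply Nat.dvd_antisymm
  · rw [orderOf_dvd_iff_pow_eq_one, h]; exact addOrderOf_nsmul_eq_zero c
  · rw [addOrderOf_dvd_iff_nsmul_eq_zero, ← h]; exact pow_orderOf_eq_one _

end MetaModel

end Cfsg.Agent.Helper65
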