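import Mathlib

set_option autoImplicit false

namespace Cfsg.Agent.Helper65

namespace MetaNum

/-- a progression with coprime first term and step meets the units modulo `g` -/
theorem exists_coprime_add_mul (a b g : ℕ) (hab : Nat.Coprime a b) (hg : 0 < g) :
    ∃ x : ℕ, Nat.Coprime (a + b * x) g := by
  classical
  refine ⟨∏ p ∈ g.primeFactors.filter (fun p => ¬ p ∣ a), p, ?_⟩
  set x := ∏ p ∈ g.primeFactors.filter (fun p => ¬ p ∣ a), p with hx
  apply Nat.coprime_of_dvd
  intro k hk hk1 hk2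
  have hkx : k ∣ x ↔ ¬ k ∣ a := by
    constructor
    · intro h
      rw [hx, Prime.dvd_finsetProd_iff hk.prime] at h
      obtain ⟨q, hq, hkq⟩ := h
      rw [Finset.mem_filter, Nat.mem_primeFactors] at hq
      have : k = q := (Nat.prime_dvd_prime_iff_eq hk hq.1.1).1 hkq
      rw [this]; exact hq.2
    · intro h
      rw [hx]
      apply Finset.dvd_prod_of_mem (fun p => p)
      rw [Finset.mem_filter, Nat.mem_primeFactors]
      exact ⟨⟨hk, hk2, hg.ne'⟩, h⟩
  by_cases hka : k ∣ a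
  · -- k ∤ b, k ∤ x
    have hkb : ¬ k ∣ b := fun h => by
      have := Nat.dvd_gcd hka h
      rw [hab] at this
      exact hk.one_lt.ne' (Nat.dvd_one.1 this)
    have hkx' : ¬ k ∣ x := fun h => (hkx.1 h) hka
    have : k ∣ b * x := (Nat.dvd_add_right hka).1 hk1
    rcases (Nat.Prime.dvd_mul hk).1 this with h | h
    · exact hkb h
    · exact hkx' h
  · have hkx' : k ∣ x := hkx.2 hka
    have : k ∣ a := (Nat.dvd_add_left (Dvd.dvd.mul_left hkx' b)).1 hk1
    exact hka this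

theorem geo (r n : ℕ) (hr : 0 < r) : (∑ j ∈ Finset.range n, r ^ j) * (r - 1) + 1 = r ^ n := by
  obtain ⟨s, rfl⟩ : ∃ s, r = s + 1 := ⟨r - 1, by omega⟩
  simp only [Nat.add_sub_cancel]
  induction n with
  | zero => simp
  | succ n ih =>
    rw [Finset.sum_range_succ, add_mul, pow_succ]
    have : (s + 1) ^ n * (s + 1) = (s + 1) ^ n * s + (s + 1) ^ n := by ring
    rw [this, ← ih]; ring

/-- decomposition of the parameters -/
theorem params (m n r : ℕ) (hm : 0 < m) (hr : 0 < r) (hrn : r ^ n ≡ 1 [MOD m]) :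
    ∃ d m' ρ' e u : ℕ, 0 < d ∧ m = d * m' ∧ r = 1 + d * ρ' ∧ Nat.Coprime ρ' m' ∧
      (∑ j ∈ Finset.range n, r ^ j) = m' * e ∧ r ^ n = 1 + m * u ∧ u = ρ' * e ∧
      d = Nat.gcd m (r - 1) ∧
      Nat.gcd m (r - 1) * Nat.gcd m (∑ j ∈ Finset.range n, r ^ j) / m = Nat.gcd d e := by
  set d := Nat.gcd m (r - 1) with hd
  have hdpos : 0 < d := Nat.gcd_pos_of_pos_left _ hm
  obtain ⟨m', hm'⟩ : d ∣ m := Nat.gcd_dvd_left _ _
  obtain ⟨ρ', hρ'⟩ : d ∣ r - 1 := Nat.gcd_dvd_right _ _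
  have hm'pos : 0 < m' := by
    rcases Nat.eq_zero_or_pos m' with h | h
    · rw [h, mul_zero] at hm'; omega
    · exact h
  have hcop : Nat.Coprime ρ' m' := by
    have h := Nat.coprime_div_gcd_div_gcd (m := m) (n := r - 1) hdpos
    rw [← hd] at h
    have e1 : m / d = m' := by rw [hm']; exact Nat.mul_div_cancel_left _ hdpos
    have e2 : (r - 1) / d = ρ' := by rw [hρ']; exact Nat.mul_div_cancel_left _ hdpos
    rw [e1, e2] at h
    exact h.symm
  have hr' : r = 1 + d * ρ' := by omega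
  -- geometric sum
  set S := ∑ j ∈ Finset.range n, r ^ j with hS
  have hgeo : S * (r - 1) + 1 = r ^ n := geo r n hr
  have hpos : 1 ≤ r ^ n := Nat.one_le_pow _ _ hr
  have hdvd : m ∣ r ^ n - 1 := (Nat.modEq_iff_dvd' hpos).1 hrn.symm
  obtain ⟨u, hu⟩ := hdvd
  have hu' : r ^ n = 1 + m * u := by omega
  have h1 : S * (d * ρ') = d * m' * u := by
    rw [← hρ', ← hm', ← hu]; omega
  have h2 : S * ρ' = m' * u := by
    have : d * (S * ρ') = d * (m' * u) := by rw [← mul_assoc d m' u, ← h1]; ring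
    exact Nat.eq_of_mul_eq_mul_left hdpos this
  have h3 : m' ∣ S := by
    have : m' ∣ S * ρ' := ⟨u, h2⟩
    exact (Nat.Coprime.dvd_mul_right hcop.symm).1 this
  obtain ⟨e, he⟩ := h3
  have hue : u = ρ' * e := by
    rw [he] at h2
    have : m' * (e * ρ') = m' * u := by rw [← h2]; ring
    have := Nat.eq_of_mul_eq_mul_left hm'pos this
    rw [← this]; ring
  refine ⟨d, m', ρ', e, u, hdpos, hm', hr', hcop, he, hu', hue, rfl, ?_⟩
  have hg : Nat.gcd m S = m' * Nat.gcd d e := by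
    rw [hm', he, mul_comm d m', Nat.gcd_mul_left]
  rw [hg]
  have : d * (m' * Nat.gcd d e) = m * Nat.gcd d e := by rw [hm']; ring
  rw [this]
  exact Nat.mul_div_cancel_left _ hm

end MetaNum

end Cfsg.Agent.Helper65
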