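import Mathlib
import Cfsg.Agent.Lib.Helper65.MetaNum

set_option autoImplicit false

namespace Cfsg.Agent.Helper65

namespace MetaNum

theorem pow_shift (r m x : ℕ) (j : ℕ) : ∃ y, (r + m * x) ^ j = r ^ j + m * y := by
  induction j with
  | zero => exact ⟨0, by simp⟩
  | succ j ih =>
    obtain ⟨y, hy⟩ := ih
    refine ⟨r ^ j * x + y * r + y * m * x, ?_⟩
    rw [pow_succ, hy]; ring

theorem sum_shift (r m x : ℕ) (n : ℕ) :
    ∃ Y, ∑ j ∈ Finset.range n, (r + m * x) ^ j = ∑ j ∈ Finset.range n, r ^ j + m * Y := by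
  induction n with
  | zero => exact ⟨0, by simp⟩
  | succ n ih =>
    obtain ⟨Y, hY⟩ := ih
    obtain ⟨y, hy⟩ := pow_shift r m x n
    refine ⟨Y + y, ?_⟩
    rw [Finset.sum_range_succ, Finset.sum_range_succ, hY, hy]; ring

/-- the parameters of the model -/
theorem model (m n r d m' ρ' e l g : ℕ) (hm : 0 < m) (hg : 0 < g)
    (hmd : m = d * m') (hr : r = 1 + d * ρ') (hcop : Nat.Coprime ρ' m')
    (hS : (∑ j ∈ Finset.range n, r ^ j) = m' * e)
    (hgd : g ∣ d) (hge : g ∣ e) (hgl : g ∣ l) :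
    ∃ ρ : ℕ, ((ρ : ZMod (m * g)) ^ n = 1) ∧
      ((ρ : ZMod (m * g)) * (m : ZMod (m * g)) = (m : ZMod (m * g))) ∧
      ((ρ : ZMod (m * g)) * ((ρ : ZMod (m * g)) - (r : ZMod (m * g))) =
        ((ρ : ZMod (m * g)) - (r : ZMod (m * g)))) ∧
      ((ρ : ZMod (m * g)) * ((m' * l : ℕ) : ZMod (m * g)) = ((m' * l : ℕ) : ZMod (m * g))) ∧
      addOrderOf ((m : ZMod (m * g)) * (ρ' : ZMod (m * g)) +
        ((ρ : ZMod (m * g)) - (r : ZMod (m * g))) * (m' : ZMod (m * g))) = g := by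
  obtain ⟨x, hx⟩ := exists_coprime_add_mul ρ' m' g hcop hg
  set c := ρ' + m' * x with hc
  refine ⟨r + m * x, ?_⟩
  have hρ : r + m * x = 1 + d * c := by rw [hr, hmd, hc]; ring
  have hsub : ((r + m * x : ℕ) : ZMod (m * g)) - (r : ZMod (m * g)) = ((m * x : ℕ) : ZMod (m * g)) := by
    push_cast; ring
  obtain ⟨d', hd'⟩ := hgd
  obtain ⟨e', he'⟩ := hge
  obtain ⟨l', hl'⟩ := hgl
  have cast_eq : ∀ a k : ℕ, ((a + m * g * k : ℕ) : ZMod (m * g)) = (a : ZMod (m * g)) := by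
    intro a k
    push_cast
    have : ((m : ZMod (m * g)) * (g : ZMod (m * g))) = 0 := by
      have := ZMod.natCast_self (m * g)
      push_cast at this
      exact this
    rw [this]; ring
  refine ⟨?_, ?_, ?_, ?_, ?_⟩
  · -- ρ^n = 1
    obtain ⟨Y, hY⟩ := sum_shift r m x n
    have hgeo := geo (r + m * x) n (by omega)
    have h1 : (r + m * x) - 1 = d * c := by omega
    rw [h1, hY, hS] at hgeo
    have h2 : (r + m * x) ^ n = 1 + m * g * ((e' + Y * d') * c) := by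
      rw [← hgeo, hmd, he', hd']; ring
    rw [← Nat.cast_pow, h2, cast_eq]; simp
  · rw [← Nat.cast_mul]
    have : (r + m * x) * m = m + m * g * (d' * c) := by rw [hρ, hd']; ring
    rw [this, cast_eq]
  · rw [hsub, ← Nat.cast_mul]
    have : (r + m * x) * (m * x) = m * x + m * g * (d' * c * x) := by rw [hρ, hd']; ring
    rw [this, cast_eq]
  · rw [← Nat.cast_mul]
    have : (r + m * x) * (m' * l) = m' * l + m * g * (c * l') := by
      rw [hρ, hl', hmd]; ring
    rw [this, cast_eq]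
  · rw [hsub]
    have : (m : ZMod (m * g)) * (ρ' : ZMod (m * g)) + ((m * x : ℕ) : ZMod (m * g)) * (m' : ZMod (m * g))
        = ((m * c : ℕ) : ZMod (m * g)) := by
      rw [hc]; push_cast; ring
    rw [this, ZMod.addOrderOf_coe _ (Nat.mul_ne_zero hm.ne' hg.ne'), Nat.gcd_mul_left,
      Nat.mul_div_mul_left _ _ hm]
    have : Nat.gcd g c = 1 := by rw [Nat.gcd_comm]; exact hx
    rw [this, Nat.div_one]

end MetaNum

end Cfsg.Agent.Helper65
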