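import Mathlib

set_option autoImplicit false

namespace Cfsg.Agent.Helper65

namespace MetaRel

section

variable {E : Type*} [Group E] {A B z : E} {r : ℕ}

/-- conjugating a power of `A` by `B` when `B A B⁻¹ = z A^r` with `z` central -/
theorem conj_pow' (hz : z ∈ Subgroup.center E) (hBA : B * A * B⁻¹ = z * A ^ r) (k : ℕ) :
    B * A ^ k * B⁻¹ = z ^ k * A ^ (r * k) := by
  have hc : Commute z (A ^ r) := ((Subgroup.mem_center_iff.1 hz) (A ^ r)).symm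
  rw [← conj_pow, hBA, hc.mul_pow, ← pow_mul]

theorem iter_conj (hz : z ∈ Subgroup.center E) (hBA : B * A * B⁻¹ = z * A ^ r) (i : ℕ) :
    B ^ i * A * (B ^ i)⁻¹ = z ^ (∑ j ∈ Finset.range i, r ^ j) * A ^ (r ^ i) := by
  induction i with
  | zero => simp
  | succ i ih =>
    have h1 : B ^ (i + 1) * A * (B ^ (i + 1))⁻¹ = B * (B ^ i * A * (B ^ i)⁻¹) * B⁻¹ := by
      rw [pow_succ']; group
    rw [h1, ih]
    have hzc : ∀ x : E, x * z ^ (∑ j ∈ Finset.range i, r ^ j) =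
        z ^ (∑ j ∈ Finset.range i, r ^ j) * x := fun x =>
      (Subgroup.mem_center_iff.1 (Subgroup.pow_mem _ hz _)) x
    have h2 : B * (z ^ (∑ j ∈ Finset.range i, r ^ j) * A ^ r ^ i) * B⁻¹ =
        z ^ (∑ j ∈ Finset.range i, r ^ j) * (B * A ^ r ^ i * B⁻¹) := by
      rw [← mul_assoc, hzc B]; group
    rw [h2, conj_pow' hz hBA, Finset.sum_range_succ, pow_add, pow_succ', mul_assoc]

end

section Main

variable {E : Type*} [Group E] (A B : E) (m n r t : ℕ)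

/-- the three relations among the central relators -/
theorem rel1 (hr : 0 < r)
    (h1 : A ^ m ∈ Subgroup.center E)
    (h3 : B * A * B⁻¹ * (A ^ r)⁻¹ ∈ Subgroup.center E) :
    (A ^ m) ^ (r - 1) * (B * A * B⁻¹ * (A ^ r)⁻¹) ^ m = 1 := by
  set z := B * A * B⁻¹ * (A ^ r)⁻¹ with hzdef
  have hBA : B * A * B⁻¹ = z * A ^ r := by rw [hzdef]; group
  have h := conj_pow' h3 hBA m
  have hc1 : B * A ^ m * B⁻¹ = A ^ m := by
    rw [(Subgroup.mem_center_iff.1 h1) B]; group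
  rw [hc1] at h
  -- A^m = z^m * A^(r*m)
  have hrm : r * m = m + m * (r - 1) := by
    obtain ⟨s, rfl⟩ : ∃ s, r = s + 1 := ⟨r - 1, by omega⟩
    simp only [Nat.add_sub_cancel]; ring
  rw [hrm, pow_add, pow_mul] at h
  have hzc : Commute (z ^ m) (A ^ m) :=
    ((Subgroup.mem_center_iff.1 (Subgroup.pow_mem _ h3 m)) (A ^ m)).symm
  have hcc : Commute ((A ^ m) ^ (r - 1)) (z ^ m) :=
    ((Subgroup.mem_center_iff.1 (Subgroup.pow_mem _ h3 m)) _)
  have h' : A ^ m = A ^ m * (z ^ m * (A ^ m) ^ (r - 1)) := by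
    conv_lhs => rw [h]
    rw [← mul_assoc, ← mul_assoc, hzc.eq]
  have := mul_left_cancel (a := A ^ m) (b := 1) (c := z ^ m * (A ^ m) ^ (r - 1)) (by rw [mul_one]; exact h')
  rw [hcc.eq]; exact this.symm

theorem rel2
    (h2 : B ^ n * (A ^ t)⁻¹ ∈ Subgroup.center E)
    (h3 : B * A * B⁻¹ * (A ^ r)⁻¹ ∈ Subgroup.center E) :
    A ^ (r ^ n - 1) * (B * A * B⁻¹ * (A ^ r)⁻¹) ^ (∑ j ∈ Finset.range n, r ^ j) = 1 ∨ r = 0 := by
  by_cases hr : r = 0
  · exact Or.inr hr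
  left
  set z := B * A * B⁻¹ * (A ^ r)⁻¹ with hzdef
  have hBA : B * A * B⁻¹ = z * A ^ r := by rw [hzdef]; group
  have h := iter_conj h3 hBA n
  set z2 := B ^ n * (A ^ t)⁻¹ with hz2
  have hBn : B ^ n = z2 * A ^ t := by rw [hz2]; group
  have hc : B ^ n * A * (B ^ n)⁻¹ = A := by
    rw [hBn]
    have hcz : ∀ x : E, x * z2 = z2 * x := fun x => (Subgroup.mem_center_iff.1 h2) x
    have : z2 * A ^ t * A * (z2 * A ^ t)⁻¹ = z2 * (A ^ t * A * (A ^ t)⁻¹) * z2⁻¹ := by group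
    rw [this]
    have h4 : A ^ t * A * (A ^ t)⁻¹ = A := by
      rw [← pow_succ, pow_succ']; group
    rw [h4, ← hcz A]; group
  rw [hc] at h
  have hpos : 1 ≤ r ^ n := Nat.one_le_pow _ _ (Nat.pos_of_ne_zero hr)
  have hsplit : r ^ n = 1 + (r ^ n - 1) := by omega
  have hzc : Commute (A ^ (r ^ n - 1)) (z ^ (∑ j ∈ Finset.range n, r ^ j)) :=
    (Subgroup.mem_center_iff.1 (Subgroup.pow_mem _ h3 _)) _
  have h' : A * 1 = A * (z ^ (∑ j ∈ Finset.range n, r ^ j) * A ^ (r ^ n - 1)) := by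
    rw [mul_one]
    conv_lhs => rw [h]
    conv_lhs => rw [hsplit]
    rw [pow_add, pow_one, ← mul_assoc, ← mul_assoc]
    congr 1
    exact ((Subgroup.mem_center_iff.1 (Subgroup.pow_mem _ h3 _)) A).symm
  have := mul_left_cancel h'
  rw [hzc.eq]; exact this.symm

theorem rel3 (hr : 0 < r)
    (h2 : B ^ n * (A ^ t)⁻¹ ∈ Subgroup.center E)
    (h3 : B * A * B⁻¹ * (A ^ r)⁻¹ ∈ Subgroup.center E) :
    A ^ (t * (r - 1)) * (B * A * B⁻¹ * (A ^ r)⁻¹) ^ t = 1 := by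
  set z := B * A * B⁻¹ * (A ^ r)⁻¹ with hzdef
  have hBA : B * A * B⁻¹ = z * A ^ r := by rw [hzdef]; group
  have h := conj_pow' h3 hBA t
  set z2 := B ^ n * (A ^ t)⁻¹ with hz2
  have hAt : A ^ t = z2⁻¹ * B ^ n := by rw [hz2]; group
  have hcz : ∀ x : E, x * z2⁻¹ = z2⁻¹ * x := fun x =>
    (Subgroup.mem_center_iff.1 (Subgroup.inv_mem _ h2)) x
  have hc : B * A ^ t * B⁻¹ = A ^ t := by
    rw [hAt, ← mul_assoc, hcz B]
    have : z2⁻¹ * B * B ^ n * B⁻¹ = z2⁻¹ * (B * B ^ n * B⁻¹) := by group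
    rw [this]
    congr 1
    rw [← pow_succ', pow_succ]; group
  rw [hc] at h
  have hrt : r * t = t + t * (r - 1) := by
    obtain ⟨s, rfl⟩ : ∃ s, r = s + 1 := ⟨r - 1, by omega⟩
    simp only [Nat.add_sub_cancel]; ring
  rw [hrt, pow_add] at h
  have hzc : Commute (z ^ t) (A ^ t) :=
    ((Subgroup.mem_center_iff.1 (Subgroup.pow_mem _ h3 t)) (A ^ t)).symm
  have hcc : Commute (A ^ (t * (r - 1))) (z ^ t) :=
    ((Subgroup.mem_center_iff.1 (Subgroup.pow_mem _ h3 t)) _)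
  have h' : A ^ t * 1 = A ^ t * (z ^ t * A ^ (t * (r - 1))) := by
    rw [mul_one]
    conv_lhs => rw [h]
    rw [← mul_assoc, ← mul_assoc, hzc.eq]
  have := mul_left_cancel h'
  rw [hcc.eq]; exact this.symm

end Main

end MetaRel

end Cfsg.Agent.Helper65
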