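import Mathlib
import Cfsg.Agent.Lib.Helper65.MetaRel

set_option autoImplicit false

namespace Cfsg.Agent.Helper65

namespace MetaRel

variable {E : Type*} [Group E] (A B : E) (m n r t d m' ρ' e u l : ℕ)

/-- the candidate generator of the multiplier is killed by `d`, `l` and `e` -/
theorem w_pows
    (hm : m = d * m') (hr : r = 1 + d * ρ')
    (hS : ∑ j ∈ Finset.range n, r ^ j = m' * e)
    (hu : r ^ n = 1 + m * u) (hue : u = ρ' * e) (ht : t = m' * l)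
    (h1 : A ^ m ∈ Subgroup.center E)
    (h2 : B ^ n * (A ^ t)⁻¹ ∈ Subgroup.center E)
    (h3 : B * A * B⁻¹ * (A ^ r)⁻¹ ∈ Subgroup.center E) :
    ((A ^ m) ^ ρ' * (B * A * B⁻¹ * (A ^ r)⁻¹) ^ m') ^ d = 1 ∧
    ((A ^ m) ^ ρ' * (B * A * B⁻¹ * (A ^ r)⁻¹) ^ m') ^ l = 1 ∧
    ((A ^ m) ^ ρ' * (B * A * B⁻¹ * (A ^ r)⁻¹) ^ m') ^ e = 1 := by
  have hrpos : 0 < r := by omega
  have hc : Commute ((A ^ m) ^ ρ') ((B * A * B⁻¹ * (A ^ r)⁻¹) ^ m') :=
    (Subgroup.mem_center_iff.1 (Subgroup.pow_mem _ h3 _)) _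
  have hpow : ∀ k : ℕ, ((A ^ m) ^ ρ' * (B * A * B⁻¹ * (A ^ r)⁻¹) ^ m') ^ k =
      (A ^ m) ^ (ρ' * k) * (B * A * B⁻¹ * (A ^ r)⁻¹) ^ (m' * k) := by
    intro k
    rw [hc.mul_pow, ← pow_mul ((A ^ m)), ← pow_mul (B * A * B⁻¹ * (A ^ r)⁻¹)]
  refine ⟨?_, ?_, ?_⟩
  · rw [hpow]
    have e1 : ρ' * d = r - 1 := by rw [hr]; simp [mul_comm]
    have e2 : m' * d = m := by rw [hm, mul_comm]
    rw [e1, e2]
    exact rel1 A B m r hrpos h1 h3
  · rw [hpow]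
    have h := rel3 A B n r t hrpos h2 h3
    have e1 : t * (r - 1) = m * (ρ' * l) := by
      rw [ht, hr, hm]; simp only [Nat.add_sub_cancel_left]; ring
    rw [e1, pow_mul, ht] at h
    exact h
  · rw [hpow]
    rcases rel2 A B n r t h2 h3 with h | h
    · have e1 : r ^ n - 1 = m * (ρ' * e) := by rw [hu, hue]; simp
      rw [e1, pow_mul, hS] at h
      exact h
    · omega

end MetaRel

end Cfsg.Agent.Helper65
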