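import Mathlib
import Cfsg.Agent.S3967
import Cfsg.Agent.Lib.Helper65.MetaCard
import Cfsg.Agent.Lib.Helper65.MultTransport

set_option autoImplicit false

namespace Cfsg.Agent.Helper65

namespace MetaIso

universe u

/-- **Split metacyclic groups with trivial multiplier.** A group of order `m n` generated by
`a, b` with `a ^ m = 1`, `b ^ n = 1`, `b a b⁻¹ = a ^ r` has trivial Schur multiplier as soon as
`gcd(m, r - 1) · gcd(m, 1 + r + ⋯ + r^(n-1)) / m = 1`. -/
theorem trivial_mult_of_metacyclic {S : Type u} [Group S] (a b : S) (m n r : ℕ)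
    (hm : 0 < m) (hn : 0 < n) (hr : 0 < r) (hrn : r ^ n ≡ 1 [MOD m])
    (h1 : a ^ m = 1) (h2 : b ^ n = 1) (h3 : b * a * b⁻¹ = a ^ r)
    (hgen : Subgroup.closure ({a, b} : Set S) = ⊤) (hcard : Nat.card S = m * n)
    (hnum : Nat.gcd m (r - 1) * Nat.gcd m (∑ i ∈ Finset.range n, r ^ i) / m = 1) :
    Cfsg.HasCyclicSchurMultiplier S 1 := by
  have key := Cfsg.Agent.S3967.result m n r 0 hm hn hr hrn
  rw [hnum, Nat.gcd_one_right] at key
  set rels : Set (FreeGroup Bool) := {FreeGroup.of true ^ m,
    (FreeGroup.of false) ^ n * (FreeGroup.of true ^ (m * 0 / Nat.gcd m (r - 1)))⁻¹,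
    FreeGroup.of false * FreeGroup.of true * (FreeGroup.of false)⁻¹ *
      (FreeGroup.of true ^ r)⁻¹} with hrels
  have ht : m * 0 / Nat.gcd m (r - 1) = 0 := by rw [mul_zero, Nat.zero_div]
  have hr1 : FreeGroup.of true ^ m ∈ rels := Set.mem_insert _ _
  have hr2 : (FreeGroup.of false) ^ n * (FreeGroup.of true ^ (m * 0 / Nat.gcd m (r - 1)))⁻¹ ∈ rels :=
    Set.mem_insert_of_mem _ (Set.mem_insert _ _)
  have hr3 : FreeGroup.of false * FreeGroup.of true * (FreeGroup.of false)⁻¹ *
      (FreeGroup.of true ^ r)⁻¹ ∈ rels :=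
    Set.mem_insert_of_mem _ (Set.mem_insert_of_mem _ (Set.mem_singleton _))
  -- the homomorphism to `S`
  let f₀ : Bool → S := fun c => if c then a else b
  have hf₀ : ∀ x ∈ rels, FreeGroup.lift f₀ x = 1 := by
    intro x hx
    rcases hx with rfl | rfl | hx
    · rw [map_pow, FreeGroup.lift_apply_of]; exact h1
    · rw [map_mul, map_inv, map_pow, map_pow, FreeGroup.lift_apply_of, FreeGroup.lift_apply_of, ht,
        pow_zero, inv_one, mul_one]
      exact h2
    · rw [Set.mem_singleton_iff] at hx
      subst hx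
      rw [map_mul, map_mul, map_mul, map_inv, map_inv, map_pow, FreeGroup.lift_apply_of,
        FreeGroup.lift_apply_of, mul_inv_eq_one]
      exact h3
  let f : PresentedGroup rels →* S := PresentedGroup.toGroup hf₀
  have hfa : f (PresentedGroup.of true) = a := PresentedGroup.toGroup.of hf₀
  have hfb : f (PresentedGroup.of false) = b := PresentedGroup.toGroup.of hf₀
  have hsurj : Function.Surjective f := by
    rw [← MonoidHom.range_eq_top, eq_top_iff, ← hgen, Subgroup.closure_le]
    rintro x (rfl | hx)
    · exact ⟨_, hfa⟩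
    · rw [Set.mem_singleton_iff] at hx; subst hx; exact ⟨_, hfb⟩
  -- the presented group has at most `m n` elements
  set p : FreeGroup Bool →* PresentedGroup rels := PresentedGroup.mk rels with hpdef
  have hPa : (p (FreeGroup.of true)) ^ m = 1 := by
    rw [← map_pow]; exact PresentedGroup.one_of_mem hr1
  have hPb : (p (FreeGroup.of false)) ^ n = (p (FreeGroup.of true)) ^ 0 := by
    have := PresentedGroup.one_of_mem hr2
    rw [ht, pow_zero, inv_one, mul_one] at this
    rw [pow_zero, ← map_pow]; exact this
  have hPc : p (FreeGroup.of false) * p (FreeGroup.of true) * (p (FreeGroup.of false))⁻¹ =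
      (p (FreeGroup.of true)) ^ r := by
    have := PresentedGroup.one_of_mem hr3
    rw [map_mul, map_inv, mul_inv_eq_one] at this
    rw [← map_pow, ← map_inv, ← map_mul, ← map_mul]; exact this
  have hPgen : Subgroup.closure ({p (FreeGroup.of true), p (FreeGroup.of false)} :
      Set (PresentedGroup rels)) = ⊤ := by
    have := PresentedGroup.closure_range_of rels
    rw [← this]
    congr 1
    ext x
    constructor
    · rintro (rfl | hx)
      · exact ⟨true, rfl⟩
      · rw [Set.mem_singleton_iff] at hx; subst hx; exact ⟨false, rfl⟩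
    · rintro ⟨c, rfl⟩
      cases c
      · right; rfl
      · left; rfl
  have hPfin : Finite (PresentedGroup rels) :=
    MetaFin.finite_of_metacyclic _ _ m n r 0 hm hn hrn hPa hPb hPc hPgen
  have hPcard : Nat.card (PresentedGroup rels) ≤ m * n :=
    MetaFin.card_le_of_metacyclic _ _ m n r 0 hm hn hrn hPa hPb hPc hPgen
  have hbij : Function.Bijective f := by
    refine ⟨?_, hsurj⟩
    have hSfin : Finite S := Finite.of_surjective f hsurj
    have hle : Nat.card (PresentedGroup rels) ≤ Nat.card S := by rw [hcard]; exact hPcard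
    exact ((Function.Surjective.bijective_of_nat_card_le hsurj hle)).1
  exact hasSchurMultiplier_of_mulEquiv (MulEquiv.ofBijective f hbij) key

end MetaIso

end Cfsg.Agent.Helper65
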