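import Mathlib

set_option autoImplicit false

/-!
Monomial (induced) matrix representations attached to a linear character of a central kernel.
-/

namespace Cfsg.Agent.Helper65

open Matrix

section

variable {Δ Q : Type*} [Group Δ] [Group Q] (τ : Δ →* Q) (s : Q → Δ)

/-- the cocycle-like element `m(c,q)` with `c * s q = s (τ c * q) * m(c,q)` -/
def monoM (c : Δ) (q : Q) : Δ := (s (τ c * q))⁻¹ * c * s q

theorem monoM_mem (hs : ∀ q, τ (s q) = q) (c : Δ) (q : Q) : monoM τ s c q ∈ τ.ker := by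
  rw [MonoidHom.mem_ker, monoM, map_mul, map_mul, map_inv, hs, hs]
  group

theorem monoM_one (q : Q) : monoM τ s 1 q = 1 := by
  simp [monoM]

theorem monoM_mul (c c' : Δ) (q : Q) :
    monoM τ s (c * c') q = monoM τ s c (τ c' * q) * monoM τ s c' q := by
  simp only [monoM, map_mul]
  rw [mul_assoc (τ c) (τ c') q]
  group

theorem monoM_central (hc : τ.ker ≤ Subgroup.center Δ) (m : Δ) (hm : m ∈ τ.ker) (q : Q) :
    monoM τ s m q = m := by
  have h1 : τ m = 1 := hm
  have h2 := Subgroup.mem_center_iff.1 (hc hm) (s q)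
  simp only [monoM, h1, one_mul]
  rw [mul_assoc, ← h2, ← mul_assoc, inv_mul_cancel, one_mul]

variable [Fintype Q] [DecidableEq Q]

/-- the monomial matrix of `c` -/
noncomputable def monoMat (hs : ∀ q, τ (s q) = q) (lam : τ.ker →* ℂˣ) (c : Δ) : Matrix Q Q ℂ :=
  fun q' q => if q' = τ c * q then ((lam ⟨monoM τ s c q, monoM_mem τ s hs c q⟩ : ℂˣ) : ℂ) else 0

omit [Fintype Q] in
theorem monoMat_one (hs : ∀ q, τ (s q) = q) (lam : τ.ker →* ℂˣ) : monoMat τ s hs lam 1 = 1 := by
  ext q' q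
  rw [monoMat, Matrix.one_apply]
  simp only [map_one, one_mul]
  by_cases h : q' = q
  · rw [if_pos h, if_pos h]
    have : (⟨monoM τ s 1 q, monoM_mem τ s hs 1 q⟩ : τ.ker) = 1 := Subtype.ext (monoM_one τ s q)
    rw [this, map_one]; rfl
  · rw [if_neg h, if_neg h]

theorem monoMat_mul (hs : ∀ q, τ (s q) = q) (lam : τ.ker →* ℂˣ) (c c' : Δ) :
    monoMat τ s hs lam (c * c') = monoMat τ s hs lam c * monoMat τ s hs lam c' := by
  ext q'' q
  rw [Matrix.mul_apply, Finset.sum_eq_single (τ c' * q)]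
  · simp only [monoMat, if_true]
    rw [map_mul, mul_assoc]
    by_cases h : q'' = τ c * (τ c' * q)
    · rw [if_pos h, if_pos h]
      have : (⟨monoM τ s (c * c') q, monoM_mem τ s hs (c * c') q⟩ : τ.ker) =
          ⟨monoM τ s c (τ c' * q), monoM_mem τ s hs c (τ c' * q)⟩ *
            ⟨monoM τ s c' q, monoM_mem τ s hs c' q⟩ := Subtype.ext (monoM_mul τ s c c' q)
      rw [this, map_mul]
      push_cast
      rfl
    · rw [if_neg h, if_neg h, zero_mul]
  · intro j _ hj
    simp only [monoMat]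
    rw [if_neg hj, mul_zero]
  · intro h
    exact absurd (Finset.mem_univ _) h

/-- the monomial representation as a monoid hom into matrices -/
noncomputable def monoHom (hs : ∀ q, τ (s q) = q) (lam : τ.ker →* ℂˣ) : Δ →* Matrix Q Q ℂ where
  toFun := monoMat τ s hs lam
  map_one' := monoMat_one τ s hs lam
  map_mul' := monoMat_mul τ s hs lam

theorem monoHom_central (hs : ∀ q, τ (s q) = q) (lam : τ.ker →* ℂˣ)
    (hc : τ.ker ≤ Subgroup.center Δ) (m : τ.ker) :
    monoHom τ s hs lam (m : Δ) = ((lam m : ℂˣ) : ℂ) • (1 : Matrix Q Q ℂ) := by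
  ext q' q
  show monoMat τ s hs lam (m : Δ) q' q = _
  rw [monoMat, Matrix.smul_apply, Matrix.one_apply]
  have h1 : τ (m : Δ) = 1 := m.2
  rw [h1, one_mul]
  by_cases h : q' = q
  · rw [if_pos h, if_pos h]
    have : (⟨monoM τ s (m : Δ) q, monoM_mem τ s hs (m : Δ) q⟩ : τ.ker) = m :=
      Subtype.ext (monoM_central τ s hc (m : Δ) m.2 q)
    rw [this]; simp
  · rw [if_neg h, if_neg h]; simp

end

/-- **Monomial representation.** For a central extension `τ : Δ → Q` of a finite group `Q` and a linear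
character `lam` of the kernel there is a matrix representation of `Δ` in which the kernel acts through the
scalars `lam`. -/
theorem exists_monomial {Δ Q : Type*} [Group Δ] [Group Q] [Finite Q] (τ : Δ →* Q)
    (hτ : Function.Surjective τ) (hc : τ.ker ≤ Subgroup.center Δ) (lam : τ.ker →* ℂˣ) :
    ∃ (n : ℕ) (ρ : Δ →* GL (Fin n) ℂ),
      (∀ m : τ.ker, ρ (m : Δ) ∈ Subgroup.center (GL (Fin n) ℂ)) ∧
      (∀ m : τ.ker, ρ (m : Δ) = 1 → lam m = 1) := by
  classical
  let _ : Fintype Q := Fintype.ofFinite Q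
  let s : Q → Δ := Function.surjInv hτ
  have hs : ∀ q, τ (s q) = q := Function.surjInv_eq hτ
  let e : Q ≃ Fin (Fintype.card Q) := Fintype.equivFin Q
  let R : Matrix Q Q ℂ ≃ₐ[ℂ] Matrix (Fin (Fintype.card Q)) (Fin (Fintype.card Q)) ℂ :=
    Matrix.reindexAlgEquiv ℂ ℂ e
  let ρ₀ : Δ →* Matrix (Fin (Fintype.card Q)) (Fin (Fintype.card Q)) ℂ :=
    (R.toRingEquiv.toMulEquiv.toMonoidHom).comp (monoHom τ s hs lam)
  have hρ₀ : ∀ m : τ.ker, ρ₀ (m : Δ) = ((lam m : ℂˣ) : ℂ) • 1 := by
    intro m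
    show R (monoHom τ s hs lam (m : Δ)) = _
    rw [monoHom_central τ s hs lam hc m, map_smul, map_one]
  refine ⟨Fintype.card Q, ρ₀.toHomUnits, ?_, ?_⟩
  · intro m
    rw [Subgroup.mem_center_iff]
    intro g
    apply Units.ext
    show (g : Matrix _ _ ℂ) * ρ₀ (m : Δ) = ρ₀ (m : Δ) * (g : Matrix _ _ ℂ)
    rw [hρ₀ m, mul_smul_comm, smul_mul_assoc, mul_one, one_mul]
  · intro m hm
    have h1 : ρ₀ (m : Δ) = 1 := by
      have := congrArg (Units.val) hm
      exact this
    rw [hρ₀ m] at h1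
    have hpos : 0 < Fintype.card Q := Fintype.card_pos
    have h2 := congrFun (congrFun h1 ⟨0, hpos⟩) ⟨0, hpos⟩
    rw [Matrix.smul_apply, Matrix.one_apply_eq, smul_eq_mul, mul_one] at h2
    exact Units.ext h2

/-- Linear characters separate the points of a finite abelian group (stated for a central kernel). -/
theorem exists_char_ne_one {Δ Q : Type*} [Group Δ] [Group Q] (τ : Δ →* Q) [Finite τ.ker]
    (hc : τ.ker ≤ Subgroup.center Δ) (m : τ.ker) (hm : m ≠ 1) :
    ∃ lam : τ.ker →* ℂˣ, lam m ≠ 1 := by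
  let _ : CommGroup τ.ker :=
    { (inferInstance : Group τ.ker) with
      mul_comm := fun a b => Subtype.ext ((Subgroup.mem_center_iff.1 (hc b.2)) a.1) }
  have hne : Monoid.exponent τ.ker ≠ 0 := Monoid.exponent_ne_zero_of_finite
  have : NeZero ((Monoid.exponent τ.ker : ℕ) : ℂ) := ⟨Nat.cast_ne_zero.2 hne⟩
  exact CommGroup.exists_apply_ne_one_of_hasEnoughRootsOfUnity τ.ker ℂ hm

end Cfsg.Agent.Helper65
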