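import Mathlib
import Cfsg.Agent.Lib.Helper7.NSEDefs

/-!
# helper7 NSE server (S3592): piece (M5) `card_le_sn_mul_centralizer`
-/

set_option autoImplicit false

namespace Cfsg.Agent.Helper65.NSE

open Subgroup Cfsg.Agent.Helper7.NSE
open scoped Pointwise

variable {H : Type*} [Group H] [Finite H]

/-- (M5) the conjugacy class of `g` has `|H| / |C(g)|` elements, all of order `o(g)`. -/
theorem card_le_sn_mul_centralizer (g : H) :
    Nat.card H ≤ sn H (orderOf g) * Nat.card (centralizer ({g} : Set H)) := by
  classical
  have h1 : (MulAction.stabilizer (ConjAct H) g).index = (MulAction.orbit (ConjAct H) g).ncard :=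
    MulAction.index_stabilizer (ConjAct H) g
  have h2 := Subgroup.card_mul_index (MulAction.stabilizer (ConjAct H) g)
  have h3 : Nat.card (centralizer ({g} : Set H)) = Nat.card (MulAction.stabilizer (ConjAct H) g) :=
    Subgroup.nat_card_centralizer_nat_card_stabilizer g
  have h4 : (MulAction.orbit (ConjAct H) g).ncard ≤ sn H (orderOf g) := by
    unfold sn
    rw [← Nat.card_coe_set_eq]
    refine Nat.card_le_card_of_injective
      (fun x : MulAction.orbit (ConjAct H) g => (⟨x.1, ?_⟩ : {y : H // orderOf y = orderOf g})) ?_
    · obtain ⟨c, hc⟩ := x.2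
      rw [← hc]
      show orderOf (c • g) = orderOf g
      rw [ConjAct.smul_def]
      exact (MulEquiv.orderOf_eq (MulAut.conj (ConjAct.ofConjAct c)) g)
    · intro x y hxy
      have := congrArg Subtype.val hxy
      exact Subtype.ext this
  have h5 : Nat.card (ConjAct H) = Nat.card H := rfl
  calc Nat.card H = Nat.card (MulAction.stabilizer (ConjAct H) g) *
        (MulAction.stabilizer (ConjAct H) g).index := by rw [h2, h5]
    _ = (MulAction.orbit (ConjAct H) g).ncard * Nat.card (centralizer ({g} : Set H)) := by
        rw [h1, h3, mul_comm]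
    _ ≤ sn H (orderOf g) * Nat.card (centralizer ({g} : Set H)) := Nat.mul_le_mul_right _ h4

end Cfsg.Agent.Helper65.NSE
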