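import Mathlib
import Cfsg.Agent.S1017
import Cfsg.Agent.Lib.Helper17.SylowCount

set_option autoImplicit false

namespace Cfsg.Agent.Helper65.O4320

open Cfsg MulAction

universe u

section GT2

variable {G : Type u} [Group G] [Finite G] [IsSimpleGroup G]

/-- (B1a) -/
theorem b1_setup (hG : Nat.card G = 4320) (h216 : Nat.card (Sylow 5 G) = 216) (R : Sylow 5 G)
    (hC : Nat.card (Subgroup.centralizer ((R : Subgroup G) : Set G)) = 10) :
    ∃ u : G, orderOf u = 2 ∧ u ∈ Subgroup.centralizer ((R : Subgroup G) : Set G) ∧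
      Subgroup.normalizer ((R : Subgroup G) : Set G) ≤ Subgroup.centralizer ({u} : Set G) ∧
      ∀ w ∈ Subgroup.centralizer ((R : Subgroup G) : Set G), orderOf w = 2 → w = u := by
  haveI : Fact (Nat.Prime 5) := ⟨by norm_num⟩
  have hR : Nat.card (R : Subgroup G) = 5 := by
    have := Cfsg.Agent.S1017.sylow_card_eq R 1 864 (by rw [hG]; norm_num) (by norm_num)
    simpa using this
  -- an involution of C(R)
  haveI : Fact (Nat.Prime 2) := ⟨Nat.prime_two⟩
  obtain ⟨c, hc⟩ := exists_prime_orderOf_dvd_card' (G := ↥(Subgroup.centralizer ((R : Subgroup G) : Set G))) 2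
    (by rw [hC]; norm_num)
  have hu : orderOf (c : G) = 2 := by rw [Subgroup.orderOf_coe]; exact hc
  have huC : (c : G) ∈ Subgroup.centralizer ((R : Subgroup G) : Set G) := c.2
  -- uniqueness
  have huniq : ∀ w ∈ Subgroup.centralizer ((R : Subgroup G) : Set G), orderOf w = 2 → w = (c : G) := by
    intro w hw hw2
    have hw1 : w ^ 2 = 1 := by rw [← hw2]; exact pow_orderOf_eq_one w
    have hmem := Cfsg.Agent.Helper17.SylowCount.mem_zpowers_of_pow_eq_one (p := 5) (r := 2)
      Nat.prime_two (by norm_num) (R : Subgroup G) hR (by rw [hC]) (c : G) huC hu w hw hw1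
    obtain ⟨k, hk⟩ := Subgroup.mem_zpowers_iff.mp hmem
    have hu2 : (c : G) ^ (2 : ℤ) = 1 := by
      have : (c : G) ^ 2 = 1 := by rw [← hu]; exact pow_orderOf_eq_one _
      exact_mod_cast this
    rcases Int.emod_two_eq_zero_or_one k with h0 | h1
    · exfalso
      have : k = 2 * (k / 2) := by omega
      rw [this, zpow_mul, hu2, one_zpow] at hk
      rw [← hk, orderOf_one] at hw2
      norm_num at hw2
    · have : k = 2 * (k / 2) + 1 := by omega
      rw [this, zpow_add, zpow_mul, hu2, one_zpow, one_mul, zpow_one] at hk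
      exact hk.symm
  refine ⟨(c : G), hu, huC, ?_, huniq⟩
  intro g hg
  have hg' : ∀ x, x ∈ (R : Subgroup G) ↔ g * x * g⁻¹ ∈ (R : Subgroup G) :=
    fun x => Subgroup.mem_normalizer_iff.mp hg x
  have hg'' : ∀ x, x ∈ (R : Subgroup G) → g⁻¹ * x * g ∈ (R : Subgroup G) := by
    intro x hx
    rw [hg' (g⁻¹ * x * g)]
    have : g * (g⁻¹ * x * g) * g⁻¹ = x := by group
    rw [this]
    exact hx
  have hconjC : g * (c : G) * g⁻¹ ∈ Subgroup.centralizer ((R : Subgroup G) : Set G) := by
    rw [Subgroup.mem_centralizer_iff]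
    intro x hx
    have h1 := (Subgroup.mem_centralizer_iff.mp huC) (g⁻¹ * x * g) (hg'' x hx)
    -- h1 : g⁻¹ * x * g * c = c * (g⁻¹ * x * g)
    calc x * (g * (c : G) * g⁻¹) = g * ((g⁻¹ * x * g) * (c : G)) * g⁻¹ := by group
      _ = g * ((c : G) * (g⁻¹ * x * g)) * g⁻¹ := by rw [h1]
      _ = g * (c : G) * g⁻¹ * x := by group
  have hconj2 : orderOf (g * (c : G) * g⁻¹) = 2 := by
    have := MulEquiv.orderOf_eq (MulAut.conj g) (c : G)
    rw [MulAut.conj_apply] at this
    rw [this, hu]
  have heq := huniq _ hconjC hconj2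
  rw [Subgroup.mem_centralizer_iff]
  intro h hh
  rw [Set.mem_singleton_iff] at hh
  subst hh
  calc (c : G) * g = g * (c : G) * g⁻¹ * g := by rw [heq]
    _ = g * (c : G) := by group

end GT2

end Cfsg.Agent.Helper65.O4320
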