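import Mathlib
import Cfsg.Prelude.Def_Blocks
import Cfsg.Agent.Lib.Helper78.CharCount

set_option autoImplicit false

namespace Cfsg.Agent.Helper65.O4320

open Cfsg MulAction
open scoped ComplexConjugate

universe u

/-- representation version of (B2c1) -/
theorem h65_sum_subgroup_rep_mono {G : Type*} [Group G] {V : Type*} [AddCommGroup V] [Module ℂ V]
    [FiniteDimensional ℂ V] (ρ : Representation ℂ G V) (P D : Subgroup G) [Fintype P] [Fintype D]
    (hPD : P ≤ D) :
    ∃ m₀ m₁ : ℕ, m₁ ≤ m₀ ∧ ∑ w : P, ρ.character (w : G) = (Nat.card P : ℂ) * (m₀ : ℂ) ∧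
      ∑ w : D, ρ.character (w : G) = (Nat.card D : ℂ) * (m₁ : ℂ) := by
  let ρP : Representation ℂ P V := ρ.comp P.subtype
  let ρD : Representation ℂ D V := ρ.comp D.subtype
  have hneP : (Nat.card P : ℂ) ≠ 0 := Cfsg.Agent.Helper78.natCard_ne_zero_complex
  have hneD : (Nat.card D : ℂ) ≠ 0 := Cfsg.Agent.Helper78.natCard_ne_zero_complex
  have iP : Invertible (Nat.card P : ℂ) := invertibleOfNonzero hneP
  have iD : Invertible (Nat.card D : ℂ) := invertibleOfNonzero hneD
  have h1 := Representation.card_inv_mul_sum_char_eq_finrank ρP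
  have h2 := Representation.card_inv_mul_sum_char_eq_finrank ρD
  refine ⟨Module.finrank ℂ (Representation.invariants ρP),
    Module.finrank ℂ (Representation.invariants ρD), ?_, ?_, ?_⟩
  · apply Submodule.finrank_mono
    intro v hv
    rw [Representation.mem_invariants] at hv ⊢
    intro g
    exact hv ⟨g.1, hPD g.2⟩
  · rw [← h1, ← mul_assoc, mul_inv_cancel₀ hneP, one_mul]
    rfl
  · rw [← h2, ← mul_assoc, mul_inv_cancel₀ hneD, one_mul]
    rfl

/-- (B2c1) -/
theorem sum_subgroup_mono {G : Type u} [Group G] {χ : G → ℂ} (hχ : IsCharacter G χ) (P D : Subgroup G)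
    [Fintype P] [Fintype D] (hPD : P ≤ D) :
    ∃ m₀ m₁ : ℕ, m₁ ≤ m₀ ∧ ∑ w : P, χ (w : G) = (Nat.card P : ℂ) * (m₀ : ℂ) ∧
      ∑ w : D, χ (w : G) = (Nat.card D : ℂ) * (m₁ : ℂ) := by
  obtain ⟨n, ρ, rfl⟩ := hχ
  exact h65_sum_subgroup_rep_mono ρ P D hPD

end Cfsg.Agent.Helper65.O4320
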