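import Mathlib

set_option autoImplicit false

namespace Cfsg.Agent.Helper65.O459648

theorem h65_card_mul_relIndex {G : Type*} [Group G] {K L : Subgroup G} (hKL : K ≤ L) :
    Nat.card K * K.relIndex L = Nat.card L := by
  have h := Subgroup.relIndex_mul_relIndex (⊥ : Subgroup G) K L bot_le hKL
  rwa [Subgroup.relIndex_bot_left, Subgroup.relIndex_bot_left] at h

/-- a subgroup of index 2 (by cardinalities) is normalised by the big one -/
theorem h65_le_normalizer_of_card {G : Type*} [Group G] [Finite G] {K L : Subgroup G} (hKL : K ≤ L)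
    (hc : Nat.card L = 2 * Nat.card K) : L ≤ Subgroup.normalizer (K : Set G) := by
  rw [← Subgroup.normal_subgroupOf_iff_le_normalizer hKL]
  apply Subgroup.normal_of_index_eq_two
  have h := h65_card_mul_relIndex hKL
  have hpos : 0 < Nat.card K := Nat.card_pos
  show K.relIndex L = 2
  rw [hc] at h
  nlinarith

/-- (B4b) `V' = g V g⁻¹ ≤ S0`, `V' ≠ V`, both of index 2 in `S0` so normal in `S0`, `V ⊓ V'` has
order 2 (`Subgroup.index_inf_le`), is normal in `S0`, hence central in `S0`; `g (V ⊓ V') g⁻¹ =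
V' ⊓ g² V g⁻² = V' ⊓ V` -/
theorem endgame_z {G : Type*} [Group G] [Finite G]
    (N V S0 : Subgroup G) (g : G) (hV : Nat.card V = 4)
    (hNV : Subgroup.normalizer (V : Set G) = N) (hS0 : Nat.card S0 = 8) (hVS : V ≤ S0)
    (hSN : S0 ≤ N) (hgN : g ∉ N) (hgS : g ∈ Subgroup.normalizer (S0 : Set G))
    (hgg : g * g ∈ S0) :
    ∃ z : G, z ≠ 1 ∧ z ∈ V ∧ (∀ s ∈ S0, s * z = z * s) ∧ g * z = z * g := by
  subst hNV
  have hVS0 := hVS
  have hS0' := hS0
  have hS0N : S0 ≤ Subgroup.normalizer (V : Set G) := hSN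
  have hg2 : g * g ∈ S0 := hgg
  have hgS0 : ∀ s, s ∈ S0 ↔ g * s * g⁻¹ ∈ S0 := fun s =>
    (Subgroup.mem_normalizer_iff.mp hgS) s
  -- Vg
  set Vg : Subgroup G := V.map (MulAut.conj g).toMonoidHom with hVg
  have hmemVg : ∀ y, y ∈ Vg ↔ ∃ v ∈ V, g * v * g⁻¹ = y := by
    intro y
    rw [hVg, Subgroup.mem_map]
    rfl
  have hVgS0 : Vg ≤ S0 := by
    intro y hy
    obtain ⟨v, hv, rfl⟩ := (hmemVg y).mp hy
    exact (hgS0 v).mp (hVS0 hv)
  have hVgcard : Nat.card Vg = 4 := by
    rw [hVg, ← hV]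
    exact Subgroup.card_map_of_injective (MulAut.conj g).injective
  have hS0Ng : S0 ≤ Subgroup.normalizer (Vg : Set G) :=
    h65_le_normalizer_of_card hVgS0 (by rw [hS0', hVgcard])
  have hne : Vg ≠ V := by
    intro heq
    apply hgN
    rw [Subgroup.mem_normalizer_iff]
    intro h
    constructor
    · intro hh
      rw [← heq]
      exact (hmemVg _).mpr ⟨h, hh, rfl⟩
    · intro hh
      rw [← heq] at hh
      obtain ⟨v, hv, hveq⟩ := (hmemVg _).mp hh
      have : v = h := by
        have := congrArg (fun y => g⁻¹ * y * g) hveq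
        simpa [mul_assoc] using this
      rwa [← this]
  -- Z
  set Z : Subgroup G := V ⊓ Vg with hZ
  have hZS0 : Z ≤ S0 := inf_le_left.trans hVS0
  have hZle : 2 ≤ Nat.card Z := by
    have h1 := h65_card_mul_relIndex hZS0
    have h2 : Z.relIndex S0 ≤ V.relIndex S0 * Vg.relIndex S0 := Subgroup.relIndex_inf_le
    have h3 := h65_card_mul_relIndex hVS0
    have h4 := h65_card_mul_relIndex hVgS0
    rw [hS0', hV] at h3
    rw [hS0', hVgcard] at h4
    have h3' : V.relIndex S0 = 2 := by omega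
    have h4' : Vg.relIndex S0 = 2 := by omega
    rw [h3', h4'] at h2
    rw [hS0'] at h1
    by_contra hlt
    push Not at hlt
    have hpos : 0 < Nat.card Z := Nat.card_pos
    have : Nat.card Z = 1 := by omega
    rw [this] at h1
    omega
  have hZV : Z ≤ V := inf_le_left
  have hZneV : Nat.card Z ≠ 4 := by
    intro h4
    apply hne
    have hZeqV : Z = V := Subgroup.eq_of_le_of_card_ge hZV (by rw [h4, hV])
    have hVle : V ≤ Vg := by
      rw [← hZeqV]; exact inf_le_right
    exact (Subgroup.eq_of_le_of_card_ge hVle (by rw [hV, hVgcard])).symm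
  have hZ2 : Nat.card Z = 2 := by
    have hdvd : Nat.card Z ∣ 4 := by
      rw [← hV]; exact Subgroup.card_dvd_of_le hZV
    have hle4 : Nat.card Z ≤ 4 := Nat.le_of_dvd (by norm_num) hdvd
    interval_cases h : Nat.card Z
    · rfl
    · omega
    · exact absurd rfl hZneV
  -- z
  obtain ⟨⟨z, hzZ⟩, hz1', huniq⟩ := (Nat.card_eq_two_iff' (1 : Z)).mp hZ2
  have hz1 : z ≠ 1 := by
    intro h
    apply hz1'
    exact Subtype.ext h
  have hZonly : ∀ y ∈ Z, y ≠ 1 → y = z := by
    intro y hy hy1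
    have := huniq ⟨y, hy⟩ (by
      intro h
      apply hy1
      exact congrArg Subtype.val h)
    exact congrArg Subtype.val this
  have hzV : z ∈ V := hZV hzZ
  have hzVg : z ∈ Vg := (inf_le_right : Z ≤ Vg) hzZ
  refine ⟨z, hz1, hzV, ?_, ?_⟩
  · intro s hs
    have h1 : s * z * s⁻¹ ∈ V := (Subgroup.mem_normalizer_iff.mp (hS0N hs) z).mp hzV
    have h2 : s * z * s⁻¹ ∈ Vg := (Subgroup.mem_normalizer_iff.mp (hS0Ng hs) z).mp hzVg
    have h3 : s * z * s⁻¹ ≠ 1 := by
      intro h
      apply hz1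
      have := congrArg (fun y => s⁻¹ * y * s) h
      simpa [mul_assoc] using this
    have := hZonly _ ⟨h1, h2⟩ h3
    calc s * z = s * z * s⁻¹ * s := by group
      _ = z * s := by rw [this]
  · -- g z g⁻¹ = z
    have h1 : g * z * g⁻¹ ∈ Vg := (hmemVg _).mpr ⟨z, hzV, rfl⟩
    have h2 : g * z * g⁻¹ ∈ V := by
      obtain ⟨v, hv, hveq⟩ := (hmemVg z).mp hzVg
      have hgg' : g * g ∈ Subgroup.normalizer (V : Set G) := hS0N hg2
      have := (Subgroup.mem_normalizer_iff.mp hgg' v).mp hv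
      have heq : g * z * g⁻¹ = g * g * v * (g * g)⁻¹ := by
        rw [← hveq]; group
      rw [heq]; exact this
    have h3 : g * z * g⁻¹ ≠ 1 := by
      intro h
      apply hz1
      have := congrArg (fun y => g⁻¹ * y * g) h
      simpa [mul_assoc] using this
    have := hZonly _ ⟨h2, h1⟩ h3
    calc g * z = g * z * g⁻¹ * g := by group
      _ = z * g := by rw [this]

end Cfsg.Agent.Helper65.O459648
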