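import Mathlib
import Cfsg.Agent.S1017

/-!
# O5760 (C36c): a Sylow 2-subgroup `T` of `N(R)` and `g ∈ N_G(T) \ N(R)` with `g² ∈ T` (helper7 server, S0980)
-/

set_option autoImplicit false
set_option linter.unusedVariables false

namespace Cfsg.Agent.Helper65.O5760

open Cfsg MulAction

universe u v

/-- In a finite `2`-group, a proper subgroup `T` has an element `g ∉ T` normalizing `T` with `g * g ∈ T`. -/
theorem h65_exists_normalizing {S : Type*} [Group S] [Finite S] (hS : IsPGroup 2 S) (T : Subgroup S)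
    (hT : T < ⊤) : ∃ g : S, g ∈ Subgroup.normalizer (T : Set S) ∧ g ∉ T ∧ g * g ∈ T := by
  have : Fact (Nat.Prime 2) := ⟨Nat.prime_two⟩
  have : Group.IsNilpotent S := hS.isNilpotent
  have hnc := Group.normalizerCondition_of_isNilpotent (G := S) T hT
  obtain ⟨h, hhN, hhT⟩ := SetLike.exists_of_lt hnc
  have hex : ∃ i : ℕ, h ^ 2 ^ i ∈ T := by
    obtain ⟨k, hk⟩ := hS h
    exact ⟨k, by rw [hk]; exact T.one_mem⟩
  classical
  have hmin : ∀ m, m < Nat.find hex → ¬ h ^ 2 ^ m ∈ T := fun m hm => Nat.find_min hex hm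
  have hspec := Nat.find_spec hex
  set i0 := Nat.find hex with hi0
  have hi0pos : i0 ≠ 0 := by
    intro h0
    rw [h0, pow_zero, pow_one] at hspec
    exact hhT hspec
  obtain ⟨i1, hi1⟩ := Nat.exists_eq_succ_of_ne_zero hi0pos
  refine ⟨h ^ 2 ^ i1, Subgroup.pow_mem _ hhN _, ?_, ?_⟩
  · exact hmin i1 (by omega)
  · rw [← pow_add, ← two_mul, ← pow_succ']
    rw [hi1] at hspec
    exact hspec

/-- (C36c) -/
theorem exists_T_g {G : Type u} [Group G] [Finite G] (hG : Nat.card G = 5760) (R : Sylow 5 G)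
    (hN : Nat.card (Subgroup.normalizer ((R : Subgroup G) : Set G)) = 160)
    (K : Subgroup G) (hKN : K ≤ Subgroup.normalizer ((R : Subgroup G) : Set G))
    (hKnorm : ∀ n ∈ Subgroup.normalizer ((R : Subgroup G) : Set G), ∀ k ∈ K, n * k * n⁻¹ ∈ K)
    (hK2 : ∃ j : ℕ, Nat.card K = 2 ^ j) :
    ∃ (T : Subgroup G) (g : G), T ≤ Subgroup.normalizer ((R : Subgroup G) : Set G) ∧ Nat.card T = 32 ∧
      K ≤ T ∧ g ∉ Subgroup.normalizer ((R : Subgroup G) : Set G) ∧
      (∀ t : G, t ∈ T ↔ g * t * g⁻¹ ∈ T) ∧ g * g ∈ T := by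
  have : Fact (Nat.Prime 2) := ⟨Nat.prime_two⟩
  set N : Subgroup G := Subgroup.normalizer ((R : Subgroup G) : Set G) with hNdef
  obtain ⟨j, hj⟩ := hK2
  have hKp : IsPGroup 2 K := IsPGroup.of_card hj
  have hKp' : IsPGroup 2 (K.subgroupOf N) := hKp.comap_subtype
  obtain ⟨T', hT'⟩ := hKp'.exists_le_sylow
  have hT'card : Nat.card (T' : Subgroup N) = 2 ^ 5 :=
    Cfsg.Agent.S1017.sylow_card_eq T' 5 5 (by rw [hN]; norm_num) (by norm_num)
  set T : Subgroup G := (T' : Subgroup N).map N.subtype with hT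
  have hTcard : Nat.card T = 32 := by
    rw [hT, Subgroup.card_map_of_injective N.subtype_injective, hT'card]; norm_num
  have hTN : T ≤ N := Subgroup.map_subtype_le _
  have hKT : K ≤ T := by
    intro k hk
    exact ⟨⟨k, hKN hk⟩, hT' (by rw [Subgroup.mem_subgroupOf]; exact hk), rfl⟩
  have hTp : IsPGroup 2 T := IsPGroup.of_card (n := 5) (by rw [hTcard]; norm_num)
  obtain ⟨S, hTS⟩ := hTp.exists_le_sylow
  have hScard : Nat.card (S : Subgroup G) = 2 ^ 7 :=
    Cfsg.Agent.S1017.sylow_card_eq S 7 45 (by rw [hG]; norm_num) (by norm_num)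
  set TS : Subgroup (S : Subgroup G) := T.subgroupOf (S : Subgroup G) with hTSdef
  have hTScard : Nat.card TS = 32 := by
    rw [hTSdef, Nat.card_congr (Subgroup.subgroupOfEquivOfLe hTS).toEquiv, hTcard]
  have hlt : TS < ⊤ := by
    rw [lt_top_iff_ne_top]
    intro htop
    rw [htop, Subgroup.card_top, hScard] at hTScard
    norm_num at hTScard
  obtain ⟨g', hg'N, hg'T, hg'2⟩ := h65_exists_normalizing S.isPGroup' TS hlt
  have hmemTS : ∀ s : (S : Subgroup G), s ∈ TS ↔ (s : G) ∈ T := fun s => Subgroup.mem_subgroupOf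
  have hgT : (g' : G) ∉ T := fun h => hg'T ((hmemTS g').2 h)
  refine ⟨T, (g' : G), hTN, hTcard, hKT, ?_, ?_, ?_⟩
  · -- g ∉ N
    intro hgN
    set Q : Subgroup G := T ⊔ Subgroup.zpowers (g' : G) with hQ
    have hQS : Q ≤ (S : Subgroup G) := by
      rw [hQ]
      refine sup_le hTS ?_
      rw [Subgroup.zpowers_le]
      exact g'.2
    have hQp : IsPGroup 2 Q := S.isPGroup'.to_le hQS
    have hQp' : IsPGroup 2 (Q.subgroupOf N) := hQp.comap_subtype
    have hle : (T' : Subgroup N) ≤ Q.subgroupOf N := by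
      intro x hx
      rw [Subgroup.mem_subgroupOf]
      exact (le_sup_left : T ≤ Q) ⟨x, hx, rfl⟩
    have heq := T'.is_maximal' hQp' hle
    have hgQ : (⟨(g' : G), hgN⟩ : N) ∈ Q.subgroupOf N := by
      rw [Subgroup.mem_subgroupOf]
      exact (le_sup_right : Subgroup.zpowers (g' : G) ≤ Q) (Subgroup.mem_zpowers _)
    rw [heq] at hgQ
    exact hgT ⟨_, hgQ, rfl⟩
  · intro t
    constructor
    · intro ht
      have h1 : (⟨t, hTS ht⟩ : (S : Subgroup G)) ∈ TS := (hmemTS _).2 ht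
      have h2 := (Subgroup.mem_normalizer_iff.1 hg'N ⟨t, hTS ht⟩).1 h1
      have h3 := (hmemTS _).1 h2
      simpa using h3
    · intro ht
      have hg'inv : g'⁻¹ ∈ Subgroup.normalizer (TS : Set (S : Subgroup G)) :=
        Subgroup.inv_mem _ hg'N
      have h1 : (⟨(g' : G) * t * (g' : G)⁻¹, hTS ht⟩ : (S : Subgroup G)) ∈ TS := (hmemTS _).2 ht
      have h2 := (Subgroup.mem_normalizer_iff.1 hg'inv ⟨_, hTS ht⟩).1 h1
      have h3 := (hmemTS _).1 h2
      have h4 : (g' : G)⁻¹ * ((g' : G) * t * (g' : G)⁻¹) * (g' : G) = t := by group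
      have h5 : (g' : G)⁻¹ * ((g' : G) * t * (g' : G)⁻¹) * (g' : G) ∈ T := by simpa using h3
      rwa [h4] at h5
  · have := (hmemTS _).1 hg'2
    simpa using this

end Cfsg.Agent.Helper65.O5760
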