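import Mathlib
import Cfsg.Agent.Lib.Helper65.AG24

/-!
# O5760 (D7): a 2-(16,4,1) design has unique parallels (helper7 server, S0980)
-/

set_option autoImplicit false

namespace Cfsg.Agent.Helper65.O5760

open Cfsg.Agent.Helper65.AG24

universe u v

/-- The set of lines of the form `L a b`, `a ≠ b`. -/
def h65Lines {X : Type v} (L : X → X → Set X) : Set (Set X) := {l | ∃ a b : X, a ≠ b ∧ l = L a b}

theorem h65_uniq {X : Type v} (L : X → X → Set X)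
    (h1 : ∀ a b : X, a ∈ L a b ∧ b ∈ L a b)
    (h3 : ∀ a b c d : X, a ≠ b → c ≠ d → c ∈ L a b → d ∈ L a b → L c d = L a b) :
    ∀ a b : X, a ≠ b → ∃! l, l ∈ h65Lines L ∧ a ∈ l ∧ b ∈ l := by
  intro a b hab
  refine ⟨L a b, ⟨⟨a, b, hab, rfl⟩, (h1 a b).1, (h1 a b).2⟩, ?_⟩
  rintro l ⟨⟨c, d, hcd, rfl⟩, hal, hbl⟩
  exact (h3 c d a b hcd hab hal hbl).symm

theorem h65_four {X : Type v} (L : X → X → Set X)
    (h2 : ∀ a b : X, a ≠ b → Nat.card (L a b) = 4) : ∀ l ∈ h65Lines L, l.ncard = 4 := by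
  rintro l ⟨a, b, hab, rfl⟩
  rw [← Nat.card_coe_set_eq]
  exact h2 a b hab

/-- (D7) -/
theorem affine_parallel {X : Type v} [Finite X] (hX : Nat.card X = 16) (L : X → X → Set X)
    (h1 : ∀ a b : X, a ∈ L a b ∧ b ∈ L a b)
    (h2 : ∀ a b : X, a ≠ b → Nat.card (L a b) = 4)
    (h3 : ∀ a b c d : X, a ≠ b → c ≠ d → c ∈ L a b → d ∈ L a b → L c d = L a b)
    (a b p : X) (hab : a ≠ b) (hp : p ∉ L a b) :
    ∃ q : X, q ≠ p ∧ Disjoint (L p q) (L a b) ∧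
      ∀ q' : X, q' ≠ p → Disjoint (L p q') (L a b) → L p q' = L p q := by
  have hL4 := h65_four L h2
  have huniq := h65_uniq L h1 h3
  have hl : L a b ∈ h65Lines L := ⟨a, b, hab, rfl⟩
  obtain ⟨m, hm, hpm, hml⟩ := exists_parallel hX hL4 huniq hl hp
  obtain ⟨c, d, hcd, rfl⟩ := hm
  have hcard : 1 < (L c d).ncard := by rw [hL4 _ ⟨c, d, hcd, rfl⟩]; norm_num
  obtain ⟨q, hq, hqp⟩ := Set.exists_ne_of_one_lt_ncard hcard p
  have hLpq : L p q = L c d := h3 c d p q hcd (Ne.symm hqp) hpm hq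
  refine ⟨q, hqp, by rw [hLpq]; exact hml, ?_⟩
  intro q' hq'p hdis
  rw [hLpq]
  exact parallel_unique hX hL4 huniq hl hp ⟨p, q', Ne.symm hq'p, rfl⟩ ⟨c, d, hcd, rfl⟩
    (h1 p q').1 hpm hdis hml

end Cfsg.Agent.Helper65.O5760
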