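import Mathlib

/-!
# O5760 (D8): parallelism is transitive (helper7 server, S0980)
-/

set_option autoImplicit false

namespace Cfsg.Agent.Helper65.O5760

universe u v

/-- (D8) -/
theorem par_trans {X : Type v} (L : X → X → Set X)
    (h1 : ∀ a b : X, a ∈ L a b ∧ b ∈ L a b)
    (h3 : ∀ a b c d : X, a ≠ b → c ≠ d → c ∈ L a b → d ∈ L a b → L c d = L a b)
    (hpar : ∀ a b p : X, a ≠ b → p ∉ L a b → ∃ q : X, q ≠ p ∧ Disjoint (L p q) (L a b) ∧
      ∀ q' : X, q' ≠ p → Disjoint (L p q') (L a b) → L p q' = L p q)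
    (a b c d e f : X) (hab : a ≠ b) (hcd : c ≠ d) (hef : e ≠ f)
    (h12 : L a b = L c d ∨ Disjoint (L a b) (L c d)) (h23 : L c d = L e f ∨ Disjoint (L c d) (L e f)) :
    L a b = L e f ∨ Disjoint (L a b) (L e f) := by
  rcases h12 with h12 | h12
  · rw [h12]; exact h23
  rcases h23 with h23 | h23
  · rw [← h23]; exact Or.inr h12
  by_cases heq : L a b = L e f
  · exact Or.inl heq
  right
  rw [Set.disjoint_left]
  intro p hpl hpn
  apply heq
  have hpm : p ∉ L c d := fun h => (Set.disjoint_left.1 h12) hpl h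
  obtain ⟨q, _, _, hq⟩ := hpar c d p hcd hpm
  -- a point of `L a b` other than `p`
  have key : ∀ a b : X, a ≠ b → p ∈ L a b → Disjoint (L a b) (L c d) → L a b = L p q := by
    intro a b hab hp hdis
    obtain ⟨q', hq'l, hq'p⟩ : ∃ q', q' ∈ L a b ∧ q' ≠ p := by
      by_cases hap : a = p
      · exact ⟨b, (h1 a b).2, fun h => hab (hap.trans h.symm)⟩
      · exact ⟨a, (h1 a b).1, hap⟩
    have hL : L p q' = L a b := h3 a b p q' hab (Ne.symm hq'p) hp hq'l
    rw [← hL]
    apply hq q' hq'p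
    rw [hL]; exact hdis
  rw [key a b hab hpl h12, key e f hef hpn h23.symm]

end Cfsg.Agent.Helper65.O5760
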