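import Mathlib
import Cfsg.Agent.Lib.Helper7.O5760Defs
import Cfsg.Agent.Lib.Helper65.AG24

/-!
# O5760 (D9): the stabilizer of a parallel class (helper7 server, S0980)
-/

set_option autoImplicit false
set_option linter.unusedVariables false

namespace Cfsg.Agent.Helper65.O5760

open Cfsg MulAction Cfsg.Agent.Helper7.O5760

universe u v

/-- (D9) -/
theorem exists_subgroup_index_le_five {G : Type u} [Group G] [Finite G] {X : Type v} [MulAction G X]
    (z : X → G) (h : Hyp G X z)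
    (hbasic : (∀ (g : G) (a b : X) (k : G), k ∈ K3 G a b → g * k * g⁻¹ ∈ K3 G (g • a) (g • b)) ∧
      (∀ (g : G) (a b c : X), c ∈ line G a b → g • c ∈ line G (g • a) (g • b)) ∧
      (∀ a b c d : X, c ∈ line G a b → d ∈ line G a b → K3 G a b ≤ K3 G c d) ∧
      (∀ a b : X, a ∈ line G a b ∧ b ∈ line G a b))
    (hline : ∀ a b c d : X, a ≠ b → c ≠ d → c ∈ line G a b → d ∈ line G a b →
      line G c d = line G a b)
    (hcard : ∀ a b : X, a ≠ b → Nat.card (line G a b) = 4)
    (hpar : ∀ a b p : X, a ≠ b → p ∉ line G a b → ∃ q : X, q ≠ p ∧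
      Disjoint (line G p q) (line G a b) ∧
      ∀ q' : X, q' ≠ p → Disjoint (line G p q') (line G a b) → line G p q' = line G p q)
    (htrans : ∀ a b c d e f : X, a ≠ b → c ≠ d → e ≠ f →
      (line G a b = line G c d ∨ Disjoint (line G a b) (line G c d)) →
      (line G c d = line G e f ∨ Disjoint (line G c d) (line G e f)) →
      (line G a b = line G e f ∨ Disjoint (line G a b) (line G e f))) :
    ∃ W : Subgroup G, W ≠ ⊤ ∧ W.index ≤ 5 := by
  have hX := h.cardX
  have hfin : Finite X := Nat.finite_of_card_ne_zero (by rw [hX]; norm_num)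
  set LL : Set (Set X) := {l | ∃ a b : X, a ≠ b ∧ l = line G a b} with hLL
  have hL4 : ∀ l ∈ LL, l.ncard = 4 := by
    rintro l ⟨a, b, hab, rfl⟩
    rw [← Nat.card_coe_set_eq]
    exact hcard a b hab
  have huniq : ∀ a b : X, a ≠ b → ∃! l, l ∈ LL ∧ a ∈ l ∧ b ∈ l := by
    intro a b hab
    refine ⟨line G a b, ⟨⟨a, b, hab, rfl⟩, (hbasic.2.2.2 a b).1, (hbasic.2.2.2 a b).2⟩, ?_⟩
    rintro l ⟨⟨c, d, hcd, rfl⟩, hal, hbl⟩
    exact (hline c d a b hcd hab hal hbl).symm
  have himage : ∀ (g : G) (a b : X), (fun x => g • x) '' line G a b = line G (g • a) (g • b) := by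
    intro g a b
    ext y
    constructor
    · rintro ⟨c, hc, rfl⟩
      exact hbasic.2.1 g a b c hc
    · intro hy
      refine ⟨g⁻¹ • y, ?_, smul_inv_smul g y⟩
      have := hbasic.2.1 g⁻¹ (g • a) (g • b) y hy
      rwa [inv_smul_smul, inv_smul_smul] at this
  have hinv : ∀ (g : G), ∀ l ∈ LL, (fun x => g • x) '' l ∈ LL := by
    rintro g l ⟨a, b, hab, rfl⟩
    exact ⟨g • a, g • b, fun h => hab (MulAction.injective g h), himage g a b⟩
  have hnt : Nontrivial X := by
    rw [← Finite.one_lt_card_iff_nontrivial, hX]; norm_num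
  obtain ⟨a0, b0, hab0⟩ := exists_pair_ne X
  have hl0 : line G a0 b0 ∈ LL := ⟨a0, b0, hab0, rfl⟩
  obtain ⟨K, _, hK5, hKmem⟩ :=
    Cfsg.Agent.Helper65.AG24.exists_subgroup_index_le_five (G := G) hX LL hL4 hinv huniq
      (line G a0 b0) hl0
  refine ⟨K, ?_, hK5⟩
  intro htop
  -- a point off the line
  have hne : line G a0 b0 ≠ Set.univ := by
    intro hu
    have h4 := hL4 _ hl0
    rw [hu, Set.ncard_univ, hX] at h4
    norm_num at h4
  obtain ⟨c, hc⟩ := (Set.ne_univ_iff_exists_notMem _).1 hne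
  have ha0 : a0 ∈ line G a0 b0 := (hbasic.2.2.2 a0 b0).1
  have ha0c : a0 ≠ c := fun hh => hc (hh ▸ ha0)
  obtain ⟨g, hga, hgb⟩ := h.twoTrans a0 b0 a0 c hab0 ha0c
  have hgK : g ∈ K := by rw [htop]; exact Subgroup.mem_top g
  rw [hKmem g, himage g a0 b0, hga, hgb] at hgK
  rcases hgK with hgK | hgK
  · apply hc
    rw [← hgK]
    exact (hbasic.2.2.2 a0 c).2
  · exact (Set.disjoint_left.1 hgK) (hbasic.2.2.2 a0 c).1 ha0

end Cfsg.Agent.Helper65.O5760
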