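import Mathlib
import Cfsg.Agent.S1017
import Cfsg.Agent.Lib.Helper17.Simple
import Cfsg.Agent.Lib.Helper17.Sieve

/-!
# O6232 (N5376): no simple group of order 5376 = 2^8 * 3 * 7 (helper17 server, S0983)

`n_7 = 64`, `|N(P7)| = 84`, `N/C ∣ 6`, so `|C(P7)|` is even: an involution `u` commutes with `y` of order 7.
On the 21 Sylow 2-subgroups `y` has no fixed point (`7 ∤ 256`), so `|Fix u| ≡ 0 mod 7`; and
`|Fix u| ≡ 21 ≡ 1 mod 4`: `|Fix u| = 21`, so `u` acts trivially.
-/

set_option autoImplicit false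

namespace Cfsg.Agent.Helper65.O6232

open Cfsg MulAction Cfsg.Agent.Helper17

universe u

theorem no_5376 {G : Type u} [Group G] [Finite G] [IsSimpleGroup G] : Nat.card G ≠ 5376 := by
  intro hG
  have hna : ¬ IsMulCommutative G := not_comm_of_not_prime (by rw [hG]; norm_num)
  have h7 : Fact (Nat.Prime 7) := ⟨by norm_num⟩
  have h2 : Fact (Nat.Prime 2) := ⟨Nat.prime_two⟩
  -- Sylow 7
  have hG7 : Nat.card G = 7 ^ 1 * 768 := by rw [hG]; norm_num
  obtain ⟨hd7, hm7⟩ := sylow_count (G := G) (p := 7) hG7 (by norm_num)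
  have hne7 := sylow_count_ne_one (G := G) (p := 7) hG7 (by norm_num) one_ne_zero (by norm_num)
  have hfact7 := sylow_count_factorial (p := 7) hna hne7
  have hn7 : Nat.card (Sylow 7 G) = 64 := by
    have hle : Nat.card (Sylow 7 G) ≤ 768 := Nat.le_of_dvd (by norm_num) hd7
    rw [hG] at hfact7
    generalize Nat.card (Sylow 7 G) = n at *
    interval_cases n <;> first | omega | (exfalso; revert hfact7; decide)
  obtain ⟨P⟩ : Nonempty (Sylow 7 G) := inferInstance
  have hP : Nat.card (P : Subgroup G) = 7 := by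
    have := sylow_card_eq P hG7 (by norm_num)
    simpa using this
  have hNP : Nat.card ↥(Subgroup.normalizer ((P : Subgroup G) : Set G)) = 84 := by
    have := card_normalizer_mul_sylow_count P
    rw [hn7, hG] at this
    omega
  obtain ⟨k, c, hk, hk1, hC, hN⟩ :=
    Cfsg.Agent.S1017.normalizer_structure P hP (by rw [hG]; norm_num)
  have hCeven : 2 ∣ Nat.card (Subgroup.centralizer ((P : Subgroup G) : Set G)) := by
    rw [hNP] at hN
    have hk6 : k ≤ 6 := Nat.le_of_dvd (by norm_num) hk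
    rw [hC]
    have : 2 ∣ c := by
      interval_cases k <;> omega
    exact Dvd.dvd.mul_left this 7
  -- an involution in C(P)
  obtain ⟨u', hu'⟩ := exists_prime_orderOf_dvd_card'
    (G := ↥(Subgroup.centralizer ((P : Subgroup G) : Set G))) 2 hCeven
  obtain ⟨u, hudef⟩ : ∃ u : G, u = (u' : G) := ⟨_, rfl⟩
  have hu2 : orderOf u = 2 := by rw [hudef, Subgroup.orderOf_coe, hu']
  have huC : u ∈ Subgroup.centralizer ((P : Subgroup G) : Set G) := hudef ▸ u'.2
  have hu1 : u ≠ 1 := Cfsg.Agent.S1017.ne_one_of_orderOf_prime u (by norm_num) hu2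
  -- a generator y of P
  obtain ⟨y', hy'⟩ := exists_prime_orderOf_dvd_card' (G := ↥(P : Subgroup G)) 7 (by rw [hP])
  obtain ⟨y, hydef⟩ : ∃ y : G, y = (y' : G) := ⟨_, rfl⟩
  have hy7 : orderOf y = 7 := by rw [hydef, Subgroup.orderOf_coe]; exact hy'
  have hyP : y ∈ (P : Subgroup G) := hydef ▸ y'.2
  have hcomm : Commute y u := Subgroup.mem_centralizer_iff.1 huC y hyP
  -- Sylow 2
  have hG2 : Nat.card G = 2 ^ 8 * 21 := by rw [hG]; norm_num
  obtain ⟨hd2, hm2⟩ := sylow_count (G := G) (p := 2) hG2 (by norm_num)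
  have hne2 := sylow_count_ne_one (G := G) (p := 2) hG2 (by norm_num) (by norm_num) (by norm_num)
  have hfact2 := sylow_count_factorial (p := 2) hna hne2
  have hn2 : Nat.card (Sylow 2 G) = 21 := by
    have hle : Nat.card (Sylow 2 G) ≤ 21 := Nat.le_of_dvd (by norm_num) hd2
    rw [hG] at hfact2
    generalize Nat.card (Sylow 2 G) = n at *
    interval_cases n <;> first | omega | (exfalso; revert hfact2; decide)
  -- y has no fixed point on Syl_2
  have hyfix : fixedBy (Sylow 2 G) y = ∅ := by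
    rw [Set.eq_empty_iff_forall_notMem]
    intro Q hQ
    rw [mem_fixedBy] at hQ
    have hyN : y ∈ Subgroup.normalizer ((Q : Subgroup G) : Set G) :=
      Sylow.smul_eq_iff_mem_normalizer.mp hQ
    have hNQ : Nat.card ↥(Subgroup.normalizer ((Q : Subgroup G) : Set G)) = 256 := by
      have := card_normalizer_mul_sylow_count Q
      rw [hn2, hG] at this
      omega
    have hdvd : orderOf y ∣ 256 := by
      have h1 : orderOf (⟨y, hyN⟩ : ↥(Subgroup.normalizer ((Q : Subgroup G) : Set G))) ∣ 256 := by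
        rw [← hNQ]; exact orderOf_dvd_natCard _
      rwa [Subgroup.orderOf_mk] at h1
    rw [hy7] at hdvd
    revert hdvd; decide
  have hmod7 := Cfsg.Agent.S1017.card_fixedBy_modEq_inter (α := Sylow 2 G) y u hcomm hy7
  rw [hyfix, Set.inter_empty] at hmod7
  have hmod4 := Cfsg.Agent.S1017.card_fixedBy_mod_four (G := G) (by rw [hG]; norm_num)
    (α := Sylow 2 G) u hu2
  have hle := Cfsg.Agent.S1017.card_fixedBy_le (α := Sylow 2 G) u
  have hne := Cfsg.Agent.S1017.card_fixedBy_ne (α := Sylow 2 G)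
    (Cfsg.Agent.S1017.sylow_action_nontrivial (p := 2) (by rw [hn2]; norm_num)) u hu1
  rw [hn2] at hmod4 hle hne
  have h0 : Nat.card ↥(∅ : Set (Sylow 2 G)) = 0 := by simp
  rw [h0] at hmod7
  unfold Nat.ModEq at hmod7 hmod4
  omega

/-- The same in the `NoSimple` shape. -/
theorem noSimple_5376.{v} : Cfsg.Agent.Helper17.Sieve.NoSimple.{v} 5376 := by
  intro G _ _ _ _ hG
  exact no_5376 hG

end Cfsg.Agent.Helper65.O6232
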