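import Mathlib
import Cfsg.Prelude.Def_FusionSystem
import Cfsg.Agent.Lib.Helper87.Om7Defs

set_option autoImplicit false

namespace Cfsg.Agent.Helper65.Om7

open Matrix QuadraticMap Cfsg.Agent.Helper36.QuadInv Cfsg.Agent.Helper36.OmegaTrans
  Cfsg.Agent.Helper43 Cfsg.Agent.Helper87.Om7

theorem h65c3_exists_two : ∀ k l m : Fin 7, ∃ p q : Fin 7,
    p ≠ q ∧ p ≠ k ∧ p ≠ l ∧ p ≠ m ∧ q ≠ k ∧ q ≠ l ∧ q ≠ m := by decide

theorem h65c3_prod4 {G : Type*} [Group G] (a b d : G) (haa : a * a = 1) (hba : b * a = a * b) :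
    (a * b) * (a * d) = b * d := by
  calc (a * b) * (a * d) = a * ((b * a) * d) := by simp only [mul_assoc]
    _ = a * ((a * b) * d) := by rw [hba]
    _ = (a * a) * (b * d) := by simp only [mul_assoc]
    _ = b * d := by rw [haa, one_mul]

theorem h65c3_prod6 {G : Type*} [Group G] (a b e e' : G) (haa : a * a = 1) (hbb : b * b = 1)
    (hba : b * a = a * b) (hea : e * a = a * e) (heb : e * b = b * e) :
    (a * b * e) * (a * b * e') = e * e' := by
  have hX : (a * b) * (a * b) = 1 := by rw [h65c3_prod4 a b b haa hba, hbb]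
  have heX : e * (a * b) = (a * b) * e := by
    calc e * (a * b) = (e * a) * b := by simp only [mul_assoc]
      _ = (a * e) * b := by rw [hea]
      _ = a * (e * b) := by simp only [mul_assoc]
      _ = a * (b * e) := by rw [heb]
      _ = (a * b) * e := by simp only [mul_assoc]
  calc (a * b * e) * (a * b * e') = (a * b) * ((e * (a * b)) * e') := by simp only [mul_assoc]
    _ = (a * b) * (((a * b) * e) * e') := by rw [heX]
    _ = ((a * b) * (a * b)) * (e * e') := by simp only [mul_assoc]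
    _ = e * e' := by rw [hX, one_mul]

theorem h65c3_conj_mul {G : Type*} [Group G] (g x y : G) :
    g * (x * y) * g⁻¹ = (g * x * g⁻¹) * (g * y * g⁻¹) := by
  simp only [mul_assoc, inv_mul_cancel_left]

variable {F : Type*} [Field F] [Fintype F] [DecidableEq F] {ι : Type} [Fintype ι] [DecidableEq ι]
variable {Q : QuadraticForm F (ι → F)} {f : Fin 7 → ι → F}

/-- (C3) with the API facts as hypotheses -/
theorem h65c3_core (T : Subgroup (OG F ⇑Q))
    (hWΩ : ∀ a b p q : Fin 7, a ≠ b → p ≠ q → W Q f a b p q ∈ Cfsg.Omega F ⇑Q)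
    (hWm : ∀ a b p q : Fin 7, a ≠ b → p ≠ q → a ≠ p → a ≠ q → b ≠ p → b ≠ q →
      IsMono Q f (W Q f a b p q) (Equiv.swap a b * Equiv.swap p q))
    (hconj : ∀ (g : OG F ⇑Q) (σ : Equiv.Perm (Fin 7)), IsMono Q f g σ → ∀ i j : Fin 7, i ≠ j →
      g * D Q f i j * g⁻¹ = D Q f (σ i) (σ j))
    (hDm : ∀ i j : Fin 7, i ≠ j → IsMono Q f (D Q f i j) 1)
    (hDsq : ∀ i j : Fin 7, i ≠ j → D Q f i j * D Q f i j = 1)
    (hDcomm : ∀ i j k l : Fin 7, i ≠ j → k ≠ l → D Q f i j * D Q f k l = D Q f k l * D Q f i j)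
    (hDsymm : ∀ i j : Fin 7, i ≠ j → D Q f i j = D Q f j i)
    (hDD : ∀ i j k : Fin 7, i ≠ j → i ≠ k → j ≠ k → D Q f i k * D Q f j k = D Q f i j)
    (hcl : ∀ t ∈ T, ∀ g, g ∈ Cfsg.Omega F ⇑Q → g * t * g⁻¹ ∈ mono Q f → g * t * g⁻¹ ∈ T)
    (hz : D Q f 0 1 * D Q f 2 3 ∈ T ∨ D Q f 4 5 ∈ T ∨
      D Q f 0 1 * D Q f 2 3 * D Q f 4 5 ∈ T) :
    ∀ i j : Fin 7, i ≠ j → D Q f i j ∈ T := by
  have hDmono : ∀ i j : Fin 7, i ≠ j → D Q f i j ∈ mono Q f :=
    fun i j h => ⟨1, P16.one_mem, hDm i j h⟩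
  have step : ∀ (a b p q : Fin 7), a ≠ b → p ≠ q → a ≠ p → a ≠ q → b ≠ p → b ≠ q →
      ∀ i j : Fin 7, i ≠ j → D Q f i j ∈ T →
        D Q f ((Equiv.swap a b * Equiv.swap p q) i) ((Equiv.swap a b * Equiv.swap p q) j) ∈ T := by
    intro a b p q hab hpq hap haq hbp hbq i j hij hD
    have h1 := hconj _ _ (hWm a b p q hab hpq hap haq hbp hbq) i j hij
    have hne : (Equiv.swap a b * Equiv.swap p q) i ≠ (Equiv.swap a b * Equiv.swap p q) j :=
      fun h => hij ((Equiv.swap a b * Equiv.swap p q).injective h)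
    have h2 := hcl _ hD (W Q f a b p q) (hWΩ a b p q hab hpq)
      (by rw [h1]; exact hDmono _ _ hne)
    rwa [h1] at h2
  have all_of_one : ∀ k l : Fin 7, k ≠ l → D Q f k l ∈ T →
      ∀ i j : Fin 7, i ≠ j → D Q f i j ∈ T := by
    intro k l hkl hD
    have hk : ∀ m : Fin 7, m ≠ k → D Q f k m ∈ T := by
      intro m hmk
      by_cases hml : m = l
      · subst hml; exact hD
      · obtain ⟨p, q, hpq, hpk, hpl, hpm, hqk, hql, hqm⟩ := h65c3_exists_two k l m
        have h1 := step l m p q (Ne.symm hml) hpq (Ne.symm hpl) (Ne.symm hql) (Ne.symm hpm)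
          (Ne.symm hqm) k l hkl hD
        have e1 : (Equiv.swap l m * Equiv.swap p q) k = k := by
          rw [Equiv.Perm.mul_apply, Equiv.swap_apply_of_ne_of_ne (Ne.symm hpk) (Ne.symm hqk),
            Equiv.swap_apply_of_ne_of_ne hkl (Ne.symm hmk)]
        have e2 : (Equiv.swap l m * Equiv.swap p q) l = m := by
          rw [Equiv.Perm.mul_apply, Equiv.swap_apply_of_ne_of_ne (Ne.symm hpl) (Ne.symm hql),
            Equiv.swap_apply_left]
        rwa [e1, e2] at h1
    intro i j hij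
    by_cases hik : i = k
    · subst hik; exact hk j (Ne.symm hij)
    · by_cases hjk : j = k
      · subst hjk; rw [hDsymm i j hij]; exact hk i hik
      · rw [← hDD i j k hij hik hjk, hDsymm i k hik, hDsymm j k hjk]
        exact T.mul_mem (hk i hik) (hk j hjk)
  rcases hz with h | h | h
  · -- `D01 * D23 ∈ T`: conjugate by `W 3 4 5 6`
    have hW := hWm 3 4 5 6 (by decide) (by decide) (by decide) (by decide) (by decide) (by decide)
    have h1 : W Q f 3 4 5 6 * (D Q f 0 1 * D Q f 2 3) * (W Q f 3 4 5 6)⁻¹ =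
        D Q f 0 1 * D Q f 2 4 := by
      rw [h65c3_conj_mul, hconj _ _ hW 0 1 (by decide), hconj _ _ hW 2 3 (by decide)]
      rfl
    have h2 := hcl _ h (W Q f 3 4 5 6) (hWΩ 3 4 5 6 (by decide) (by decide))
      (by rw [h1]; exact (mono Q f).mul_mem (hDmono 0 1 (by decide)) (hDmono 2 4 (by decide)))
    rw [h1] at h2
    have h3 := T.mul_mem h h2
    rw [h65c3_prod4 _ _ _ (hDsq 0 1 (by decide)) (hDcomm 2 3 0 1 (by decide) (by decide)),
      hDsymm 2 3 (by decide), hDsymm 2 4 (by decide), hDD 3 4 2 (by decide) (by decide) (by decide)]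
      at h3
    exact all_of_one 3 4 (by decide) h3
  · exact all_of_one 4 5 (by decide) h
  · -- `D01 * D23 * D45 ∈ T`: conjugate by `W 0 1 5 6`
    have hW := hWm 0 1 5 6 (by decide) (by decide) (by decide) (by decide) (by decide) (by decide)
    have h1 : W Q f 0 1 5 6 * (D Q f 0 1 * D Q f 2 3 * D Q f 4 5) * (W Q f 0 1 5 6)⁻¹ =
        D Q f 0 1 * D Q f 2 3 * D Q f 4 6 := by
      rw [h65c3_conj_mul, h65c3_conj_mul, hconj _ _ hW 0 1 (by decide),
        hconj _ _ hW 2 3 (by decide), hconj _ _ hW 4 5 (by decide)]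
      have e : D Q f ((Equiv.swap (0 : Fin 7) 1 * Equiv.swap 5 6 : Equiv.Perm (Fin 7)) 0)
          ((Equiv.swap (0 : Fin 7) 1 * Equiv.swap 5 6 : Equiv.Perm (Fin 7)) 1) = D Q f 1 0 := rfl
      rw [e, hDsymm 1 0 (by decide)]
      rfl
    have h2 := hcl _ h (W Q f 0 1 5 6) (hWΩ 0 1 5 6 (by decide) (by decide))
      (by rw [h1]; exact (mono Q f).mul_mem ((mono Q f).mul_mem (hDmono 0 1 (by decide))
        (hDmono 2 3 (by decide))) (hDmono 4 6 (by decide)))
    rw [h1] at h2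
    have h3 := T.mul_mem h h2
    rw [h65c3_prod6 _ _ _ _ (hDsq 0 1 (by decide)) (hDsq 2 3 (by decide))
      (hDcomm 2 3 0 1 (by decide) (by decide)) (hDcomm 4 5 0 1 (by decide) (by decide))
      (hDcomm 4 5 2 3 (by decide) (by decide)),
      hDsymm 4 5 (by decide), hDsymm 4 6 (by decide), hDD 5 6 4 (by decide) (by decide) (by decide)]
      at h3
    exact all_of_one 5 6 (by decide) h3

end Cfsg.Agent.Helper65.Om7
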