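import Mathlib
import Cfsg.Prelude.Def_FusionSystem
import Cfsg.Agent.Lib.Helper87.Om7Defs
import Cfsg.Agent.Lib.Helper30.Om7API2a
import Cfsg.Agent.Lib.Helper30.Om7MONO
import Cfsg.Agent.Lib.Helper46.Om7API2b
import Cfsg.Agent.Lib.Helper65.Om7C3Core

/-!
# helper87 OM7 server (S2647): piece (C3) `E_le_of_central`, name and statement verbatim

`h65c3_core` (file `Om7C3Core`) with the API facts supplied by the landed pieces
(API2a) and (MONO) of helper30 and (API2b) of helper46.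
-/

set_option autoImplicit false

namespace Cfsg.Agent.Helper65.Om7

open Matrix QuadraticMap Cfsg.Agent.Helper36.QuadInv Cfsg.Agent.Helper36.OmegaTrans
  Cfsg.Agent.Helper43 Cfsg.Agent.Helper87.Om7

variable {F : Type*} [Field F] [Fintype F] [DecidableEq F] {ι : Type} [Fintype ι] [DecidableEq ι]
variable {Q : QuadraticForm F (ι → F)} {c : F} {f : Fin 7 → ι → F}

/-- (C3) -/
theorem E_le_of_central (hF : Frame Q c f) (T : Subgroup (OG F ⇑Q))
    (hcl : ∀ t ∈ T, ∀ g, g ∈ Cfsg.Omega F ⇑Q → g * t * g⁻¹ ∈ mono Q f → g * t * g⁻¹ ∈ T)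
    (hz : D Q f 0 1 * D Q f 2 3 ∈ T ∨ D Q f 4 5 ∈ T ∨
      D Q f 0 1 * D Q f 2 3 * D Q f 4 5 ∈ T) :
    ∀ i j : Fin 7, i ≠ j → D Q f i j ∈ T := by
  exact h65c3_core T
    (fun a b p q hab hpq => Cfsg.Agent.Helper46.Om7.W_mem_Omega hF hab hpq)
    (fun a b p q hab hpq hap haq hbp hbq =>
      Cfsg.Agent.Helper30.Om7.W_isMono hF hab hpq hap haq hbp hbq)
    (fun g σ hg i j hij => Cfsg.Agent.Helper30.Om7.isMono_conj_D hF hg hij)
    (fun i j hij => Cfsg.Agent.Helper30.Om7.D_isMono hF hij)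
    (fun i j hij => Cfsg.Agent.Helper30.Om7.D_mul_self hF hij)
    (fun i j k l hij hkl => Cfsg.Agent.Helper30.Om7.D_comm hF hij hkl)
    (fun i j hij => Cfsg.Agent.Helper30.Om7.D_symm hF hij)
    (fun i j k hij hik hjk => Cfsg.Agent.Helper30.Om7.D_mul_D hF hij hik hjk)
    hcl hz

end Cfsg.Agent.Helper65.Om7
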