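import Mathlib
import Cfsg.Prelude.Def_OddOrderChar
import Cfsg.Prelude.Def_OddOrderLocal
import Cfsg.Agent.Lib.Helper25.Dade

/-!
# Piece (F1) for S1542 (helper29 mini server PF1542): the Dade map is ordinary induction when all
the Dade subgroups are trivial and `A` is a TI-set with normaliser inside `L`.
-/

set_option autoImplicit false

namespace Cfsg.Agent.Helper65.PF1542

open Cfsg

theorem h65_extendByZero_mem {G : Type*} [Group G] (H : Subgroup G) (θ : H → ℂ) (g : G)
    (hg : g ∈ H) : extendByZero H θ g = θ ⟨g, hg⟩ := by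
  unfold extendByZero
  exact Subtype.val_injective.extend_apply θ 0 ⟨g, hg⟩

theorem h65_extendByZero_not_mem {G : Type*} [Group G] (H : Subgroup G) (θ : H → ℂ) (g : G)
    (hg : g ∉ H) : extendByZero H θ g = 0 := by
  unfold extendByZero
  rw [Function.extend_apply']
  · rfl
  · rintro ⟨a, rfl⟩; exact hg a.2

/-- (F1) When all the Dade subgroups `R a` (`a ∈ A`) are trivial and `A` is a TI-set with normaliser
inside `L` (`hN`), the Dade map is ordinary induction on class functions of `L` supported on `A`. -/
theorem dade_eq_indFun {G : Type*} [Group G] [Fintype G] (A : Set G) (L : Subgroup G) [Fintype L]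
    (R : G → Subgroup G) (hD : DadeHypothesis A L R) (hR : ∀ a ∈ A, R a = ⊥)
    (hN : ∀ a ∈ A, ∀ z : G, z * a * z⁻¹ ∈ A → z ∈ L)
    (α : L → ℂ) (hα : IsClassFunction L α) (hαA : ∀ x : L, (x : G) ∉ A → α x = 0) :
    dadeIsometry A L R α = indFun L α := by
  classical
  funext g
  by_cases hg : ∃ a : ↥L, (a : G) ∈ A ∧ ∃ x : G, ∃ u ∈ R (a : G), x * g * x⁻¹ = (a : G) * u
  · obtain ⟨a, ha, x, u, hu, hx⟩ := hg
    rw [Cfsg.Agent.Helper25.dadeIsometry_apply hD α hα a ha hu hx]
    have hu1 : u = 1 := by
      have := hR _ ha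
      rw [this] at hu
      exact Subgroup.mem_bot.mp hu
    subst hu1
    rw [mul_one] at hx
    have hg' : g = x⁻¹ * (a : G) * x := by rw [← hx]; group
    unfold indFun
    have key : ∀ z : G, extendByZero L α (z⁻¹ * (a : G) * z) = if z ∈ L then α a else 0 := by
      intro z
      by_cases hz : z ∈ L
      · rw [if_pos hz]
        have hmem : z⁻¹ * (a : G) * z ∈ L := L.mul_mem (L.mul_mem (L.inv_mem hz) a.2) hz
        rw [h65_extendByZero_mem L α _ hmem]
        have := hα a ((⟨z, hz⟩ : L)⁻¹)
        rw [← this]
        congr 1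
        apply Subtype.ext
        simp
      · rw [if_neg hz]
        by_cases hmem : z⁻¹ * (a : G) * z ∈ L
        · rw [h65_extendByZero_mem L α _ hmem]
          apply hαA
          intro hA
          apply hz
          have := hN _ ha z⁻¹ (by simpa using hA)
          simpa using this
        · exact h65_extendByZero_not_mem L α _ hmem
    have hsum : ∑ y : G, extendByZero L α (y⁻¹ * g * y)
        = ∑ z : G, extendByZero L α (z⁻¹ * (a : G) * z) := by
      apply Fintype.sum_equiv (Equiv.mulLeft x)
      intro y
      simp only [Equiv.coe_mulLeft]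
      rw [hg']
      congr 1
      group
    rw [hsum]
    simp_rw [key]
    rw [Finset.sum_ite, Finset.sum_const_zero, add_zero, Finset.sum_const, nsmul_eq_mul]
    have hcard : (Finset.univ.filter (fun z : G => z ∈ L)).card = Nat.card L := by
      rw [Nat.card_eq_fintype_card, Fintype.card_subtype]
    rw [hcard]
    have hne : (Nat.card L : ℂ) ≠ 0 := by
      exact_mod_cast (Nat.card_pos).ne'
    field_simp
  · rw [Cfsg.Agent.Helper25.dadeIsometry_apply_of_not α hg]
    unfold indFun
    have h0 : ∀ y : G, extendByZero L α (y⁻¹ * g * y) = 0 := by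
      intro y
      by_cases hmem : y⁻¹ * g * y ∈ L
      · rw [h65_extendByZero_mem L α _ hmem]
        apply hαA
        intro hA
        apply hg
        refine ⟨⟨_, hmem⟩, hA, y⁻¹, 1, Subgroup.one_mem _, ?_⟩
        simp
      · exact h65_extendByZero_not_mem L α _ hmem
    simp [h0]

end Cfsg.Agent.Helper65.PF1542
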