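import Mathlib
import Cfsg.Prelude.Def_KGroupFacts

set_option autoImplicit false

namespace Cfsg.Agent.Helper65

open scoped commutatorElement
open scoped TensorProduct

universe u v w

/-- a bi-additive map on a pair of groups with values in an additive commutative group -/
structure BiAdd (X₁ : Type u) (X₂ : Type v) (T : Type w) [Group X₁] [Group X₂] [AddCommGroup T] where
  f : X₁ → X₂ → T
  map_mul_left : ∀ x x' y, f (x * x') y = f x y + f x' y
  map_mul_right : ∀ x y y', f x (y * y') = f x y + f x y'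

namespace BiAdd

variable {X₁ : Type u} {X₂ : Type v} {T : Type w} [Group X₁] [Group X₂] [AddCommGroup T]
  (β : BiAdd X₁ X₂ T)

theorem map_one_left (y : X₂) : β.f 1 y = 0 := by
  have := β.map_mul_left 1 1 y
  rw [mul_one] at this
  exact left_eq_add.mp this

theorem map_one_right (x : X₁) : β.f x 1 = 0 := by
  have := β.map_mul_right x 1 1
  rw [mul_one] at this
  exact left_eq_add.mp this

theorem map_inv_left (x : X₁) (y : X₂) : β.f x⁻¹ y = -β.f x y := by
  have := β.map_mul_left x x⁻¹ y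
  rw [mul_inv_cancel, map_one_left] at this
  exact eq_neg_of_add_eq_zero_right this.symm

theorem map_inv_right (x : X₁) (y : X₂) : β.f x y⁻¹ = -β.f x y := by
  have := β.map_mul_right x y y⁻¹
  rw [mul_inv_cancel, map_one_right] at this
  exact eq_neg_of_add_eq_zero_right this.symm

end BiAdd

/-- the twisted product `X₁ × X₂ × T` with `(x₁,x₂,t)(y₁,y₂,s) = (x₁y₁, x₂y₂, t+s+β(x₁,y₂))` -/
@[ext]
structure Tw {X₁ : Type u} {X₂ : Type v} {T : Type w} [Group X₁] [Group X₂] [AddCommGroup T]
    (β : BiAdd X₁ X₂ T) where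
  a : X₁
  b : X₂
  c : T

namespace Tw

variable {X₁ : Type u} {X₂ : Type v} {T : Type w} [Group X₁] [Group X₂] [AddCommGroup T]
  {β : BiAdd X₁ X₂ T}

instance : Mul (Tw β) := ⟨fun x y => ⟨x.a * y.a, x.b * y.b, x.c + y.c + β.f x.a y.b⟩⟩
instance : One (Tw β) := ⟨⟨1, 1, 0⟩⟩
instance : Inv (Tw β) := ⟨fun x => ⟨x.a⁻¹, x.b⁻¹, -x.c + β.f x.a x.b⟩⟩

@[simp] theorem mul_a (x y : Tw β) : (x * y).a = x.a * y.a := rfl
@[simp] theorem mul_b (x y : Tw β) : (x * y).b = x.b * y.b := rfl
@[simp] theorem mul_c (x y : Tw β) : (x * y).c = x.c + y.c + β.f x.a y.b := rfl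
@[simp] theorem one_a : (1 : Tw β).a = 1 := rfl
@[simp] theorem one_b : (1 : Tw β).b = 1 := rfl
@[simp] theorem one_c : (1 : Tw β).c = 0 := rfl
@[simp] theorem inv_a (x : Tw β) : (x⁻¹).a = x.a⁻¹ := rfl
@[simp] theorem inv_b (x : Tw β) : (x⁻¹).b = x.b⁻¹ := rfl
@[simp] theorem inv_c (x : Tw β) : (x⁻¹).c = -x.c + β.f x.a x.b := rfl

instance : Group (Tw β) where
  mul_assoc x y z := by
    ext
    · simp [mul_assoc]
    · simp [mul_assoc]
    · simp only [mul_a, mul_b, mul_c, β.map_mul_left, β.map_mul_right]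
      abel
  one_mul x := by
    ext <;> simp [β.map_one_left]
  mul_one x := by
    ext <;> simp [β.map_one_right]
  inv_mul_cancel x := by
    ext
    · simp
    · simp
    · simp only [mul_c, inv_a, inv_c, one_c, β.map_inv_left]
      abel

/-- the three inclusions -/
def inl (β : BiAdd X₁ X₂ T) : X₁ →* Tw β where
  toFun x := ⟨x, 1, 0⟩
  map_one' := rfl
  map_mul' x y := by ext <;> simp [β.map_one_right]

def inm (β : BiAdd X₁ X₂ T) : X₂ →* Tw β where
  toFun x := ⟨1, x, 0⟩
  map_one' := rfl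
  map_mul' x y := by ext <;> simp [β.map_one_left]

def inr (β : BiAdd X₁ X₂ T) : Multiplicative T →* Tw β where
  toFun t := ⟨1, 1, Multiplicative.toAdd t⟩
  map_one' := rfl
  map_mul' x y := by ext <;> simp [β.map_one_left]

theorem commutator_inl_inm (x : X₁) (y : X₂) :
    ⁅inl β x, inm β y⁆ = inr β (Multiplicative.ofAdd (β.f x y)) := by
  rw [commutatorElement_def]
  ext
  · simp [inl, inm, inr]
  · simp [inl, inm, inr]
  · simp [inl, inm, inr, β.map_one_left, β.map_one_right, β.map_inv_left, β.map_inv_right]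

theorem eq_mul_mul (x : Tw β) :
    x = inl β x.a * inm β x.b * inr β (Multiplicative.ofAdd (x.c - β.f x.a x.b)) := by
  ext
  · simp [inl, inm, inr]
  · simp [inl, inm, inr]
  · simp [inl, inm, inr, β.map_one_left, β.map_one_right]

end Tw

end Cfsg.Agent.Helper65
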