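import Mathlib
import Cfsg.Agent.Lib.Helper65.TwistedProd

set_option autoImplicit false

namespace Cfsg.Agent.Helper65

open scoped commutatorElement
open scoped TensorProduct

universe u v

section

variable (Q₁ : Type u) (Q₂ : Type v) [Group Q₁] [Group Q₂]

/-- the tensor product of the abelianizations -/
abbrev AbTensor : Type (max u v) :=
  Additive (Abelianization Q₁) ⊗[ℤ] Additive (Abelianization Q₂)

instance abTensor_finite [Finite Q₁] [Finite Q₂] : Finite (AbTensor Q₁ Q₂) := by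
  have f1 : Finite (Additive (Abelianization Q₁)) :=
    Finite.of_equiv (Abelianization Q₁) Additive.ofMul
  have f2 : Finite (Additive (Abelianization Q₂)) :=
    Finite.of_equiv (Abelianization Q₂) Additive.ofMul
  have m1 : Module.Finite ℤ (Additive (Abelianization Q₁)) := Module.Finite.of_finite
  have m2 : Module.Finite ℤ (Additive (Abelianization Q₂)) := Module.Finite.of_finite
  have m3 : Module.Finite ℤ (AbTensor Q₁ Q₂) := Module.Finite.tensorProduct ℤ _ _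
  apply Module.finite_of_fg_torsion
  intro x
  have hn : (Nat.card (Abelianization Q₁) : ℤ) ≠ 0 := by
    exact_mod_cast Nat.card_pos.ne'
  refine ⟨⟨(Nat.card (Abelianization Q₁) : ℤ), mem_nonZeroDivisors_of_ne_zero hn⟩, ?_⟩
  show (Nat.card (Abelianization Q₁) : ℤ) • x = 0
  induction x using TensorProduct.induction_on with
  | zero => simp
  | tmul a b =>
    have h0 : Nat.card (Abelianization Q₁) • a = 0 := by
      have h := pow_card_eq_one' (G := Abelianization Q₁) (x := Additive.toMul a)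
      exact congrArg Additive.ofMul h
    have h1 : ((Nat.card (Abelianization Q₁) : ℤ) • a) ⊗ₜ[ℤ] b = 0 := by
      rw [natCast_zsmul, h0, TensorProduct.zero_tmul]
    rw [← h1, TensorProduct.smul_tmul']
  | add a b ha hb => rw [smul_add, ha, hb, add_zero]

end

section

variable {Q₁ : Type u} {Q₂ : Type v} [Group Q₁] [Group Q₂]
  {Γ₁ : Type u} {Γ₂ : Type v} [Group Γ₁] [Group Γ₂] (σ₁ : Γ₁ →* Q₁) (σ₂ : Γ₂ →* Q₂)

/-- the bi-additive map `(x,y) ↦ [σ₁ x] ⊗ [σ₂ y]` -/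
def tensorBiAdd : BiAdd Γ₁ Γ₂ (AbTensor Q₁ Q₂) where
  f x y := Additive.ofMul (Abelianization.of (σ₁ x)) ⊗ₜ[ℤ] Additive.ofMul (Abelianization.of (σ₂ y))
  map_mul_left x x' y := by
    rw [map_mul, map_mul, ofMul_mul, TensorProduct.add_tmul]
  map_mul_right x y y' := by
    rw [map_mul, map_mul, ofMul_mul, TensorProduct.tmul_add]

theorem tensorBiAdd_f (x : Γ₁) (y : Γ₂) : (tensorBiAdd σ₁ σ₂).f x y =
    Additive.ofMul (Abelianization.of (σ₁ x)) ⊗ₜ[ℤ] Additive.ofMul (Abelianization.of (σ₂ y)) := rfl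

theorem tensorBiAdd_ker_left (x : Γ₁) (hx : σ₁ x = 1) (y : Γ₂) : (tensorBiAdd σ₁ σ₂).f x y = 0 := by
  rw [tensorBiAdd_f, hx, map_one, ofMul_one, TensorProduct.zero_tmul]

theorem tensorBiAdd_ker_right (x : Γ₁) (y : Γ₂) (hy : σ₂ y = 1) : (tensorBiAdd σ₁ σ₂).f x y = 0 := by
  rw [tensorBiAdd_f, hy, map_one, ofMul_one, TensorProduct.tmul_zero]

/-- the product extension -/
abbrev ProdExt : Type (max u v) := Tw (tensorBiAdd σ₁ σ₂)

/-- the projection of the product extension -/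
def prodProj : ProdExt σ₁ σ₂ →* Q₁ × Q₂ where
  toFun x := (σ₁ x.a, σ₂ x.b)
  map_one' := by simp
  map_mul' x y := by simp

theorem prodProj_apply (x : ProdExt σ₁ σ₂) : prodProj σ₁ σ₂ x = (σ₁ x.a, σ₂ x.b) := rfl

theorem mem_ker_prodProj (x : ProdExt σ₁ σ₂) :
    x ∈ (prodProj σ₁ σ₂).ker ↔ σ₁ x.a = 1 ∧ σ₂ x.b = 1 := by
  rw [MonoidHom.mem_ker, prodProj_apply, Prod.mk_eq_one]

theorem inr_mem_commutator (h₁ : Function.Surjective σ₁) (h₂ : Function.Surjective σ₂)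
    (t : Multiplicative (AbTensor Q₁ Q₂)) :
    Tw.inr (tensorBiAdd σ₁ σ₂) t ∈ commutator (ProdExt σ₁ σ₂) := by
  obtain ⟨t, rfl⟩ := Multiplicative.ofAdd.surjective t
  induction t using TensorProduct.induction_on with
  | zero =>
    rw [ofAdd_zero, map_one]; exact Subgroup.one_mem _
  | tmul a b =>
    obtain ⟨q₁, hq₁⟩ := QuotientGroup.mk_surjective (Additive.toMul a)
    obtain ⟨q₂, hq₂⟩ := QuotientGroup.mk_surjective (Additive.toMul b)
    obtain ⟨x, rfl⟩ := h₁ q₁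
    obtain ⟨y, rfl⟩ := h₂ q₂
    have hab : a ⊗ₜ[ℤ] b = (tensorBiAdd σ₁ σ₂).f x y := by
      rw [tensorBiAdd_f]
      congr 1
      · exact (congrArg Additive.ofMul hq₁).symm
      · exact (congrArg Additive.ofMul hq₂).symm
    rw [hab, ← Tw.commutator_inl_inm]
    exact Subgroup.commutator_mem_commutator (Subgroup.mem_top _) (Subgroup.mem_top _)
  | add a b ha hb =>
    rw [ofAdd_add, map_mul]
    exact Subgroup.mul_mem _ ha hb

theorem map_mem_commutator {X Y : Type*} [Group X] [Group Y] (f : X →* Y) (x : X)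
    (hx : x ∈ commutator X) : f x ∈ commutator Y := by
  have h1 : f x ∈ (commutator X).map f := Subgroup.mem_map_of_mem _ hx
  rw [commutator_def, Subgroup.map_commutator] at h1
  exact Subgroup.commutator_mono le_top le_top h1

theorem prodProj_stem (h₁ : Cfsg.IsStemExtension σ₁) (h₂ : Cfsg.IsStemExtension σ₂) :
    Cfsg.IsStemExtension (prodProj σ₁ σ₂) := by
  obtain ⟨s₁, c₁, d₁⟩ := h₁
  obtain ⟨s₂, c₂, d₂⟩ := h₂
  refine ⟨?_, ?_, ?_⟩
  · rintro ⟨q₁, q₂⟩
    obtain ⟨x, rfl⟩ := s₁ q₁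
    obtain ⟨y, rfl⟩ := s₂ q₂
    exact ⟨⟨x, y, 0⟩, rfl⟩
  · intro x hx
    rw [mem_ker_prodProj] at hx
    rw [Subgroup.mem_center_iff]
    intro y
    have ha := Subgroup.mem_center_iff.mp (c₁ (MonoidHom.mem_ker.mpr hx.1)) y.a
    have hb := Subgroup.mem_center_iff.mp (c₂ (MonoidHom.mem_ker.mpr hx.2)) y.b
    ext
    · simpa using ha
    · simpa using hb
    · simp only [Tw.mul_c]
      rw [tensorBiAdd_ker_left σ₁ σ₂ x.a hx.1, tensorBiAdd_ker_right σ₁ σ₂ y.a x.b hx.2]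
      abel
  · intro x hx
    rw [mem_ker_prodProj] at hx
    rw [Tw.eq_mul_mul x]
    refine Subgroup.mul_mem _ (Subgroup.mul_mem _ ?_ ?_) (inr_mem_commutator σ₁ σ₂ s₁ s₂ _)
    · exact map_mem_commutator _ _ (d₁ (MonoidHom.mem_ker.mpr hx.1))
    · exact map_mem_commutator _ _ (d₂ (MonoidHom.mem_ker.mpr hx.2))

/-- the kernel of the product extension -/
def prodKerEquiv :
    (prodProj σ₁ σ₂).ker ≃* σ₁.ker × σ₂.ker × Multiplicative (AbTensor Q₁ Q₂) where
  toFun x := (⟨x.1.a, MonoidHom.mem_ker.mpr ((mem_ker_prodProj σ₁ σ₂ x.1).mp x.2).1⟩,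
    ⟨x.1.b, MonoidHom.mem_ker.mpr ((mem_ker_prodProj σ₁ σ₂ x.1).mp x.2).2⟩,
    Multiplicative.ofAdd x.1.c)
  invFun k := ⟨⟨k.1.1, k.2.1.1, Multiplicative.toAdd k.2.2⟩,
    (mem_ker_prodProj σ₁ σ₂ _).mpr ⟨MonoidHom.mem_ker.mp k.1.2, MonoidHom.mem_ker.mp k.2.1.2⟩⟩
  left_inv x := by
    apply Subtype.ext
    ext <;> rfl
  right_inv k := by
    obtain ⟨k₁, k₂, t⟩ := k
    rfl
  map_mul' x y := by
    have hx := ((mem_ker_prodProj σ₁ σ₂ x.1).mp x.2).1
    refine Prod.ext (Subtype.ext rfl) (Prod.ext (Subtype.ext rfl) ?_)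
    show Multiplicative.ofAdd (x.1.c + y.1.c + (tensorBiAdd σ₁ σ₂).f x.1.a y.1.b) =
      Multiplicative.ofAdd x.1.c * Multiplicative.ofAdd y.1.c
    rw [tensorBiAdd_ker_left σ₁ σ₂ _ hx, add_zero, ofAdd_add]

instance prodExt_finite [Finite Q₁] [Finite Q₂] [Finite Γ₁] [Finite Γ₂] :
    Finite (ProdExt σ₁ σ₂) := by
  let e : ProdExt σ₁ σ₂ ≃ Γ₁ × Γ₂ × AbTensor Q₁ Q₂ :=
    { toFun := fun x => (x.a, x.b, x.c)
      invFun := fun k => ⟨k.1, k.2.1, k.2.2⟩
      left_inv := fun x => rfl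
      right_inv := fun k => rfl }
  exact Finite.of_equiv _ e.symm

end

end Cfsg.Agent.Helper65
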