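import Mathlib
import Cfsg.Agent.Lib.Helper65.Cover
import Cfsg.Agent.Lib.Helper65.ProdStem

set_option autoImplicit false

namespace Cfsg.Agent.Helper65

open scoped commutatorElement
open scoped TensorProduct

universe u v

section CentralCover

variable {α : Type*} {G X : Type*} [Group G] [Group X]

/-- For a central extension `ξ : X → G`, the multiplier maps onto `ker ξ ∩ [X,X]`. -/
theorem exists_mult_hom_central (p : FreeGroup α →* G) (hp : Function.Surjective p)
    (ξ : X →* G) (hξs : Function.Surjective ξ) (hξc : ξ.ker ≤ Subgroup.center X) :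
    ∃ f : mult p →* X, (∀ t, ξ (f t) = 1) ∧
      ∀ z ∈ commutator X, ξ z = 1 → ∃ t, f t = z := by
  obtain ⟨φ, hφ⟩ := exists_freeGroup_lift p ξ hξs
  set L := cLift p ξ hξc φ hφ with hL
  have hcomp : ξ.comp L = cProj p := cLift_comp p ξ hξc φ hφ
  have hcomp' : ∀ c, ξ (L c) = cProj p c := fun c => DFunLike.congr_fun hcomp c
  refine ⟨L.comp (mult p).subtype, ?_, ?_⟩
  · intro t
    rw [MonoidHom.comp_apply, hcomp']
    exact MonoidHom.mem_ker.mp (mult_le_ker p t.2)
  · have hle : commutator X ≤ (commutator (CE p)).map L := by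
      rw [commutator_eq_closure, Subgroup.closure_le]
      rintro _ ⟨x, y, rfl⟩
      obtain ⟨cx, hcx⟩ := cProj_surjective p hp (ξ x)
      obtain ⟨cy, hcy⟩ := cProj_surjective p hp (ξ y)
      have hkx : (L cx)⁻¹ * x ∈ Subgroup.center X := by
        apply hξc
        rw [MonoidHom.mem_ker, map_mul, map_inv, hcomp', hcx, inv_mul_cancel]
      have hky : (L cy)⁻¹ * y ∈ Subgroup.center X := by
        apply hξc
        rw [MonoidHom.mem_ker, map_mul, map_inv, hcomp', hcy, inv_mul_cancel]
      have e1 : x = L cx * ((L cx)⁻¹ * x) := by group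
      have e2 : y = L cy * ((L cy)⁻¹ * y) := by group
      refine ⟨⁅cx, cy⁆, Subgroup.commutator_mem_commutator (Subgroup.mem_top _)
        (Subgroup.mem_top _), ?_⟩
      show L ⁅cx, cy⁆ = ⁅x, y⁆
      rw [map_commutatorElement]
      conv_rhs => rw [e1, e2]
      rw [commutatorElement_mul_central _ _ _ _ hkx hky]
    intro z hz hz1
    obtain ⟨c, hc, rfl⟩ := hle hz
    have hcm : c ∈ mult p := ⟨by
      show c ∈ (cProj p).ker
      rw [MonoidHom.mem_ker, ← hcomp', hz1], hc⟩
    exact ⟨⟨c, hcm⟩, rfl⟩

end CentralCover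

section Bihom

variable {U : Type u} {V : Type v} {C : Type*} [Group U] [Group V] [CommGroup C]

/-- a bi-multiplicative map into an abelian group induces a map on the tensor product of the
abelianizations -/
theorem exists_tensor_hom (b : U → V → C)
    (hl : ∀ u u' v, b (u * u') v = b u v * b u' v)
    (hr : ∀ u v v', b u (v * v') = b u v * b u v') :
    ∃ f : Multiplicative (AbTensor U V) →* C, ∀ u v,
      f (Multiplicative.ofAdd (Additive.ofMul (Abelianization.of u) ⊗ₜ[ℤ]
        Additive.ofMul (Abelianization.of v))) = b u v := by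
  let b₁ : U →* (V →* C) := MonoidHom.mk' (fun u => MonoidHom.mk' (fun v => b u v) (hr u)) (by
    intro u u'
    ext v
    exact hl u u' v)
  let b₂ : U →* (Abelianization V →* C) := MonoidHom.mk' (fun u => Abelianization.lift (b₁ u)) (by
    intro u u'
    apply Abelianization.hom_ext
    ext v
    simp)
  let b₃ : Abelianization U →* (Abelianization V →* C) := Abelianization.lift b₂
  let g : Additive (Abelianization U) →+ Additive (Abelianization V) →+ Additive C :=
    AddMonoidHom.mk' (fun x => MonoidHom.toAdditive (b₃ (Additive.toMul x))) (by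
      intro x y
      ext z
      simp)
  have hg : ∀ (r : ℤ) (m : Additive (Abelianization U)) (n : Additive (Abelianization V)),
      g (r • m) n = g m (r • n) := by
    intro r m n
    rw [map_zsmul, map_zsmul, AddMonoidHom.zsmul_apply]
  let F : AbTensor U V →+ Additive C := TensorProduct.liftAddHom g hg
  refine ⟨AddMonoidHom.toMultiplicativeLeft F, ?_⟩
  intro u v
  show Additive.toMul (F (Additive.ofMul (Abelianization.of u) ⊗ₜ[ℤ]
        Additive.ofMul (Abelianization.of v))) = b u v
  rw [TensorProduct.liftAddHom_tmul]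
  show b₃ (Abelianization.of u) (Abelianization.of v) = b u v
  simp [b₃, b₂, b₁]

end Bihom

end Cfsg.Agent.Helper65
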