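import Mathlib
import Cfsg.Agent.Lib.Helper65.ProdStem2

set_option autoImplicit false

namespace Cfsg.Agent.Helper65

open scoped commutatorElement
open scoped TensorProduct
open scoped IsMulCommutative

universe u v

section

variable {Q₁ : Type u} {Q₂ : Type v} [Group Q₁] [Group Q₂] {Γ : Type*} [Group Γ]
  (σ : Γ →* Q₁ × Q₂)

/-- first coordinate -/
abbrev sg1 : Γ →* Q₁ := (MonoidHom.fst Q₁ Q₂).comp σ
/-- second coordinate -/
abbrev sg2 : Γ →* Q₂ := (MonoidHom.snd Q₁ Q₂).comp σ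

/-- preimage of `Q₁ × 1` -/
abbrev Dl1 : Subgroup Γ := (sg2 σ).ker
/-- preimage of `1 × Q₂` -/
abbrev Dl2 : Subgroup Γ := (sg1 σ).ker

theorem mem_Dl1 (x : Γ) : x ∈ Dl1 σ ↔ (σ x).2 = 1 := by
  rw [MonoidHom.mem_ker]; rfl

theorem mem_Dl2 (x : Γ) : x ∈ Dl2 σ ↔ (σ x).1 = 1 := by
  rw [MonoidHom.mem_ker]; rfl

theorem mem_ker_iff (x : Γ) : x ∈ σ.ker ↔ x ∈ Dl1 σ ∧ x ∈ Dl2 σ := by
  rw [MonoidHom.mem_ker, mem_Dl1, mem_Dl2, Prod.ext_iff]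
  exact ⟨fun h => ⟨h.2, h.1⟩, fun h => ⟨h.2, h.1⟩⟩

variable (hc : σ.ker ≤ Subgroup.center Γ)

include hc in
/-- commutators only depend on the images -/
theorem comm_indep (x x' y y' : Γ) (hx : σ x = σ x') (hy : σ y = σ y') : ⁅x, y⁆ = ⁅x', y'⁆ := by
  have hkx : x⁻¹ * x' ∈ Subgroup.center Γ := by
    apply hc
    rw [MonoidHom.mem_ker, map_mul, map_inv, hx, inv_mul_cancel]
  have hky : y⁻¹ * y' ∈ Subgroup.center Γ := by
    apply hc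
    rw [MonoidHom.mem_ker, map_mul, map_inv, hy, inv_mul_cancel]
  have e1 : x' = x * (x⁻¹ * x') := by group
  have e2 : y' = y * (y⁻¹ * y') := by group
  rw [e1, e2, commutatorElement_mul_central _ _ _ _ hkx hky]

theorem comm_mem_ker (x y : Γ) (hx : x ∈ Dl1 σ) (hy : y ∈ Dl2 σ) : ⁅x, y⁆ ∈ σ.ker := by
  rw [mem_Dl1] at hx
  rw [mem_Dl2] at hy
  rw [MonoidHom.mem_ker, map_commutatorElement, commutatorElement_def]
  apply Prod.ext
  · simp [hy]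
  · simp [hx]

theorem commutator_Dl_le_ker : ⁅Dl1 σ, Dl2 σ⁆ ≤ σ.ker := by
  rw [Subgroup.commutator_le]
  intro x hx y hy
  exact comm_mem_ker σ x y hx hy

include hc in
theorem comm_mul_left (x x' y : Γ) (hx' : x' ∈ Dl1 σ) (hy : y ∈ Dl2 σ) :
    ⁅x * x', y⁆ = ⁅x, y⁆ * ⁅x', y⁆ := by
  have h1 : ⁅x * x', y⁆ = x * ⁅x', y⁆ * x⁻¹ * ⁅x, y⁆ := by
    simp only [commutatorElement_def]; group
  have h2 := Subgroup.mem_center_iff.mp (hc (comm_mem_ker σ x' y hx' hy))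
  rw [h1, h2 x, mul_inv_cancel_right, h2 ⁅x, y⁆]

include hc in
theorem comm_mul_right (x y y' : Γ) (hx : x ∈ Dl1 σ) (hy' : y' ∈ Dl2 σ) :
    ⁅x, y * y'⁆ = ⁅x, y⁆ * ⁅x, y'⁆ := by
  have h1 : ⁅x, y * y'⁆ = ⁅x, y⁆ * (y * ⁅x, y'⁆ * y⁻¹) := by
    simp only [commutatorElement_def]; group
  have h2 := Subgroup.mem_center_iff.mp (hc (comm_mem_ker σ x y' hx hy'))
  rw [h1, h2 y, mul_inv_cancel_right]

variable (hs : Function.Surjective σ)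

/-- a lift of `(q₁, 1)` -/
noncomputable def lft1 (hs : Function.Surjective σ) (q : Q₁) : Γ := Classical.choose (hs (q, 1))
/-- a lift of `(1, q₂)` -/
noncomputable def lft2 (hs : Function.Surjective σ) (q : Q₂) : Γ := Classical.choose (hs (1, q))

theorem lft1_spec (q : Q₁) : σ (lft1 σ hs q) = (q, 1) := Classical.choose_spec (hs (q, 1))
theorem lft2_spec (q : Q₂) : σ (lft2 σ hs q) = (1, q) := Classical.choose_spec (hs (1, q))

theorem lft1_mem (q : Q₁) : lft1 σ hs q ∈ Dl1 σ := by rw [mem_Dl1, lft1_spec]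
theorem lft2_mem (q : Q₂) : lft2 σ hs q ∈ Dl2 σ := by rw [mem_Dl2, lft2_spec]

include hc in
/-- the kernel of a central extension is commutative -/
theorem ker_isMulCommutative : IsMulCommutative σ.ker :=
  ⟨⟨fun a b => Subtype.ext (Subgroup.mem_center_iff.mp (hc b.2) a.1)⟩⟩

/-- the commutator pairing `Q₁ × Q₂ → ker σ` -/
noncomputable def pairing (q₁ : Q₁) (q₂ : Q₂) : σ.ker :=
  ⟨⁅lft1 σ hs q₁, lft2 σ hs q₂⁆, comm_mem_ker σ _ _ (lft1_mem σ hs q₁) (lft2_mem σ hs q₂)⟩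

include hc in
theorem pairing_eq (x y : Γ) (hx : x ∈ Dl1 σ) (hy : y ∈ Dl2 σ) :
    (pairing σ hs (σ x).1 (σ y).2 : Γ) = ⁅x, y⁆ := by
  show ⁅lft1 σ hs (σ x).1, lft2 σ hs (σ y).2⁆ = ⁅x, y⁆
  apply comm_indep σ hc
  · rw [lft1_spec]
    rw [mem_Dl1] at hx
    exact Prod.ext rfl hx.symm
  · rw [lft2_spec]
    rw [mem_Dl2] at hy
    exact Prod.ext hy.symm rfl

include hc in
theorem pairing_mul_left (q q' : Q₁) (r : Q₂) :
    pairing σ hs (q * q') r = pairing σ hs q r * pairing σ hs q' r := by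
  apply Subtype.ext
  show ⁅lft1 σ hs (q * q'), lft2 σ hs r⁆ = ⁅lft1 σ hs q, lft2 σ hs r⁆ * ⁅lft1 σ hs q', lft2 σ hs r⁆
  rw [← comm_mul_left σ hc _ _ _ (lft1_mem σ hs q') (lft2_mem σ hs r)]
  apply comm_indep σ hc
  · rw [map_mul, lft1_spec, lft1_spec, lft1_spec]
    exact Prod.ext rfl (by simp)
  · rfl

include hc in
theorem pairing_mul_right (q : Q₁) (r r' : Q₂) :
    pairing σ hs q (r * r') = pairing σ hs q r * pairing σ hs q r' := by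
  apply Subtype.ext
  show ⁅lft1 σ hs q, lft2 σ hs (r * r')⁆ = ⁅lft1 σ hs q, lft2 σ hs r⁆ * ⁅lft1 σ hs q, lft2 σ hs r'⁆
  rw [← comm_mul_right σ hc _ _ _ (lft1_mem σ hs q) (lft2_mem σ hs r')]
  apply comm_indep σ hc
  · rfl
  · rw [map_mul, lft2_spec, lft2_spec, lft2_spec]
    exact Prod.ext (by simp) rfl

include hs in
/-- `Γ' ≤ Δ₁' Δ₂' [Δ₁,Δ₂]` -/
theorem commutator_le_sup :
    commutator Γ ≤ (⁅Dl1 σ, Dl1 σ⁆ ⊔ ⁅Dl2 σ, Dl2 σ⁆) ⊔ ⁅Dl1 σ, Dl2 σ⁆ := by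
  set N := (⁅Dl1 σ, Dl1 σ⁆ ⊔ ⁅Dl2 σ, Dl2 σ⁆) ⊔ ⁅Dl1 σ, Dl2 σ⁆ with hN
  have hNn : N.Normal := by rw [hN]; infer_instance
  have h11 : ⁅Dl1 σ, Dl1 σ⁆ ≤ N := le_sup_of_le_left le_sup_left
  have h22 : ⁅Dl2 σ, Dl2 σ⁆ ≤ N := le_sup_of_le_left le_sup_right
  have h12 : ⁅Dl1 σ, Dl2 σ⁆ ≤ N := le_sup_right
  have h21 : ⁅Dl2 σ, Dl1 σ⁆ ≤ N := by rw [Subgroup.commutator_comm]; exact h12
  have hcm : ∀ a b : Γ, ⁅a, b⁆ ∈ N →
      Commute (QuotientGroup.mk a : Γ ⧸ N) (QuotientGroup.mk b) := by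
    intro a b hab
    rw [← commutatorElement_eq_one_iff_commute]
    have : (QuotientGroup.mk' N) ⁅a, b⁆ = 1 := (QuotientGroup.eq_one_iff _).mpr hab
    rw [map_commutatorElement] at this
    exact this
  have hdec : ∀ g : Γ, ∃ d₁ ∈ Dl1 σ, ∃ d₂ ∈ Dl2 σ, g = d₁ * d₂ := by
    intro g
    refine ⟨lft1 σ hs (σ g).1, lft1_mem σ hs _, (lft1 σ hs (σ g).1)⁻¹ * g, ?_, by group⟩
    rw [mem_Dl2, map_mul, map_inv, lft1_spec]
    simp
  rw [commutator_eq_closure, Subgroup.closure_le]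
  rintro _ ⟨g, h, rfl⟩
  obtain ⟨d₁, hd₁, d₂, hd₂, rfl⟩ := hdec g
  obtain ⟨e₁, he₁, e₂, he₂, rfl⟩ := hdec h
  show ⁅d₁ * d₂, e₁ * e₂⁆ ∈ N
  rw [← QuotientGroup.eq_one_iff, ← QuotientGroup.mk'_apply, map_commutatorElement,
    commutatorElement_eq_one_iff_commute, map_mul, map_mul]
  have c11 := hcm d₁ e₁ (h11 (Subgroup.commutator_mem_commutator hd₁ he₁))
  have c12 := hcm d₁ e₂ (h12 (Subgroup.commutator_mem_commutator hd₁ he₂))
  have c21 := hcm d₂ e₁ (h21 (Subgroup.commutator_mem_commutator hd₂ he₁))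
  have c22 := hcm d₂ e₂ (h22 (Subgroup.commutator_mem_commutator hd₂ he₂))
  exact (c11.mul_right c12).mul_left (c21.mul_right c22)

end

end Cfsg.Agent.Helper65
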