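import Mathlib
import Cfsg.Agent.Lib.Helper65.ProdStem3

set_option autoImplicit false

namespace Cfsg.Agent.Helper65

open scoped commutatorElement
open scoped TensorProduct
open scoped IsMulCommutative

universe u v

/-- The kernel of any stem extension of `Q₁ × Q₂` is an image of
`M(Q₁) × M(Q₂) × (Q₁ᵃᵇ ⊗ Q₂ᵃᵇ)`. -/
theorem exists_surj_prod_stem {Q₁ : Type u} {Q₂ : Type v} [Group Q₁] [Group Q₂] {Γ : Type*}
    [Group Γ] (σ : Γ →* Q₁ × Q₂) (hσ : Cfsg.IsStemExtension σ) :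
    ∃ π : mult (fp Q₁) × mult (fp Q₂) × Multiplicative (AbTensor Q₁ Q₂) →* σ.ker,
      Function.Surjective π := by
  obtain ⟨hs, hc, hd⟩ := hσ
  haveI := ker_isMulCommutative σ hc
  -- the first factor
  let ξ₁ : Dl1 σ →* Q₁ := (sg1 σ).comp (Dl1 σ).subtype
  have hξ₁s : Function.Surjective ξ₁ := by
    intro q
    refine ⟨⟨lft1 σ hs q, lft1_mem σ hs q⟩, ?_⟩
    show (σ (lft1 σ hs q)).1 = q
    rw [lft1_spec]
  have hξ₁c : ξ₁.ker ≤ Subgroup.center (Dl1 σ) := by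
    intro x hx
    have hxk : (x : Γ) ∈ σ.ker := (mem_ker_iff σ x).mpr ⟨x.2, MonoidHom.mem_ker.mpr hx⟩
    rw [Subgroup.mem_center_iff]
    intro y
    apply Subtype.ext
    exact Subgroup.mem_center_iff.mp (hc hxk) y.1
  obtain ⟨f₁, hf₁, hf₁s⟩ := exists_mult_hom_central (fp Q₁) (fp_surj Q₁) ξ₁ hξ₁s hξ₁c
  let π₁ : mult (fp Q₁) →* σ.ker := ((Dl1 σ).subtype.comp f₁).codRestrict σ.ker
    (fun t => (mem_ker_iff σ _).mpr ⟨(f₁ t).2, MonoidHom.mem_ker.mpr (hf₁ t)⟩)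
  -- the second factor
  let ξ₂ : Dl2 σ →* Q₂ := (sg2 σ).comp (Dl2 σ).subtype
  have hξ₂s : Function.Surjective ξ₂ := by
    intro q
    refine ⟨⟨lft2 σ hs q, lft2_mem σ hs q⟩, ?_⟩
    show (σ (lft2 σ hs q)).2 = q
    rw [lft2_spec]
  have hξ₂c : ξ₂.ker ≤ Subgroup.center (Dl2 σ) := by
    intro x hx
    have hxk : (x : Γ) ∈ σ.ker := (mem_ker_iff σ x).mpr ⟨MonoidHom.mem_ker.mpr hx, x.2⟩
    rw [Subgroup.mem_center_iff]
    intro y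
    apply Subtype.ext
    exact Subgroup.mem_center_iff.mp (hc hxk) y.1
  obtain ⟨f₂, hf₂, hf₂s⟩ := exists_mult_hom_central (fp Q₂) (fp_surj Q₂) ξ₂ hξ₂s hξ₂c
  let π₂ : mult (fp Q₂) →* σ.ker := ((Dl2 σ).subtype.comp f₂).codRestrict σ.ker
    (fun t => (mem_ker_iff σ _).mpr ⟨MonoidHom.mem_ker.mpr (hf₂ t), (f₂ t).2⟩)
  -- the tensor factor
  obtain ⟨πT, hπT⟩ := exists_tensor_hom (pairing σ hs) (pairing_mul_left σ hc hs)
    (pairing_mul_right σ hc hs)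
  refine ⟨π₁.coprod (π₂.coprod πT), ?_⟩
  rintro ⟨z, hz⟩
  have hzN := commutator_le_sup σ hs (hd hz)
  obtain ⟨n12, hn12, c, hcc, hz'⟩ := Subgroup.mem_sup_of_normal_right.mp hzN
  obtain ⟨n₁, hn₁, n₂, hn₂, rfl⟩ := Subgroup.mem_sup_of_normal_right.mp hn12
  subst hz'
  have hck : c ∈ σ.ker := commutator_Dl_le_ker σ hcc
  have h12 : n₁ * n₂ ∈ σ.ker := by
    have := σ.ker.mul_mem hz (σ.ker.inv_mem hck)
    simpa using this
  have hn₁D : n₁ ∈ Dl1 σ := Subgroup.commutator_le_right _ _ hn₁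
  have hn₂D : n₂ ∈ Dl2 σ := Subgroup.commutator_le_right _ _ hn₂
  have h12' : σ n₁ * σ n₂ = 1 := by rw [← map_mul]; exact MonoidHom.mem_ker.mp h12
  have hn₁D2 : n₁ ∈ Dl2 σ := by
    rw [mem_Dl2]
    have := congrArg Prod.fst h12'
    rw [Prod.fst_mul, (mem_Dl2 σ n₂).mp hn₂D, mul_one] at this
    exact this
  have hn₂D1 : n₂ ∈ Dl1 σ := by
    rw [mem_Dl1]
    have := congrArg Prod.snd h12'
    rw [Prod.snd_mul, (mem_Dl1 σ n₁).mp hn₁D, one_mul] at this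
    exact this
  -- preimages
  obtain ⟨t₁, ht₁⟩ : ∃ t₁, (π₁ t₁ : Γ) = n₁ := by
    rw [← Subgroup.map_subtype_commutator] at hn₁
    obtain ⟨d, hd', rfl⟩ := hn₁
    obtain ⟨t, ht⟩ := hf₁s d hd' (MonoidHom.mem_ker.mp hn₁D2)
    exact ⟨t, congrArg Subtype.val ht⟩
  obtain ⟨t₂, ht₂⟩ : ∃ t₂, (π₂ t₂ : Γ) = n₂ := by
    rw [← Subgroup.map_subtype_commutator] at hn₂
    obtain ⟨d, hd', rfl⟩ := hn₂
    obtain ⟨t, ht⟩ := hf₂s d hd' (MonoidHom.mem_ker.mp hn₂D1)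
    exact ⟨t, congrArg Subtype.val ht⟩
  obtain ⟨t, ht⟩ : ∃ t, (πT t : Γ) = c := by
    have hle : ⁅Dl1 σ, Dl2 σ⁆ ≤ πT.range.map σ.ker.subtype := by
      rw [Subgroup.commutator_le]
      intro x hx y hy
      refine ⟨pairing σ hs (σ x).1 (σ y).2, ⟨_, hπT _ _⟩, ?_⟩
      exact pairing_eq σ hc hs x y hx hy
    obtain ⟨k, ⟨t, rfl⟩, hk⟩ := hle hcc
    exact ⟨t, hk⟩
  refine ⟨(t₁, t₂, t), Subtype.ext ?_⟩
  show ((π₁ t₁ * (π₂ t₂ * πT t) : σ.ker) : Γ) = n₁ * n₂ * c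
  rw [Subgroup.coe_mul, Subgroup.coe_mul, ht₁, ht₂, ht, mul_assoc]

end Cfsg.Agent.Helper65
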