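import Mathlib
import Cfsg.Agent.Lib.Helper65.ProdStem4

set_option autoImplicit false

namespace Cfsg.Agent.Helper65

open scoped TensorProduct

universe u v w

/-- transport of `HasSchurMultiplier` along an isomorphism of the multiplier -/
theorem hasSchurMultiplier_congr {G : Type u} [Group G] {A : Type v} {A' : Type w} [CommGroup A]
    [CommGroup A'] (e : A ≃* A') (h : Cfsg.HasSchurMultiplier G A) :
    Cfsg.HasSchurMultiplier G A' := by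
  obtain ⟨⟨Γ, i1, i2, σ, hσ, ⟨e1⟩⟩, h2⟩ := h
  refine ⟨⟨Γ, i1, i2, σ, hσ, ⟨e1.trans e⟩⟩, ?_⟩
  intro Δ _ _ τ hτ
  obtain ⟨π, hπ⟩ := h2 Δ τ hτ
  exact ⟨π.comp e.symm.toMonoidHom, hπ.comp e.symm.surjective⟩

/-- **Schur multiplier of a direct product.** -/
theorem hasSchurMultiplier_prod {Q₁ : Type u} {Q₂ : Type v} [Group Q₁] [Group Q₂] [Finite Q₁]
    [Finite Q₂] {A B : Type w} [CommGroup A] [CommGroup B] (hA : Cfsg.HasSchurMultiplier Q₁ A)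
    (hB : Cfsg.HasSchurMultiplier Q₂ B) :
    Cfsg.HasSchurMultiplier (Q₁ × Q₂) (A × B × Multiplicative (AbTensor Q₁ Q₂)) := by
  obtain ⟨eA⟩ := mult_equiv_of_hasSchurMultiplier hA
  obtain ⟨eB⟩ := mult_equiv_of_hasSchurMultiplier hB
  obtain ⟨⟨Γ₁, i1, i2, σ₁, hσ₁, ⟨e1⟩⟩, -⟩ := hA
  obtain ⟨⟨Γ₂, j1, j2, σ₂, hσ₂, ⟨e2⟩⟩, -⟩ := hB
  refine ⟨⟨ProdExt σ₁ σ₂, inferInstance, prodExt_finite σ₁ σ₂, prodProj σ₁ σ₂,
    prodProj_stem σ₁ σ₂ hσ₁ hσ₂,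
    ⟨(prodKerEquiv σ₁ σ₂).trans (MulEquiv.prodCongr e1 (MulEquiv.prodCongr e2 (MulEquiv.refl _)))⟩⟩,
    ?_⟩
  intro Γ _ _ σ hσ
  obtain ⟨π, hπ⟩ := exists_surj_prod_stem σ hσ
  let ε : A × B × Multiplicative (AbTensor Q₁ Q₂) ≃*
      mult (fp Q₁) × mult (fp Q₂) × Multiplicative (AbTensor Q₁ Q₂) :=
    MulEquiv.prodCongr eA.symm (MulEquiv.prodCongr eB.symm (MulEquiv.refl _))
  exact ⟨π.comp ε.toMonoidHom, hπ.comp ε.surjective⟩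

end Cfsg.Agent.Helper65
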