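import Mathlib
import Cfsg.Agent.Lib.Helper65.Pull
import Cfsg.Agent.Lib.Helper65.Divisible

set_option autoImplicit false

namespace Cfsg.Agent.Helper65

open scoped commutatorElement

/-- descend a hom along a surjection -/
theorem exists_descend {E Γ X : Type*} [Group E] [Group Γ] [Group X] (f : E →* Γ)
    (hf : Function.Surjective f) (g : E →* X) (h : f.ker ≤ g.ker) :
    ∃ r : Γ →* X, r.comp f = g :=
  ⟨f.liftOfRightInverse (Function.surjInv hf) (Function.rightInverse_surjInv hf) ⟨g, h⟩,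
    f.liftOfRightInverse_comp (Function.surjInv hf) (Function.rightInverse_surjInv hf) ⟨g, h⟩⟩

universe u₁

/-- A Schur cover (a stem extension whose kernel has the order of the multiplier) maps to every
central extension with divisible kernel. -/
theorem lift_to_central_divisible {Q : Type u₁} [Group Q] [Finite Q] {Γ : Type*} [Group Γ]
    (σ : Γ →* Q) (hσ : Cfsg.IsStemExtension σ)
    (hcard : Nat.card σ.ker = Nat.card (mult (fp Q)))
    {X : Type*} [Group X] (ξ : X →* Q) (hξs : Function.Surjective ξ)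
    (hξc : ξ.ker ≤ Subgroup.center X)
    (hdiv : ∀ c ∈ ξ.ker, ∀ m : ℤ, m ≠ 0 → ∃ d ∈ ξ.ker, d ^ m = c) :
    ∃ r : Γ →* X, ξ.comp r = σ := by
  have hp := fp_surj Q
  obtain ⟨φΓ, hcompΓ, hsurjΓ, hTΓ⟩ := exists_cover_map (fp Q) hp σ hσ
  -- Step 2: mult ⊓ ker φΓ = ⊥
  have hinf : mult (fp Q) ⊓ φΓ.ker = ⊥ := by
    let f : mult (fp Q) →* σ.ker :=
      { toFun := fun t => ⟨φΓ (t : CE (fp Q)), by
          rw [MonoidHom.mem_ker, ← MonoidHom.comp_apply, hcompΓ, ← MonoidHom.mem_ker]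
          exact mult_le_ker (fp Q) t.2⟩
        map_one' := Subtype.ext (map_one φΓ)
        map_mul' := fun a b => Subtype.ext (map_mul φΓ (a : CE (fp Q)) (b : CE (fp Q))) }
    have hf : Function.Surjective f := by
      intro k
      obtain ⟨t, ht, htk⟩ := hTΓ k.1 k.2
      exact ⟨⟨t, ht⟩, Subtype.ext htk⟩
    have hbij := hf.bijective_of_nat_card_le (le_of_eq hcard.symm)
    rw [eq_bot_iff]
    rintro t ⟨ht1, ht2⟩
    have h1 : f ⟨t, ht1⟩ = f 1 := by
      rw [map_one]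
      exact Subtype.ext ((MonoidHom.mem_ker).1 ht2)
    have h2 := hbij.1 h1
    rw [Subgroup.mem_bot]
    exact congrArg Subtype.val h2
  -- Step 3
  obtain ⟨φX, hcompX, -⟩ := exists_central_cover_map (fp Q) hp ξ hξs hξc
  -- Step 4
  set N := φΓ.ker with hN
  have hNA : N ≤ (cProj (fp Q)).ker := by
    intro e he
    rw [MonoidHom.mem_ker] at he ⊢
    rw [← hcompΓ, MonoidHom.comp_apply, he, map_one]
  set K := ξ.ker with hK
  let _ : CommGroup K :=
    { (inferInstance : Group K) with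
      mul_comm := fun a b => Subtype.ext ((Subgroup.mem_center_iff.1 (hξc b.2)) a.1) }
  let _ : CommGroup N :=
    { (inferInstance : Group N) with
      mul_comm := fun a b => Subtype.ext
        ((Subgroup.mem_center_iff.1 (ker_cProj_le_center (fp Q) (hNA b.2))) a.1) }
  let z : N →* K :=
    { toFun := fun e => ⟨φX (e : CE (fp Q)), by
        rw [hK, MonoidHom.mem_ker, ← MonoidHom.comp_apply, hcompX, ← MonoidHom.mem_ker]
        exact hNA e.2⟩
      map_one' := Subtype.ext (map_one φX)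
      map_mul' := fun a b => Subtype.ext (map_mul φX (a : CE (fp Q)) (b : CE (fp Q))) }
  -- Step 5
  let ιN : N →* Abelianization (CE (fp Q)) := (Abelianization.of).comp N.subtype
  have hιN : Function.Injective ιN := by
    rw [injective_iff_map_eq_one]
    intro e he
    have h1 : (e : CE (fp Q)) ∈ commutator (CE (fp Q)) := by
      rw [← Abelianization.ker_of, MonoidHom.mem_ker]
      exact he
    have h2 : (e : CE (fp Q)) ∈ mult (fp Q) ⊓ φΓ.ker := ⟨⟨hNA e.2, h1⟩, e.2⟩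
    rw [hinf, Subgroup.mem_bot] at h2
    exact Subtype.ext h2
  -- Step 6
  have hdivK : ∀ (c : K) (m : ℤ), m ≠ 0 → ∃ d : K, d ^ m = c := by
    intro c m hm
    obtain ⟨d, hd, hdc⟩ := hdiv c.1 c.2 m hm
    exact ⟨⟨d, hd⟩, Subtype.ext hdc⟩
  obtain ⟨χ₀, hχ₀⟩ := exists_extension_to_divisible hdivK ιN hιN z
  let χ : CE (fp Q) →* K := χ₀.comp Abelianization.of
  have hχN : ∀ e : N, χ (e : CE (fp Q)) = z e := fun e => DFunLike.congr_fun hχ₀ e
  -- Step 7
  let φ' : CE (fp Q) →* X := MonoidHom.mk' (fun e => φX e * ((χ e : K) : X)⁻¹) (by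
    intro a b
    have hc := Subgroup.mem_center_iff.1 (hξc (χ a).2)
    rw [map_mul, map_mul]
    have e1 : ((χ a * χ b : K) : X) = (χ a : X) * (χ b : X) := rfl
    rw [e1, mul_inv_rev]
    have e2 : φX a * φX b * (((χ b : K) : X)⁻¹ * ((χ a : K) : X)⁻¹)
        = φX a * ((φX b * ((χ b : K) : X)⁻¹) * ((χ a : K) : X)⁻¹) := by group
    rw [e2]
    have e3 : (φX b * ((χ b : K) : X)⁻¹) * ((χ a : K) : X)⁻¹
        = ((χ a : K) : X)⁻¹ * (φX b * ((χ b : K) : X)⁻¹) := by
      have h3 := hc ((φX b * ((χ b : K) : X)⁻¹))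
      calc (φX b * ((χ b : K) : X)⁻¹) * ((χ a : K) : X)⁻¹
          = ((χ a : K) : X)⁻¹ * (((χ a : K) : X) * (φX b * ((χ b : K) : X)⁻¹)) * ((χ a : K) : X)⁻¹ := by
            group
        _ = ((χ a : K) : X)⁻¹ * ((φX b * ((χ b : K) : X)⁻¹) * ((χ a : K) : X)) * ((χ a : K) : X)⁻¹ := by
            rw [h3]
        _ = ((χ a : K) : X)⁻¹ * (φX b * ((χ b : K) : X)⁻¹) := by group
    rw [e3]
    group)
  have hφ'ξ : ∀ e, ξ (φ' e) = cProj (fp Q) e := by
    intro e
    show ξ (φX e * ((χ e : K) : X)⁻¹) = _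
    rw [map_mul, map_inv, (MonoidHom.mem_ker).1 (χ e).2, inv_one, mul_one, ← hcompX]
    rfl
  -- Step 8
  have hker : φΓ.ker ≤ φ'.ker := by
    intro e he
    rw [MonoidHom.mem_ker]
    show φX e * ((χ e : K) : X)⁻¹ = 1
    have := hχN ⟨e, he⟩
    have h2 : ((χ e : K) : X) = φX e := by
      have := congrArg Subtype.val this
      exact this
    rw [h2, mul_inv_cancel]
  obtain ⟨r, hr⟩ := exists_descend φΓ hsurjΓ φ' hker
  refine ⟨r, ?_⟩
  refine MonoidHom.ext fun g => ?_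
  obtain ⟨e, rfl⟩ := hsurjΓ g
  have h1 : r (φΓ e) = φ' e := DFunLike.congr_fun hr e
  rw [MonoidHom.comp_apply, h1, hφ'ξ, ← hcompΓ]
  rfl

end Cfsg.Agent.Helper65
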