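import Mathlib
import Cfsg.Agent.Lib.Helper65.HopfGen

set_option autoImplicit false

namespace Cfsg.Agent.Helper65

open scoped commutatorElement
open scoped IsMulCommutative

section

variable {n : ℕ} {G : Type*} [Group G] (p : FreeGroup (Fin n) →* G)
  (rels : Finset (FreeGroup (Fin n)))

/-- index type of the relators -/
abbrev RelIdx : Type := {x // x ∈ rels}

variable (hker : p.ker = Subgroup.normalClosure (rels : Set (FreeGroup (Fin n))))

include hker in
theorem rel_mem_ker (i : RelIdx rels) : (i.1 : FreeGroup (Fin n)) ∈ p.ker := by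
  rw [hker]; exact Subgroup.subset_normalClosure i.2

/-- the class of a relator in the center of `F/[R,F]` -/
def zrel (i : RelIdx rels) : Subgroup.center (CE p) :=
  ⟨QuotientGroup.mk i.1, ker_cProj_le_center p (by
    rw [MonoidHom.mem_ker, cProj_mk]
    exact rel_mem_ker p rels hker i)⟩

theorem zrel_coe (i : RelIdx rels) : ((zrel p rels hker i : Subgroup.center (CE p)) : CE p) =
    QuotientGroup.mk i.1 := rfl

/-- the map `ℤ^r → Z(F/[R,F])` -/
noncomputable def relMap : (RelIdx rels → ℤ) →ₗ[ℤ] Additive (Subgroup.center (CE p)) :=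
  (Pi.basisFun ℤ (RelIdx rels)).constr ℤ (fun i => Additive.ofMul (zrel p rels hker i))

theorem relMap_basis (i : RelIdx rels) :
    relMap p rels hker (Pi.basisFun ℤ (RelIdx rels) i) = Additive.ofMul (zrel p rels hker i) :=
  Module.Basis.constr_basis _ _ _ _

/-- the map `Z(F/[R,F]) → F^ab`, additively -/
noncomputable def abMap : Additive (Subgroup.center (CE p)) →ₗ[ℤ] FreeAbelianGroup (Fin n) :=
  (MonoidHom.toAdditive ((toAb p).comp (Subgroup.center (CE p)).subtype)).toIntLinearMap

theorem abMap_apply (z : Additive (Subgroup.center (CE p))) :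
    abMap p z = Additive.ofMul (toAb p ((Additive.toMul z : Subgroup.center (CE p)) : CE p)) := rfl

/-- the composite `ℤ^r → F^ab` -/
noncomputable def relAb : (RelIdx rels → ℤ) →ₗ[ℤ] FreeAbelianGroup (Fin n) :=
  (abMap p).comp (relMap p rels hker)

/-- the underlying element of `F/[R,F]` -/
noncomputable def relVal (x : RelIdx rels → ℤ) : CE p :=
  ((Additive.toMul (relMap p rels hker x) : Subgroup.center (CE p)) : CE p)

theorem relVal_add (x y : RelIdx rels → ℤ) :
    relVal p rels hker (x + y) = relVal p rels hker x * relVal p rels hker y := by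
  unfold relVal
  rw [map_add]
  rfl

theorem relVal_zero : relVal p rels hker 0 = 1 := by
  unfold relVal
  rw [map_zero]
  rfl

theorem relVal_smul (c : ℤ) (x : RelIdx rels → ℤ) :
    relVal p rels hker (c • x) = relVal p rels hker x ^ c := by
  unfold relVal
  rw [map_smul]
  rfl

theorem relVal_basis (i : RelIdx rels) :
    relVal p rels hker (Pi.basisFun ℤ (RelIdx rels) i) = QuotientGroup.mk i.1 := by
  unfold relVal
  rw [relMap_basis]
  rfl

theorem relAb_apply (x : RelIdx rels → ℤ) :
    relAb p rels hker x = Additive.ofMul (toAb p (relVal p rels hker x)) := rfl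

/-- the values lie in the kernel of `F/[R,F] → G` -/
theorem relVal_mem_ker (x : RelIdx rels → ℤ) : relVal p rels hker x ∈ (cProj p).ker := by
  have hx : x ∈ Submodule.span ℤ (Set.range (Pi.basisFun ℤ (RelIdx rels))) := by
    rw [Module.Basis.span_eq]; exact Submodule.mem_top
  induction hx using Submodule.span_induction with
  | mem x hx =>
    obtain ⟨i, rfl⟩ := hx
    rw [relVal_basis, MonoidHom.mem_ker, cProj_mk]
    exact rel_mem_ker p rels hker i
  | zero => rw [relVal_zero]; exact Subgroup.one_mem _
  | add x y _ _ hx hy => rw [relVal_add]; exact Subgroup.mul_mem _ hx hy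
  | smul c x _ hx => rw [relVal_smul]; exact Subgroup.zpow_mem _ hx c

/-- every element of the kernel is a value -/
theorem exists_relVal_eq (z : CE p) (hz : z ∈ (cProj p).ker) :
    ∃ x, relVal p rels hker x = z := by
  -- the subgroup of values
  let H : Subgroup (CE p) :=
    { carrier := {z | ∃ x, relVal p rels hker x = z}
      one_mem' := ⟨0, relVal_zero p rels hker⟩
      mul_mem' := by
        rintro _ _ ⟨x, rfl⟩ ⟨y, rfl⟩
        exact ⟨x + y, relVal_add p rels hker x y⟩
      inv_mem' := by
        rintro _ ⟨x, rfl⟩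
        refine ⟨(-1 : ℤ) • x, ?_⟩
        rw [relVal_smul, zpow_neg, zpow_one] }
  have hHc : H ≤ Subgroup.center (CE p) := by
    rintro _ ⟨x, rfl⟩
    exact ker_cProj_le_center p (relVal_mem_ker p rels hker x)
  have hHn : H.Normal := by
    constructor
    intro h hh g
    have := Subgroup.mem_center_iff.mp (hHc hh) g
    rw [this, mul_inv_cancel_right]
    exact hh
  have hcn : (H.comap (QuotientGroup.mk' (relC p))).Normal := hHn.comap _
  have hle : Subgroup.normalClosure (rels : Set (FreeGroup (Fin n))) ≤
      H.comap (QuotientGroup.mk' (relC p)) := by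
    apply Subgroup.normalClosure_le_normal
    intro r hr
    exact ⟨Pi.basisFun ℤ (RelIdx rels) ⟨r, hr⟩, relVal_basis p rels hker ⟨r, hr⟩⟩
  obtain ⟨y, rfl⟩ := QuotientGroup.mk_surjective z
  rw [MonoidHom.mem_ker, cProj_mk, ← MonoidHom.mem_ker, hker] at hz
  exact hle hz

/-- kernel of `relAb` ↔ value in the multiplier -/
theorem relVal_mem_mult (x : RelIdx rels → ℤ) (hx : relAb p rels hker x = 0) :
    relVal p rels hker x ∈ mult p := by
  refine ⟨relVal_mem_ker p rels hker x, ?_⟩
  apply mem_commutator_of_toAb_eq_one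
  rw [relAb_apply] at hx
  exact hx

theorem exists_relVal_eq_of_mult (z : CE p) (hz : z ∈ mult p) :
    ∃ x, relAb p rels hker x = 0 ∧ relVal p rels hker x = z := by
  obtain ⟨x, rfl⟩ := exists_relVal_eq p rels hker z hz.1
  refine ⟨x, ?_, rfl⟩
  rw [relAb_apply]
  have hk : commutator (CE p) ≤ (toAb p).ker := by
    rw [commutator_def, Subgroup.commutator_le]
    intro a _ b _
    rw [MonoidHom.mem_ker, map_commutatorElement, commutatorElement_def]
    rw [mul_comm (toAb p a) (toAb p b)]
    group
  have := MonoidHom.mem_ker.mp (hk hz.2)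
  rw [this]
  rfl

end

end Cfsg.Agent.Helper65
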