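import Mathlib
import Cfsg.Agent.Lib.Helper65.RankMult

set_option autoImplicit false

namespace Cfsg.Agent.Helper65

open scoped commutatorElement
open scoped IsMulCommutative

theorem finrank_freeAbelianGroup_fin (n : ℕ) : Module.finrank ℤ (FreeAbelianGroup (Fin n)) = n := by
  have e : FreeAbelianGroup (Fin n) ≃ₗ[ℤ] (Fin n →₀ ℤ) :=
    (FreeAbelianGroup.equivFinsupp (Fin n)).toIntLinearEquiv
  rw [e.finrank_eq, Module.finrank_finsupp_self, Fintype.card_fin]

section

variable {n : ℕ} {G : Type*} [Group G] (p : FreeGroup (Fin n) →* G)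
  (rels : Finset (FreeGroup (Fin n)))
  (hker : p.ker = Subgroup.normalClosure (rels : Set (FreeGroup (Fin n))))

theorem mem_range_relAb_of_mem_ker (y : FreeGroup (Fin n)) (hy : y ∈ p.ker) :
    (Additive.ofMul (Abelianization.of y) : FreeAbelianGroup (Fin n)) ∈
      LinearMap.range (relAb p rels hker) := by
  obtain ⟨x, hx⟩ := exists_relVal_eq p rels hker (QuotientGroup.mk y) (by
    rw [MonoidHom.mem_ker, cProj_mk]; exact hy)
  refine ⟨x, ?_⟩
  rw [relAb_apply, hx, toAb_mk]

theorem card_smul_mem_range_relAb [Finite G] (w : FreeAbelianGroup (Fin n)) :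
    Nat.card G • w ∈ LinearMap.range (relAb p rels hker) := by
  obtain ⟨y, hy⟩ := QuotientGroup.mk_surjective (Additive.toMul w)
  have hw : w = Additive.ofMul (Abelianization.of y) := by
    rw [← ofMul_toMul w]; exact congrArg Additive.ofMul hy.symm
  have h1 : Nat.card G • w = Additive.ofMul (Abelianization.of (y ^ Nat.card G)) := by
    rw [hw, map_pow]; rfl
  rw [h1]
  apply mem_range_relAb_of_mem_ker
  rw [MonoidHom.mem_ker, map_pow, pow_card_eq_one']

theorem finrank_range_relAb [Finite G] :
    Module.finrank ℤ (LinearMap.range (relAb p rels hker)) = n := by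
  apply le_antisymm
  · have := Submodule.finrank_le (LinearMap.range (relAb p rels hker))
    rwa [finrank_freeAbelianGroup_fin] at this
  · let μ : FreeAbelianGroup (Fin n) →ₗ[ℤ] LinearMap.range (relAb p rels hker) :=
      LinearMap.codRestrict _ ((Nat.card G : ℤ) • LinearMap.id) (by
        intro w
        rw [LinearMap.smul_apply, LinearMap.id_apply, natCast_zsmul]
        exact card_smul_mem_range_relAb p rels hker w)
    have hμ : Function.Injective μ := by
      rw [← LinearMap.ker_eq_bot, LinearMap.ker_eq_bot']
      intro w hw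
      have h1 : Nat.card G • w = 0 := by
        have := congrArg Subtype.val hw
        simpa [μ] using this
      have h2 : (Additive.toMul w) ^ Nat.card G = 1 := congrArg Additive.toMul h1
      have h3 := abelianization_freeGroup_torsionfree (Additive.toMul w) (Nat.card G)
        Nat.card_pos h2
      exact congrArg Additive.ofMul h3
    have := LinearMap.finrank_le_finrank_of_injective hμ
    rwa [finrank_freeAbelianGroup_fin] at this

theorem finrank_ker_relAb [Finite G] :
    Module.finrank ℤ (LinearMap.ker (relAb p rels hker)) + n = rels.card := by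
  have h1 := Submodule.finrank_quotient_add_finrank (LinearMap.ker (relAb p rels hker))
  rw [(LinearMap.quotKerEquivRange (relAb p rels hker)).finrank_eq, finrank_range_relAb,
    Module.finrank_fintype_fun_eq_card, Fintype.card_coe] at h1
  omega

include hker in
/-- the multiplier is generated by `r - n` elements -/
theorem exists_generators_mult [Finite G] :
    ∃ S : Finset (mult p), S.card ≤ rels.card - n ∧ Subgroup.closure (S : Set (mult p)) = ⊤ := by
  classical
  set N := LinearMap.ker (relAb p rels hker) with hN
  set k := Module.finrank ℤ N with hk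
  have hkn : k + n = rels.card := finrank_ker_relAb p rels hker
  let b : Module.Basis (Fin k) ℤ N := Module.finBasis ℤ N
  let a : Fin k → mult p := fun j =>
    ⟨relVal p rels hker (b j).1, relVal_mem_mult p rels hker _ (LinearMap.mem_ker.mp (b j).2)⟩
  refine ⟨Finset.univ.image a, ?_, ?_⟩
  · calc (Finset.univ.image a).card ≤ (Finset.univ : Finset (Fin k)).card := Finset.card_image_le
      _ = k := by rw [Finset.card_univ, Fintype.card_fin]
      _ ≤ rels.card - n := by omega
  · rw [eq_top_iff]
    rintro ⟨z, hz⟩ -
    obtain ⟨x, hx0, hxz⟩ := exists_relVal_eq_of_mult p rels hker z hz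
    have key : ∀ x' : N, ∃ m : mult p, (m : CE p) = relVal p rels hker x'.1 ∧
        m ∈ Subgroup.closure ((Finset.univ.image a : Finset (mult p)) : Set (mult p)) := by
      intro x'
      have hx' : x' ∈ Submodule.span ℤ (Set.range b) := by
        rw [Module.Basis.span_eq]; exact Submodule.mem_top
      induction hx' using Submodule.span_induction with
      | mem x hx =>
        obtain ⟨j, rfl⟩ := hx
        refine ⟨a j, rfl, Subgroup.subset_closure ?_⟩
        simp
      | zero => exact ⟨1, (relVal_zero p rels hker).symm, Subgroup.one_mem _⟩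
      | add x y _ _ hx hy =>
        obtain ⟨m₁, h₁, c₁⟩ := hx
        obtain ⟨m₂, h₂, c₂⟩ := hy
        refine ⟨m₁ * m₂, ?_, Subgroup.mul_mem _ c₁ c₂⟩
        rw [Subgroup.coe_mul, h₁, h₂, ← relVal_add]
        rfl
      | smul c x _ hx =>
        obtain ⟨m₁, h₁, c₁⟩ := hx
        refine ⟨m₁ ^ c, ?_, Subgroup.zpow_mem _ c₁ c⟩
        rw [Subgroup.coe_zpow, h₁, ← relVal_smul]
        rfl
    obtain ⟨m, hm, hmc⟩ := key ⟨x, LinearMap.mem_ker.mpr hx0⟩
    have : m = ⟨z, hz⟩ := Subtype.ext (hm.trans hxz)
    rw [← this]
    exact hmc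

end

end Cfsg.Agent.Helper65
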