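import Mathlib
import Cfsg.Agent.Lib.Helper65.BorelAbs2

set_option autoImplicit false

namespace Cfsg.Agent.Helper65

namespace BorelAbs

open Polynomial

variable {F : Type*} [Field F] [Fintype F]

theorem good_of_char_two (h2 : ringChar F = 2) (hcard : 8 ≤ Fintype.card F) : Good F := by
  classical
  set P : F[X] := X * (X + 1) * (X ^ 2 + X + 1) with hP
  have hmon : P.Monic := by rw [hP]; monicity!
  have hdeg : P.natDegree ≤ 4 := by rw [hP]; compute_degree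
  obtain ⟨x, hx⟩ := SL2Mult.exists_not_root P hmon.ne_zero (by omega)
  rw [hP] at hx
  simp only [eval_mul, eval_add, eval_pow, eval_X, eval_one] at hx
  have hx0 : x ≠ 0 := fun h => hx (by rw [h]; ring)
  have hx1 : x + 1 ≠ 0 := fun h => hx (by rw [h]; ring)
  have hx2 : x ^ 2 + x + 1 ≠ 0 := fun h => hx (by rw [h]; ring)
  obtain ⟨s, hs⟩ := FiniteField.isSquare_of_char_two h2 x
  obtain ⟨t, ht⟩ := FiniteField.isSquare_of_char_two h2 (x + 1)
  have hs2 : s ^ 2 = x := by rw [hs]; ring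
  have ht2 : t ^ 2 = x + 1 := by rw [ht]; ring
  refine ⟨s, t, ?_, ?_, ?_, ?_⟩
  · rintro rfl
    apply hx0
    rw [← hs2]; ring
  · rintro rfl
    apply hx1
    rw [← ht2]; ring
  · rw [hs2, ht2]
  · rw [hs2]; exact hx2

theorem good_of_odd (h2 : (2 : F) ≠ 0) (hcard : 14 ≤ Fintype.card F) : Good F := by
  classical
  set P : F[X] := X * (X ^ 2 - 1) * (X ^ 2 + 1) *
    ((X ^ 2 - 1) ^ 4 + 4 * X ^ 2 * (X ^ 2 - 1) ^ 2 + 16 * X ^ 4) with hP
  have hmon : P.Monic := by rw [hP]; monicity!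
  have hdeg : P.natDegree ≤ 13 := by rw [hP]; compute_degree
  obtain ⟨w, hw⟩ := SL2Mult.exists_not_root P hmon.ne_zero (by omega)
  rw [hP] at hw
  simp only [eval_mul, eval_add, eval_sub, eval_pow, eval_X, eval_one, eval_ofNat] at hw
  have hw0 : w ≠ 0 := fun h => hw (by rw [h]; ring)
  have hw1 : w ^ 2 - 1 ≠ 0 := fun h => hw (by rw [h]; ring)
  have hw2 : w ^ 2 + 1 ≠ 0 := fun h => hw (by rw [h]; ring)
  have hw3 : (w ^ 2 - 1) ^ 4 + 4 * w ^ 2 * (w ^ 2 - 1) ^ 2 + 16 * w ^ 4 ≠ 0 :=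
    fun h => hw (by rw [h]; ring)
  have h2w : 2 * w ≠ 0 := mul_ne_zero h2 hw0
  refine ⟨(w ^ 2 - 1) / (2 * w), (w ^ 2 + 1) / (2 * w), div_ne_zero hw1 h2w, div_ne_zero hw2 h2w,
    ?_, ?_⟩
  · field_simp
    ring
  · intro h
    apply hw3
    field_simp at h
    linear_combination h

end BorelAbs

end Cfsg.Agent.Helper65
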