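import Mathlib
import Cfsg.Agent.Lib.Helper65.SL2Good
import Cfsg.Agent.Lib.Helper65.Stem

set_option autoImplicit false

namespace Cfsg.Agent.Helper65

namespace SL2Borel

open Matrix

variable {F : Type*} [Field F]

local notation "SL2" => Matrix.SpecialLinearGroup (Fin 2) F

theorem mul_00 (a b : SL2) : (a * b).1 0 0 = a.1 0 0 * b.1 0 0 + a.1 0 1 * b.1 1 0 := by
  simp [Matrix.mul_apply, Fin.sum_univ_two]

theorem mul_01 (a b : SL2) : (a * b).1 0 1 = a.1 0 0 * b.1 0 1 + a.1 0 1 * b.1 1 1 := by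
  simp [Matrix.mul_apply, Fin.sum_univ_two]

theorem mul_10 (a b : SL2) : (a * b).1 1 0 = a.1 1 0 * b.1 0 0 + a.1 1 1 * b.1 1 0 := by
  simp [Matrix.mul_apply, Fin.sum_univ_two]

theorem mul_11 (a b : SL2) : (a * b).1 1 1 = a.1 1 0 * b.1 0 1 + a.1 1 1 * b.1 1 1 := by
  simp [Matrix.mul_apply, Fin.sum_univ_two]

theorem inv_00 (a : SL2) : (a⁻¹).1 0 0 = a.1 1 1 := by
  simp [Matrix.SpecialLinearGroup.coe_inv, Matrix.adjugate_fin_two]

theorem inv_01 (a : SL2) : (a⁻¹).1 0 1 = - a.1 0 1 := by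
  simp [Matrix.SpecialLinearGroup.coe_inv, Matrix.adjugate_fin_two]

theorem inv_10 (a : SL2) : (a⁻¹).1 1 0 = - a.1 1 0 := by
  simp [Matrix.SpecialLinearGroup.coe_inv, Matrix.adjugate_fin_two]

theorem inv_11 (a : SL2) : (a⁻¹).1 1 1 = a.1 0 0 := by
  simp [Matrix.SpecialLinearGroup.coe_inv, Matrix.adjugate_fin_two]

theorem det_eq (a : SL2) : a.1 0 0 * a.1 1 1 - a.1 0 1 * a.1 1 0 = 1 := by
  have := a.det_coe
  rwa [Matrix.det_fin_two] at this

variable (F) in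
/-- the Borel subgroup of upper triangular matrices -/
def borel : Subgroup SL2 where
  carrier := {g | g.1 1 0 = 0}
  one_mem' := by simp
  mul_mem' := by
    intro a b ha hb
    rw [Set.mem_ofPred_eq] at ha hb ⊢
    rw [mul_10, ha, hb, zero_mul, mul_zero, add_zero]
  inv_mem' := by
    intro a ha
    rw [Set.mem_ofPred_eq] at ha ⊢
    rw [inv_10, ha, neg_zero]

theorem mem_borel (g : SL2) : g ∈ borel F ↔ g.1 1 0 = 0 := Iff.rfl

theorem borel_diag (g : borel F) : g.1.1 0 0 * g.1.1 1 1 = 1 := by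
  have h := det_eq g.1
  rw [(mem_borel g.1).1 g.2, mul_zero, sub_zero] at h
  exact h

/-- the diagonal character of the Borel subgroup -/
def dB : borel F →* Fˣ where
  toFun g := ⟨g.1.1 0 0, g.1.1 1 1, borel_diag g, by rw [mul_comm]; exact borel_diag g⟩
  map_one' := by
    apply Units.ext
    simp
  map_mul' a b := by
    apply Units.ext
    show (a.1 * b.1).1 0 0 = a.1.1 0 0 * b.1.1 0 0
    rw [mul_00, (mem_borel b.1).1 b.2, mul_zero, add_zero]

theorem dB_val (g : borel F) : ((dB g : Fˣ) : F) = g.1.1 0 0 := rfl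

/-- upper unitriangular element -/
def uB (t : F) : borel F :=
  ⟨⟨!![1, t; 0, 1], by simp [Matrix.det_fin_two]⟩, by
    show (!![1, t; 0, 1] : Matrix (Fin 2) (Fin 2) F) 1 0 = 0
    simp⟩

/-- diagonal element -/
def hB (a : Fˣ) : borel F :=
  ⟨⟨!![(a : F), 0; 0, ((a⁻¹ : Fˣ) : F)], by simp [Matrix.det_fin_two]⟩, by
    show (!![(a : F), 0; 0, ((a⁻¹ : Fˣ) : F)] : Matrix (Fin 2) (Fin 2) F) 1 0 = 0
    simp⟩

theorem dB_hB (a : Fˣ) : dB (hB a) = a := by
  apply Units.ext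
  rw [dB_val]
  simp [hB]

theorem dB_surj : Function.Surjective (dB (F := F)) := fun a => ⟨hB a, dB_hB a⟩

theorem dB_uB (t : F) : dB (uB t) = 1 := by
  apply Units.ext
  rw [dB_val]
  simp [uB]

theorem entries_of_dB_eq_one {g : borel F} (h : dB g = 1) :
    g.1.1 0 0 = 1 ∧ g.1.1 1 0 = 0 ∧ g.1.1 1 1 = 1 := by
  have h0 : g.1.1 0 0 = 1 := by
    have := congrArg (fun u : Fˣ => (u : F)) h
    simpa [dB_val] using this
  refine ⟨h0, (mem_borel g.1).1 g.2, ?_⟩
  have := borel_diag g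
  rwa [h0, one_mul] at this

theorem eq_one_of_entries {g : borel F} (h : dB g = 1) (h01 : g.1.1 0 1 = 0) : g = 1 := by
  obtain ⟨h00, h10, h11⟩ := entries_of_dB_eq_one h
  apply Subtype.ext
  apply Subtype.ext
  ext i j
  fin_cases i <;> fin_cases j <;> simp [h00, h10, h11, h01]

section Stem

variable {Γ : Type*} [Group Γ] (σ : Γ →* borel F)

theorem xi_add {x y : Γ} (hx : x ∈ (dB.comp σ).ker) (hy : y ∈ (dB.comp σ).ker) :
    (σ (x * y)).1.1 0 1 = (σ x).1.1 0 1 + (σ y).1.1 0 1 := by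
  obtain ⟨hx00, hx10, hx11⟩ := entries_of_dB_eq_one (MonoidHom.mem_ker.1 hx)
  obtain ⟨hy00, hy10, hy11⟩ := entries_of_dB_eq_one (MonoidHom.mem_ker.1 hy)
  rw [map_mul]
  show ((σ x).1 * (σ y).1).1 0 1 = _
  rw [mul_01, hx00, hy11, one_mul, mul_one, add_comm]

theorem xi_conj (g : Γ) {x : Γ} (hx : x ∈ (dB.comp σ).ker) :
    (σ (g * x * g⁻¹)).1.1 0 1 = ((dB.comp σ g : Fˣ) : F) ^ 2 * (σ x).1.1 0 1 := by
  obtain ⟨hx00, hx10, hx11⟩ := entries_of_dB_eq_one (MonoidHom.mem_ker.1 hx)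
  rw [map_mul, map_mul, map_inv, MonoidHom.comp_apply, dB_val]
  show ((σ g).1 * (σ x).1 * (σ g).1⁻¹).1 0 1 = _
  have hg10 := (mem_borel (σ g).1).1 (σ g).2
  have hdiag := borel_diag (σ g)
  rw [mul_01, mul_00, mul_01, inv_01, inv_11, hx00, hx10, hx11]
  ring

theorem ker_eq_bot_of_stem [Fintype F] (hgood : BorelAbs.Good F) (ha : ∃ a : Fˣ, (a : F) ^ 2 ≠ 1)
    (hσ : Cfsg.IsStemExtension σ) : σ.ker = ⊥ := by
  obtain ⟨hsurj, hcen, hcomm⟩ := hσ
  have hmain := BorelAbs.main (F := F) (dB.comp σ) σ.ker hcen (fun x => (σ x).1.1 0 1)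
    (fun x hx y hy => xi_add σ hx hy)
    (by
      intro x hx
      constructor
      · intro h
        rw [MonoidHom.mem_ker]
        exact eq_one_of_entries (MonoidHom.mem_ker.1 hx) h
      · intro h
        rw [MonoidHom.mem_ker] at h
        show (σ x).1.1 0 1 = 0
        rw [h]
        simp)
    (by
      intro t
      obtain ⟨x, hx⟩ := hsurj (uB t)
      refine ⟨x, ?_, ?_⟩
      · rw [MonoidHom.mem_ker, MonoidHom.comp_apply, hx, dB_uB]
      · show (σ x).1.1 0 1 = t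
        rw [hx]
        simp [uB])
    (fun g x hx => xi_conj σ g hx)
    (dB_surj.comp hsurj) hgood ha
  rw [← hmain]
  exact le_antisymm (le_inf le_rfl hcomm) inf_le_left

end Stem

end SL2Borel

end Cfsg.Agent.Helper65
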