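import Mathlib
import Cfsg.Agent.Lib.Helper65.SL2Borel
import Cfsg.Agent.Lib.Helper65.SylowMult2
import Cfsg.Agent.Lib.Helper5.SL2Sylow

set_option autoImplicit false

namespace Cfsg.Agent.Helper65

namespace SL2Borel

open Matrix

variable {F : Type*} [Field F] [Fintype F]

local notation "SL2" => Matrix.SpecialLinearGroup (Fin 2) F

/-- the Borel subgroup has trivial multiplier for `q ∉ {4, 9}` not prime -/
theorem borel_trivial_mult (hgood : BorelAbs.Good F) (ha : ∃ a : Fˣ, (a : F) ^ 2 ≠ 1) :
    Cfsg.HasCyclicSchurMultiplier (borel F) 1 := by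
  classical
  apply trivial_multiplier_of
  intro Γ _ _ σ hσ
  exact ker_eq_bot_of_stem σ hgood ha hσ

theorem slU_le_borel : Cfsg.Agent.Helper5.slU F ≤ borel F := by
  intro g hg
  rw [Cfsg.Agent.Helper5.mem_slU_iff] at hg
  obtain ⟨x, rfl⟩ := hg
  rw [mem_borel]
  simp [SpecialLinearGroup.transvection_coe]

theorem not_dvd_index_borel (p : ℕ) [Fact p.Prime] [CharP F p] : ¬ p ∣ (borel F).index := by
  classical
  intro h
  have h1 : (borel F).index ∣ (Cfsg.Agent.Helper5.slU F).index :=
    Subgroup.index_dvd_of_le slU_le_borel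
  have h2 := (Cfsg.Agent.Helper5.slUSylow (F := F) p).not_dvd_index
  exact h2 (h.trans h1)

/-- involutions of `SL₂` in odd characteristic are `-1` -/
theorem invol_entries (h2 : (2 : F) ≠ 0) (x : SL2) (hx : x * x = 1) (hne : x ≠ 1) :
    x.1 0 0 = -1 ∧ x.1 0 1 = 0 ∧ x.1 1 0 = 0 ∧ x.1 1 1 = -1 := by
  have hinv : x = x⁻¹ := eq_inv_of_mul_eq_one_left hx
  have e00 : x.1 0 0 = x.1 1 1 := by
    have := congrArg (fun g : SL2 => g.1 0 0) hinv
    simpa [inv_00] using this
  have e01 : x.1 0 1 = 0 := by
    have := congrArg (fun g : SL2 => g.1 0 1) hinv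
    simp only [inv_01] at this
    have h : 2 * x.1 0 1 = 0 := by linear_combination this
    exact (mul_eq_zero.1 h).resolve_left h2
  have e10 : x.1 1 0 = 0 := by
    have := congrArg (fun g : SL2 => g.1 1 0) hinv
    simp only [inv_10] at this
    have h : 2 * x.1 1 0 = 0 := by linear_combination this
    exact (mul_eq_zero.1 h).resolve_left h2
  have hdet := det_eq x
  rw [e01, zero_mul, sub_zero, ← e00] at hdet
  have hsq : (x.1 0 0 - 1) * (x.1 0 0 + 1) = 0 := by linear_combination hdet
  rcases mul_eq_zero.1 hsq with h | h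
  · exfalso
    apply hne
    have h00 : x.1 0 0 = 1 := by linear_combination h
    apply Subtype.ext
    ext i j
    fin_cases i <;> fin_cases j <;> simp [h00, e01, e10, ← e00]
  · have h00 : x.1 0 0 = -1 := by linear_combination h
    exact ⟨h00, e01, e10, by rw [← e00, h00]⟩

theorem invol_unique (h2 : (2 : F) ≠ 0) (x y : SL2) (hx : orderOf x = 2) (hy : orderOf y = 2) :
    x = y := by
  have hx1 : x ≠ 1 := by
    intro h; rw [h, orderOf_one] at hx; omega
  have hy1 : y ≠ 1 := by
    intro h; rw [h, orderOf_one] at hy; omega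
  have hxx : x * x = 1 := by
    have := pow_orderOf_eq_one x
    rw [hx, pow_two] at this
    exact this
  have hyy : y * y = 1 := by
    have := pow_orderOf_eq_one y
    rw [hy, pow_two] at this
    exact this
  obtain ⟨a1, a2, a3, a4⟩ := invol_entries h2 x hxx hx1
  obtain ⟨b1, b2, b3, b4⟩ := invol_entries h2 y hyy hy1
  apply Subtype.ext
  ext i j
  fin_cases i <;> fin_cases j <;> simp [a1, a2, a3, a4, b1, b2, b3, b4]

end SL2Borel

end Cfsg.Agent.Helper65
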