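import Mathlib
import Cfsg.Prelude.Def_KGroupFacts
import Cfsg.Agent.Lib.Helper65.Stem

set_option autoImplicit false

namespace Cfsg.Agent.Helper65

open Subgroup
open scoped commutatorElement

section

variable {Γ : Type*} [Group Γ]

/-- if `b = x y x⁻¹ y⁻¹` is central then `x y^k x⁻¹ = b^k y^k` -/
theorem conj_pow_of_central (x y : Γ) (hb : x * y * x⁻¹ * y⁻¹ ∈ Subgroup.center Γ) (k : ℕ) :
    x * y ^ k * x⁻¹ = (x * y * x⁻¹ * y⁻¹) ^ k * y ^ k := by
  set b := x * y * x⁻¹ * y⁻¹ with hbdef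
  have hby : Commute b y := ((Subgroup.mem_center_iff.1 hb) y).symm
  have h1 : x * y * x⁻¹ = b * y := by rw [hbdef]; group
  have h2 : x * y ^ k * x⁻¹ = (x * y * x⁻¹) ^ k := by
    rw [← MulAut.conj_apply, ← MulAut.conj_apply, map_pow]
  rw [h2, h1, hby.mul_pow]

theorem stem_ab2 {G : Type*} [CommGroup G] (σ : Γ →* G) (hσ : Cfsg.IsStemExtension σ)
    (x₀ y₀ : G) (hgen : Subgroup.closure {x₀, y₀} = ⊤) (n : ℕ) [NeZero n] (hy : y₀ ^ n = 1) :
    ∃ π : Multiplicative (ZMod n) →* σ.ker, Function.Surjective π := by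
  obtain ⟨x, hx⟩ := hσ.1 x₀
  obtain ⟨y, hy'⟩ := hσ.1 y₀
  have hgen' : Subgroup.closure {x, y} ⊔ σ.ker = ⊤ := by
    apply closure_lift_sup_ker
    rw [Set.image_pair, hx, hy', hgen]
  set b := x * y * x⁻¹ * y⁻¹ with hbdef
  have hbk : b ∈ σ.ker := by
    rw [MonoidHom.mem_ker, hbdef]
    simp only [map_mul, map_inv, hx, hy']
    rw [mul_comm x₀ y₀]; group
  have hbc : b ∈ Subgroup.center Γ := hσ.2.1 hbk
  have hnorm : (Subgroup.zpowers b).Normal := by
    constructor
    intro z hz g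
    obtain ⟨i, rfl⟩ := Subgroup.mem_zpowers_iff.1 hz
    have : b ^ i ∈ Subgroup.center Γ := Subgroup.zpow_mem _ hbc i
    rw [(Subgroup.mem_center_iff.1 this) g]
    simp
  have hcomm : commutator Γ ≤ Subgroup.zpowers b := by
    apply commutator_le_of_generators σ.ker hσ.2.1 {x, y} hgen'
    have hb : b ∈ Subgroup.zpowers b := Subgroup.mem_zpowers _
    intro s hs t ht
    rcases hs with rfl | hs <;> rcases ht with rfl | ht
    · simp
    · rw [Set.mem_singleton_iff] at ht; subst ht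
      rw [commutatorElement_def]; exact hb
    · rw [Set.mem_singleton_iff] at hs; subst hs
      have : ⁅s, t⁆ = (t * s * t⁻¹ * s⁻¹)⁻¹ := by rw [commutatorElement_def]; group
      rw [this]; exact Subgroup.inv_mem _ hb
    · rw [Set.mem_singleton_iff] at hs ht; subst hs; subst ht
      simp
  have hbn : b ^ n = 1 := by
    have hyn : y ^ n ∈ σ.ker := by
      rw [MonoidHom.mem_ker, map_pow, hy', hy]
    have hync := Subgroup.mem_center_iff.1 (hσ.2.1 hyn)
    have h1 := conj_pow_of_central x y hbc n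
    have h2 : x * y ^ n * x⁻¹ = y ^ n := by
      rw [hync x]; group
    rw [h2] at h1
    have : b ^ n * y ^ n = 1 * y ^ n := by rw [one_mul]; exact h1.symm
    exact mul_right_cancel this
  apply exists_surj_of_le_zpowers σ.ker b (hσ.2.2.trans hcomm) n
  intro z hz
  obtain ⟨i, rfl⟩ := Subgroup.mem_zpowers_iff.1 (hcomm (hσ.2.2 hz))
  rw [← zpow_natCast, ← zpow_mul, mul_comm, zpow_mul, zpow_natCast, hbn, one_zpow]

end

end Cfsg.Agent.Helper65
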