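import Mathlib
import Cfsg.Agent.Lib.Helper65.SylowMult2
import Cfsg.Agent.Lib.Helper65.SL2Borel2
import Cfsg.Agent.Lib.Helper65.MultTransport
import Cfsg.Agent.Lib.Helper65.Abelian2
import Cfsg.Agent.Lib.Helper5.SL2Cyclic
import Cfsg.Agent.Lib.Helper53.UniqueInvol4
import Cfsg.Agent.S3963
import Cfsg.Agent.S3951

/-! The multiplier of `SL₂(9)` has order `1` or `3`. -/

set_option autoImplicit false

namespace Cfsg.Agent.Helper65.SL29

open Cfsg.Agent.Helper65

universe u

/-- Sylow subgroups of `SL₂(F)` for primes other than the characteristic have trivial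
multiplier. -/
theorem sylow_trivial_mult {F : Type*} [Field F] [Fintype F] (p : ℕ) [Fact p.Prime] [CharP F p]
    (r : ℕ) [Fact r.Prime] (hrp : r ≠ p) (P : Sylow r (Matrix.SpecialLinearGroup (Fin 2) F)) :
    Cfsg.HasCyclicSchurMultiplier (P : Subgroup (Matrix.SpecialLinearGroup (Fin 2) F)) 1 := by
  classical
  have hp : p.Prime := Fact.out
  by_cases hr2 : r = 2
  · subst hr2
    have h2F : (2 : F) ≠ 0 := by
      intro h
      have h' : ((2 : ℕ) : F) = 0 := by exact_mod_cast h
      rw [CharP.cast_eq_zero_iff F p 2] at h'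
      exact hrp ((Nat.prime_dvd_prime_iff_eq hp Nat.prime_two).1 h').symm
    have hU : ∀ x y : (P : Subgroup (Matrix.SpecialLinearGroup (Fin 2) F)),
        orderOf x = 2 → orderOf y = 2 → x = y := by
      intro x y hx hy
      apply Subtype.ext
      apply Cfsg.Agent.Helper65.SL2Borel.invol_unique h2F
      · exact (Subgroup.orderOf_coe x).trans hx
      · exact (Subgroup.orderOf_coe y).trans hy
    rcases Cfsg.Agent.Helper53.isCyclic_or_quaternion_of_unique_invol P.isPGroup' hU with
      hc | ⟨n, hn, ⟨e⟩⟩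
    · exact Cfsg.Agent.Helper65.trivial_mult_of_isCyclic' _
    · have : NeZero (2 ^ n) := ⟨by positivity⟩
      exact Cfsg.Agent.Helper65.hasSchurMultiplier_of_mulEquiv e.symm
        (Cfsg.Agent.S3963.result (2 ^ n))
  · have : IsCyclic (P : Subgroup (Matrix.SpecialLinearGroup (Fin 2) F)) :=
      Cfsg.Agent.Helper5.sylow_isCyclic_sl2 p r hr2 hrp P
    exact Cfsg.Agent.Helper65.trivial_mult_of_isCyclic' _

/-- a group of order `p ^ 2` has multiplier of order at most `p` -/
theorem card_mult_le_of_card_prime_sq {P : Type u} [Group P] (p : ℕ) [Fact p.Prime]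
    (hP : Nat.card P = p ^ 2) : Nat.card (mult (fp P)) ≤ p := by
  have hp : p.Prime := Fact.out
  have hfin : Finite P := Nat.finite_of_card_ne_zero (by rw [hP]; exact (pow_pos hp.pos 2).ne')
  by_cases hc : IsCyclic P
  · have h1 := card_mult_of_hasSchurMultiplier (trivial_mult_of_isCyclic' P)
    rw [h1, Nat.card_eq_fintype_card, Fintype.card_multiplicative, ZMod.card]
    exact hp.one_lt.le
  · obtain ⟨q, hq, ψ, hψ⟩ := @exists_inj_zmod_sq_of_not_cyclic P
      (IsPGroup.commGroupOfCardEqPrimeSq hP) hfin hc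
    have : NeZero q := ⟨hq.ne_zero⟩
    have hcardZ : Nat.card (Multiplicative (ZMod q × ZMod q)) = q ^ 2 := by
      rw [Nat.card_eq_fintype_card, Fintype.card_multiplicative, Fintype.card_prod, ZMod.card,
        pow_two]
    have hdvd : q ^ 2 ∣ p ^ 2 := by
      rw [← hcardZ, ← hP]
      exact Subgroup.card_dvd_of_injective ψ hψ
    have hqp : q = p := by
      have h1 : q ∣ p ^ 2 := dvd_trans (dvd_pow_self q (by norm_num)) hdvd
      exact (Nat.prime_dvd_prime_iff_eq hq hp).1 (hq.dvd_of_dvd_pow h1)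
    subst hqp
    have hbij : Function.Bijective ψ :=
      (Nat.bijective_iff_injective_and_card ψ).2 ⟨hψ, by rw [hcardZ, hP]⟩
    let e : Multiplicative (ZMod q × ZMod q) ≃* P := MulEquiv.ofBijective ψ hbij
    have h1 := card_mult_of_hasSchurMultiplier
      (hasSchurMultiplier_of_mulEquiv e (Cfsg.Agent.S3951.result q q (dvd_refl q)))
    rw [h1, Nat.card_eq_fintype_card, Fintype.card_multiplicative, ZMod.card]

theorem charP_three {F : Type*} [Field F] [Fintype F] (hF : Fintype.card F = 9) : CharP F 3 := by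
  obtain ⟨p, hpc⟩ := CharP.exists F
  have hp : p.Prime := CharP.char_is_prime F p
  have : Fact p.Prime := ⟨hp⟩
  obtain ⟨e, -, he⟩ := FiniteField.card F p
  have h1 : p ∣ 3 ^ 2 := by
    have : p ∣ Fintype.card F := by rw [he]; exact dvd_pow_self p e.pos.ne'
    rw [hF] at this
    exact this
  have h2 : p = 3 := (Nat.prime_dvd_prime_iff_eq hp Nat.prime_three).1 (hp.dvd_of_dvd_pow h1)
  rw [← h2]
  exact hpc

theorem card_mult_sl29 {F : Type*} [Field F] [Fintype F] (hF : Fintype.card F = 9) :
    Nat.card (mult (fp (Matrix.SpecialLinearGroup (Fin 2) F))) ≤ 3 ∧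
      Nat.card (mult (fp (Matrix.SpecialLinearGroup (Fin 2) F))) ≠ 2 := by
  classical
  have : CharP F 3 := charP_three hF
  have : Fact (Nat.Prime 3) := ⟨Nat.prime_three⟩
  have : Fact (Nat.Prime 2) := ⟨Nat.prime_two⟩
  constructor
  · obtain ⟨P⟩ := (inferInstance : Nonempty (Sylow 3 (Matrix.SpecialLinearGroup (Fin 2) F)))
    have hcard : Nat.card P = 3 ^ 2 :=
      (Cfsg.Agent.Helper5.card_sylow_SL2 3 hF P).trans (by norm_num)
    refine le_trans (card_mult_le_of_sylow 3 P ?_) (card_mult_le_of_card_prime_sq 3 hcard)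
    intro q hq hq3 _
    have : Fact q.Prime := ⟨hq⟩
    obtain ⟨Q⟩ := (inferInstance : Nonempty (Sylow q (Matrix.SpecialLinearGroup (Fin 2) F)))
    exact ⟨Q, Q.not_dvd_index, sylow_trivial_mult 3 q hq3 Q⟩
  · intro h2
    obtain ⟨Q⟩ := (inferInstance : Nonempty (Sylow 2 (Matrix.SpecialLinearGroup (Fin 2) F)))
    have htriv := sylow_trivial_mult 3 2 (by norm_num) Q
    have hall : ∀ x : mult (fp (Matrix.SpecialLinearGroup (Fin 2) F)), x = 1 := by
      intro x
      have h3 : x ^ (Q : Subgroup (Matrix.SpecialLinearGroup (Fin 2) F)).index = 1 :=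
        pow_index_eq_one_of_trivial _ htriv x
      have h4 : x ^ 2 = 1 := by
        have h5 : x ^ Nat.card (mult (fp (Matrix.SpecialLinearGroup (Fin 2) F))) = 1 :=
          pow_card_eq_one'
        rwa [h2] at h5
      have hd1 : orderOf x ∣ 2 := orderOf_dvd_of_pow_eq_one h4
      have hd2 : orderOf x ∣ (Q : Subgroup (Matrix.SpecialLinearGroup (Fin 2) F)).index :=
        orderOf_dvd_of_pow_eq_one h3
      have hcop : Nat.Coprime 2 (Q : Subgroup (Matrix.SpecialLinearGroup (Fin 2) F)).index :=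
        (Nat.Prime.coprime_iff_not_dvd Nat.prime_two).2 Q.not_dvd_index
      have : orderOf x = 1 := Nat.eq_one_of_dvd_coprimes hcop hd1 hd2
      exact orderOf_eq_one_iff.1 this
    have hsub : Subsingleton (mult (fp (Matrix.SpecialLinearGroup (Fin 2) F))) :=
      ⟨fun a b => (hall a).trans (hall b).symm⟩
    have hfin : Finite (mult (fp (Matrix.SpecialLinearGroup (Fin 2) F))) := mult_finite _
    have : Nat.card (mult (fp (Matrix.SpecialLinearGroup (Fin 2) F))) = 1 :=
      Nat.card_unique
    omega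

end Cfsg.Agent.Helper65.SL29
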