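import Mathlib
import Cfsg.Agent.Lib.Helper62.SLN0
import Cfsg.Agent.Lib.Helper66.SLN_G1
import Cfsg.Agent.Lib.Helper66.SLN_G5

set_option autoImplicit false

namespace Cfsg.Agent.Helper65.SLN

open Matrix Module Cfsg.Agent.Helper93.U2 Cfsg.Agent.Helper62.SLN

section GRP

variable {F : Type*} [Field F] {κ : Type} [Fintype κ] [DecidableEq κ]

theorem h65_inv_mul_val (A : SpecialLinearGroup κ F) :
    (A⁻¹ : SpecialLinearGroup κ F).1 * A.1 = 1 := by
  have := congrArg Subtype.val (inv_mul_cancel A)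
  exact this

theorem h65_mul_inv_val (A : SpecialLinearGroup κ F) :
    A.1 * (A⁻¹ : SpecialLinearGroup κ F).1 = 1 := by
  have := congrArg Subtype.val (mul_inv_cancel A)
  exact this

/-- conjugating a transvection `1 + x tᵀ` by `A` with `A x = e_j` gives `tvEl j (t ᵥ* A⁻¹)`. -/
theorem h65_conj_tv (A : SpecialLinearGroup κ F) (j : κ) (x t : κ → F)
    (hAx : A.1 *ᵥ x = Pi.single j 1) (htx : t ⬝ᵥ x = 0)
    (T : SpecialLinearGroup κ F) (hT : T.1 = 1 + vecMulVec x t) :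
    T = A⁻¹ * tvEl j (t ᵥ* (A⁻¹ : SpecialLinearGroup κ F).1) * A := by
  set t' : κ → F := t ᵥ* (A⁻¹ : SpecialLinearGroup κ F).1 with ht'
  have ht'A : t' ᵥ* A.1 = t := by
    rw [ht', vecMul_vecMul, h65_inv_mul_val, vecMul_one]
  have ht'j : t' j = 0 := by
    have h1 : t' ⬝ᵥ (A.1 *ᵥ x) = t ⬝ᵥ x := by
      rw [dotProduct_mulVec, ht'A]
    rw [hAx, htx] at h1
    simpa using h1
  have hupd : Function.update t' j 0 = t' := by
    rw [← ht'j]; exact Function.update_eq_self j t'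
  have key : A * T = tvEl j t' * A := by
    apply Subtype.ext
    show A.1 * T.1 = (tvEl j t').1 * A.1
    rw [hT, tvEl_val, hupd, mul_add, mul_one, add_mul, one_mul, mul_vecMulVec, vecMulVec_mul,
      hAx, ht'A]
  rw [mul_assoc, ← key, ← mul_assoc, inv_mul_cancel, one_mul]

/-- `A` with `A x = e_j` and `A w ∈ F e_j` or `(A w)_j = 0` -/
theorem h65_exists_normal (hκ : 2 ≤ Fintype.card κ) (j : κ) (x w : κ → F) (hx : x ≠ 0) :
    ∃ A : SpecialLinearGroup κ F, A.1 *ᵥ x = Pi.single j 1 ∧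
      ((∃ a : F, A.1 *ᵥ w = a • Pi.single j 1) ∨ (A.1 *ᵥ w) j = 0) := by
  have hej : (Pi.single j (1 : F) : κ → F) ≠ 0 := by
    intro h
    have := congrFun h j
    simp at this
  obtain ⟨A0, hA0⟩ := Cfsg.Agent.Helper66.SLN.exists_sl_mulVec hκ x (Pi.single j 1) hx hej
  by_cases hcase : ∀ i, i ≠ j → (A0.1 *ᵥ w) i = 0
  · refine ⟨A0, hA0, Or.inl ⟨(A0.1 *ᵥ w) j, ?_⟩⟩
    funext i
    by_cases hij : i = j
    · subst hij; simp
    · rw [hcase i hij]; simp [hij]
  · push Not at hcase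
    obtain ⟨i, hij, hi⟩ := hcase
    set w0 := A0.1 *ᵥ w with hw0
    set c : F := -(w0 j) / (w0 i) with hc
    have hji : j ≠ i := fun h => hij h.symm
    let B : SpecialLinearGroup κ F := ⟨Matrix.transvection j i c, Matrix.det_transvection_of_ne j i hji c⟩
    refine ⟨B * A0, ?_, Or.inr ?_⟩
    · show (B.1 * A0.1) *ᵥ x = Pi.single j 1
      rw [← mulVec_mulVec, hA0]
      show (Matrix.transvection j i c) *ᵥ (Pi.single j 1) = Pi.single j 1
      rw [Matrix.transvection, add_mulVec, one_mulVec]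
      funext k
      simp [Pi.single_apply, hij]
    · show ((B.1 * A0.1) *ᵥ w) j = 0
      rw [← mulVec_mulVec, ← hw0]
      show ((Matrix.transvection j i c) *ᵥ w0) j = 0
      rw [Matrix.transvection, add_mulVec, one_mulVec]
      simp only [Pi.add_apply, mulVec, dotProduct, Matrix.single_apply]
      simp
      rw [hc]
      field_simp
      ring

end GRP

end Cfsg.Agent.Helper65.SLN

namespace Cfsg.Agent.Helper65.SLN

open Matrix Module Cfsg.Agent.Helper93.U2 Cfsg.Agent.Helper62.SLN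

section REP

variable {F : Type*} [Field F] {κ : Type} [Fintype κ] [DecidableEq κ]
  {V : Type*} [AddCommGroup V] [Module ℂ V]
  (pr : Pairing (κ → F)) (ρ : Representation ℂ (SpecialLinearGroup (Unit ⊕ κ) F) V)

/-- GENERAL K1 (core form: S1, k1a, k1b as hypotheses): every transvection `T = 1 + x tᵀ` of `SL κ`
(`t·x = 0`) with `t·w = 0`, `w ≠ 0`, acts trivially (via `lEl`) on the weight space `wt w`. -/
theorem h65_k1_gen
    (hS1 : ∀ (A : SpecialLinearGroup κ F) (w : κ → F) (v : V), v ∈ wt pr ρ w →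
      ρ (lEl A) v ∈ wt pr ρ (A.1 *ᵥ w))
    (h1a : ∀ (j : κ) (a : F), a ≠ 0 → ∀ (t : κ → F) (v : V),
      v ∈ wt pr ρ (a • Pi.single j 1) → ρ (qEl j t) v = v)
    (h1b : ∀ (j : κ) (w : κ → F), w j = 0 → w ≠ 0 → ∀ t : κ → F, t ⬝ᵥ w = 0 →
      ∀ v ∈ wt pr ρ w, ρ (qEl j t) v = v)
    (hκ : 2 ≤ Fintype.card κ) (x t w : κ → F) (htx : t ⬝ᵥ x = 0) (htw : t ⬝ᵥ w = 0) (hw : w ≠ 0)
    (T : SpecialLinearGroup κ F) (hT : T.1 = 1 + vecMulVec x t)
    (v : V) (hv : v ∈ wt pr ρ w) : ρ (lEl T) v = v := by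
  by_cases hx : x = 0
  · have hT1 : T = 1 := by
      apply Subtype.ext
      rw [hT, hx]
      simp [vecMulVec]
      rfl
    rw [hT1, Cfsg.Agent.Helper66.SLN.lEl_one, map_one]
    rfl
  · have hne : Nonempty κ := by
      rw [← Fintype.card_pos_iff]; omega
    obtain ⟨j⟩ := hne
    obtain ⟨A, hAx, hAw⟩ := h65_exists_normal hκ j x w hx
    have hTeq := h65_conj_tv A j x t hAx htx T hT
    set t' : κ → F := t ᵥ* (A⁻¹ : SpecialLinearGroup κ F).1 with ht'
    have ht'w : t' ⬝ᵥ (A.1 *ᵥ w) = 0 := by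
      rw [dotProduct_mulVec, ht', vecMul_vecMul, h65_inv_mul_val, vecMul_one, htw]
    have hAw0 : A.1 *ᵥ w ≠ 0 := by
      intro h0
      apply hw
      have : (A⁻¹ : SpecialLinearGroup κ F).1 *ᵥ (A.1 *ᵥ w) = 0 := by rw [h0, mulVec_zero]
      rwa [mulVec_mulVec, h65_inv_mul_val, one_mulVec] at this
    have hv' : ρ (lEl A) v ∈ wt pr ρ (A.1 *ᵥ w) := hS1 A w v hv
    have hfix : ρ (qEl j t') (ρ (lEl A) v) = ρ (lEl A) v := by
      rcases hAw with ⟨a, ha⟩ | hj0
      · have ha0 : a ≠ 0 := by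
          intro h0
          apply hAw0
          rw [ha, h0, zero_smul]
        rw [ha] at hv'
        exact h1a j a ha0 t' _ hv'
      · exact h1b j _ hj0 hAw0 t' ht'w _ hv'
    have hl : lEl T = lEl A⁻¹ * qEl j t' * lEl A := by
      rw [hTeq, Cfsg.Agent.Helper66.SLN.lEl_mul, Cfsg.Agent.Helper66.SLN.lEl_mul]
      rfl
    rw [hl, map_mul, map_mul]
    show ρ (lEl A⁻¹) (ρ (qEl j t') (ρ (lEl A) v)) = v
    rw [hfix]
    have : ρ (lEl A⁻¹) (ρ (lEl A) v) = (ρ (lEl A⁻¹ * lEl A)) v := by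
      rw [map_mul]; rfl
    rw [this, ← Cfsg.Agent.Helper66.SLN.lEl_mul, inv_mul_cancel,
      Cfsg.Agent.Helper66.SLN.lEl_one, map_one]
    rfl

end REP

end Cfsg.Agent.Helper65.SLN
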