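import Mathlib
import Cfsg.Agent.Lib.Helper65.SRT1

/-!
# SR (T3): a vector with nonzero level-1 entry is cyclic for `1 + T` (helper2 server, S2281)
-/

set_option autoImplicit false

namespace Cfsg.Agent.Helper65.SR

open Matrix

section T
variable {F : Type*} [Field F] {ι : Type*} [Fintype ι] [DecidableEq ι]

/-- (T3) downward induction on the level, using T1 T2 -/
theorem tri_cyclic (lv : ι → ℕ) (hinj : Function.Injective lv)
    (hsurj : ∀ a, ∀ j < lv a, ∃ b, lv b = j)
    (T : Matrix ι ι F) (hT : ∀ a b, lv a ≤ lv b → T a b = 0)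
    (hsub : ∀ a b, lv a = lv b + 1 → T a b ≠ 0)
    (S : Submodule F (ι → F)) (x : ι → F) (hxS : x ∈ S)
    (hx0 : ∀ b, lv b < 1 → x b = 0) (hx1 : ∃ b, lv b = 1 ∧ x b ≠ 0)
    (hS : ∀ y ∈ S, (1 + T) *ᵥ y ∈ S) :
    ∀ y : ι → F, (∀ b, lv b < 1 → y b = 0) → y ∈ S := by
  -- `S` is `T`-invariant
  have hTS : ∀ y ∈ S, T *ᵥ y ∈ S := by
    intro y hy
    have h1 := hS y hy
    rw [add_mulVec, one_mulVec] at h1
    have := S.sub_mem h1 hy
    rwa [add_sub_cancel_left] at this
  have hpow : ∀ k : ℕ, (T ^ k) *ᵥ x ∈ S := by
    intro k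
    induction k with
    | zero => rw [pow_zero, one_mulVec]; exact hxS
    | succ k ih => rw [pow_succ', ← mulVec_mulVec]; exact hTS _ ih
  -- a bound for the levels
  set D : ℕ := Finset.univ.sup lv + 1 with hD
  have hlt : ∀ a, lv a < D := fun a => Nat.lt_succ_of_le (Finset.le_sup (f := lv) (Finset.mem_univ a))
  have key : ∀ m r : ℕ, 1 ≤ r → D ≤ r + m → ∀ y : ι → F, (∀ b, lv b < r → y b = 0) → y ∈ S := by
    intro m
    induction m with
    | zero =>
      intro r _ hDr y hy
      have : y = 0 := by
        funext b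
        exact hy b (lt_of_lt_of_le (hlt b) (by omega))
      rw [this]; exact S.zero_mem
    | succ m ih =>
      intro r hr hDr y hy
      by_cases hex : ∃ b, lv b = r
      · obtain ⟨br, hbr⟩ := hex
        set x' : ι → F := (T ^ (r - 1)) *ᵥ x with hx'
        have hx'S : x' ∈ S := hpow (r - 1)
        have hx'0 : ∀ b, lv b < r → x' b = 0 := by
          intro b hb
          exact tri_iter lv T hT (r - 1) 1 x hx0 b (by omega)
        have hc : x' br ≠ 0 :=
          tri_iter_ne lv hinj hsurj T hT hsub (r - 1) 1 x hx0 hx1 br (by omega)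
        set z : ι → F := y - (y br / x' br) • x' with hz
        have hzS : z ∈ S := by
          apply ih (r + 1) (by omega) (by omega)
          intro b hb
          rw [hz, Pi.sub_apply, Pi.smul_apply, smul_eq_mul]
          by_cases hb' : lv b < r
          · rw [hy b hb', hx'0 b hb', mul_zero, sub_zero]
          · have : b = br := hinj (by omega)
            rw [this, div_mul_cancel₀ _ hc, sub_self]
        have : y = z + (y br / x' br) • x' := by rw [hz, sub_add_cancel]
        rw [this]
        exact S.add_mem hzS (S.smul_mem _ hx'S)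
      · push Not at hex
        apply ih (r + 1) (by omega) (by omega)
        intro b hb
        have hne := hex b
        exact hy b (by omega)
  intro y hy
  exact key D 1 le_rfl (by omega) y hy

end T

end Cfsg.Agent.Helper65.SR
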