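import Mathlib
import Cfsg.Agent.Lib.Helper17.Sieve
import Cfsg.Agent.Lib.Helper17.SieveInter
import Cfsg.Agent.Lib.Helper17.IndexNormalizer

/-!
# No simple group of order 4212 = 2^2 * 3^4 * 13 (for helper17's S0983 order server)
-/

set_option autoImplicit false

namespace Cfsg.Agent.Helper65.SV

open Nat Cfsg.Agent.Helper17 Cfsg.Agent.Helper17.Sieve

/-- If `|G| = p ^ k * m` (`k ≥ 2`) and the number of Sylow `p`-subgroups is not `1` modulo `p ^ 2`, there is
a proper subgroup `N` (the normalizer of a Sylow intersection of index `p`) and `r ≥ p` with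
`r * N.index = m`. (Body = the first half of `Helper17.Sieve.inter_kill`.) -/
theorem h65_large_inter_normalizer {G : Type*} [Group G] [Finite G] [IsSimpleGroup G]
    (p k m : ℕ) [hp : Fact p.Prime] (hk : 2 ≤ k) (hn : Nat.card G = p ^ k * m) (hpm : ¬ p ∣ m)
    (hmod : ¬ Nat.card (Sylow p G) ≡ 1 [MOD p ^ 2]) :
    ∃ N : Subgroup G, N ≠ ⊤ ∧ ∃ r : ℕ, p ≤ r ∧ r * N.index = m := by
  obtain ⟨P⟩ : Nonempty (Sylow p G) := inferInstance
  obtain ⟨R, hPR, hidx⟩ := exists_sylow_large_inter p 2 hmod P
  have hcP : Nat.card (P : Subgroup G) = p ^ k := sylow_card_eq P hn hpm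
  have hcR : Nat.card (R : Subgroup G) = p ^ k := sylow_card_eq R hn hpm
  have hp1 : 1 < p := hp.out.one_lt
  have hppos : 0 < p := hp.out.pos
  change (R : Subgroup G).relIndex (P : Subgroup G) ≤ p ^ (2 - 1) at hidx
  rw [show 2 - 1 = 1 from rfl, pow_one] at hidx
  have hd : (R : Subgroup G).relIndex (P : Subgroup G) ∣ p ^ k := by
    rw [← hcP]; exact Subgroup.relIndex_dvd_card _ _
  have hne : (R : Subgroup G).relIndex (P : Subgroup G) ≠ 1 := by
    intro h1
    rw [Subgroup.relIndex_eq_one] at h1
    apply hPR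
    apply Sylow.ext
    exact Subgroup.eq_of_le_of_card_ge h1 (by rw [hcP, hcR])
  have h5 : (R : Subgroup G).relIndex (P : Subgroup G) = p := by
    obtain ⟨e, _, he⟩ := (Nat.dvd_prime_pow hp.out).1 hd
    rw [he] at hidx hne ⊢
    have he0 : e ≠ 0 := by rintro rfl; exact hne (pow_zero p)
    have he1 : e ≤ 1 := by
      by_contra hgt
      push Not at hgt
      have : p ^ 1 < p ^ e := Nat.pow_lt_pow_right hp1 hgt
      rw [pow_one] at this
      omega
    have : e = 1 := by omega
    rw [this, pow_one]
  have h5' : (P : Subgroup G).relIndex (R : Subgroup G) = p := by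
    rw [← sylow_relIndex_symm]; exact h5
  have hcD : Nat.card ↥((P : Subgroup G) ⊓ (R : Subgroup G)) * p = p ^ k := by
    have := card_inf_mul_relIndex (P : Subgroup G) (R : Subgroup G)
    rw [h5', hcR] at this
    exact this
  set D : Subgroup G := (P : Subgroup G) ⊓ (R : Subgroup G) with hD
  have hcD' : Nat.card D = p ^ (k - 1) := by
    have h1 : p ^ k = p ^ (k - 1) * p := by
      rw [← pow_succ]; congr 1; omega
    rw [h1] at hcD
    exact Nat.eq_of_mul_eq_mul_right hppos hcD
  have hPN : (P : Subgroup G) ≤ Subgroup.normalizer (D : Set G) :=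
    le_normalizer_inf_of_relIndex_eq_prime P R h5
  have hRN : (R : Subgroup G) ≤ Subgroup.normalizer (D : Set G) := by
    rw [hD, inf_comm]
    exact le_normalizer_inf_of_relIndex_eq_prime R P h5'
  set N : Subgroup G := Subgroup.normalizer (D : Set G) with hN
  have hm0 : m ≠ 0 := fun h0 => hpm (h0 ▸ dvd_zero p)
  have hNtop : N ≠ ⊤ := by
    intro htop
    have hnorm : D.Normal := Subgroup.normalizer_eq_top_iff.1 htop
    apply normal_card_absurd D hnorm
    · rw [hcD']
      exact (Nat.one_lt_pow (by omega) hp1).ne'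
    · rw [hcD', hn]
      intro h
      have h1 : p ^ (k - 1) < p ^ k := Nat.pow_lt_pow_right hp1 (by omega)
      have h2 : p ^ k ≤ p ^ k * m := Nat.le_mul_of_pos_right _ (Nat.pos_of_ne_zero hm0)
      omega
  have h1 := Subgroup.relIndex_mul_index hPN
  have hPi : (P : Subgroup G).index = m := sylow_index_eq P hn hpm
  rw [hPi] at h1
  have hrel : (P : Subgroup G).relIndex (R : Subgroup G) ≤ (P : Subgroup G).relIndex N := by
    apply Subgroup.relIndex_le_of_le_right hRN
    intro h0
    rw [h0, zero_mul] at h1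
    exact hm0 h1.symm
  rw [h5'] at hrel
  exact ⟨N, hNtop, _, hrel, h1⟩

theorem h65_aux52 : ∀ r i : ℕ, 3 ≤ r → r * i = 52 → i = 1 ∨ i = 2 ∨ i = 4 ∨ i = 13 := by
  intro r i hr h
  have hi : i ∣ 52 := Dvd.intro_left _ h
  have hi52 : i ≤ 52 := Nat.le_of_dvd (by norm_num) hi
  have hr52 : r ≤ 52 := Nat.le_of_dvd (by norm_num) (Dvd.intro _ h)
  interval_cases i <;> omega

/-- No simple group has order `4212 = 2^2 * 3^4 * 13`. -/
theorem no_4212.{u} : NoSimple.{u} 4212 := by
  intro G _ _ _ hna hG
  have h13 : Fact (Nat.Prime 13) := ⟨by norm_num⟩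
  have h3 : Fact (Nat.Prime 3) := ⟨by norm_num⟩
  -- Sylow 13
  have hG13 : Nat.card G = 13 ^ 1 * 324 := by rw [hG]; norm_num
  obtain ⟨hd13, hm13⟩ := sylow_count (G := G) (p := 13) hG13 (by norm_num)
  have hne13 := sylow_count_ne_one (G := G) (p := 13) hG13 (by norm_num) one_ne_zero (by norm_num)
  have hn13 : Nat.card (Sylow 13 G) = 27 := by
    have hle : Nat.card (Sylow 13 G) ≤ 324 := Nat.le_of_dvd (by norm_num) hd13
    generalize Nat.card (Sylow 13 G) = n at *
    interval_cases n <;> omega
  obtain ⟨P⟩ : Nonempty (Sylow 13 G) := inferInstance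
  have hP : Nat.card (P : Subgroup G) = 13 := by
    have := sylow_card_eq P hG13 (by norm_num)
    simpa using this
  have hNP : Nat.card ↥(Subgroup.normalizer ((P : Subgroup G) : Set G)) = 156 := by
    have := card_normalizer_mul_sylow_count P
    rw [hn13, hG] at this
    omega
  -- a subgroup of index 13
  have key : ∃ H : Subgroup G, H ≠ ⊤ ∧ H.index = 13 := by
    have hG3 : Nat.card G = 3 ^ 4 * 52 := by rw [hG]; norm_num
    obtain ⟨hd3, hm3⟩ := sylow_count (G := G) (p := 3) hG3 (by norm_num)
    have hne3 := sylow_count_ne_one (G := G) (p := 3) hG3 (by norm_num) (by norm_num) (by norm_num)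
    have hfact3 := sylow_count_factorial (p := 3) hna hne3
    have hcases : Nat.card (Sylow 3 G) = 13 ∨ Nat.card (Sylow 3 G) = 52 := by
      have hle : Nat.card (Sylow 3 G) ≤ 52 := Nat.le_of_dvd (by norm_num) hd3
      rw [hG] at hfact3
      generalize Nat.card (Sylow 3 G) = n at *
      interval_cases n <;> first | omega | (exfalso; revert hfact3; decide)
    rcases hcases with h13' | h52
    · obtain ⟨Q⟩ : Nonempty (Sylow 3 G) := inferInstance
      refine ⟨Subgroup.normalizer ((Q : Subgroup G) : Set G), ?_, ?_⟩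
      · intro htop
        have := Q.card_eq_index_normalizer
        change _ = (Subgroup.normalizer ((Q : Subgroup G) : Set G)).index at this
        rw [htop, Subgroup.index_top, h13'] at this
        norm_num at this
      · have := Q.card_eq_index_normalizer
        change _ = (Subgroup.normalizer ((Q : Subgroup G) : Set G)).index at this
        rw [← this, h13']
    · obtain ⟨N, hNtop, r, hr, hri⟩ := h65_large_inter_normalizer (G := G) 3 4 52 (by norm_num) hG3
        (by norm_num) (by rw [h52]; decide)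
      refine ⟨N, hNtop, ?_⟩
      have hf := two_mul_card_dvd_factorial hna N hNtop
      rw [hG] at hf
      rcases h65_aux52 r N.index hr hri with h | h | h | h
      · exact absurd (Subgroup.index_eq_one.1 h) hNtop
      · rw [h] at hf; exfalso; revert hf; decide
      · rw [h] at hf; exfalso; revert hf; decide
      · exact h
  obtain ⟨H, hH, hidx⟩ := key
  have := two_mul_card_normalizer_dvd_of_index hna (p := 13) (by norm_num) P hP H hH (Or.inl hidx)
  rw [hNP] at this
  revert this; decide

end Cfsg.Agent.Helper65.SV
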