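import Mathlib
import Cfsg.Agent.S1017
import Cfsg.Agent.Lib.Helper17.Sieve
import Cfsg.Agent.Lib.Helper17.SylowCount

/-!
# No simple group of order 5148 = 2^2 * 3^2 * 11 * 13 (for helper17's S0983 order server)

`n_11 = 78`, `|N(P)| = 66`, `|C(P)| = 33`; `x` of order 3 in `C(P)` fixes 12 or 45 Sylow 11-subgroups, and
`|C(x)| = f * |N(P) ∩ C(x)|` forces `|C(x)| = 396`, index 13. A generator `y` of `P` fixes a second coset
`g C(x)`, so `g x g⁻¹ ∈ C(P)` has order 3, hence lies in `⟨x⟩`: `g` normalizes `⟨x⟩` but `g ∉ C(x)`, and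
`N(⟨x⟩) > C(x)` of index 13 is everything: `⟨x⟩` is normal.
-/

set_option autoImplicit false

namespace Cfsg.Agent.Helper65.SV

open Nat Cfsg.Agent.Helper17 Cfsg.Agent.Helper17.Sieve MulAction

/-- No simple group has order `5148 = 2^2 * 3^2 * 11 * 13`. -/
theorem no_5148.{u} : NoSimple.{u} 5148 := by
  intro G _ _ _ hna hG
  have h11 : Fact (Nat.Prime 11) := ⟨by norm_num⟩
  have h3 : Fact (Nat.Prime 3) := ⟨by norm_num⟩
  have hG11 : Nat.card G = 11 ^ 1 * 468 := by rw [hG]; norm_num
  obtain ⟨hd11, hm11⟩ := sylow_count (G := G) (p := 11) hG11 (by norm_num)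
  have hne11 := sylow_count_ne_one (G := G) (p := 11) hG11 (by norm_num) one_ne_zero (by norm_num)
  have hfact11 := sylow_count_factorial (p := 11) hna hne11
  have hn11 : Nat.card (Sylow 11 G) = 78 := by
    have hle : Nat.card (Sylow 11 G) ≤ 468 := Nat.le_of_dvd (by norm_num) hd11
    rw [hG] at hfact11
    generalize Nat.card (Sylow 11 G) = n at *
    interval_cases n <;> first | omega | (exfalso; revert hfact11; decide)
  obtain ⟨P⟩ : Nonempty (Sylow 11 G) := inferInstance
  have hP : Nat.card (P : Subgroup G) = 11 := by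
    have := sylow_card_eq P hG11 (by norm_num)
    simpa using this
  have hNP : Nat.card ↥(Subgroup.normalizer ((P : Subgroup G) : Set G)) = 66 := by
    have := card_normalizer_mul_sylow_count P
    rw [hn11, hG] at this
    omega
  obtain ⟨k, c, hk, hk1, hC, hN⟩ :=
    Cfsg.Agent.S1017.normalizer_structure P hP (by rw [hG]; norm_num)
  have hC33 : Nat.card (Subgroup.centralizer ((P : Subgroup G) : Set G)) = 11 * 3 := by
    rw [hNP] at hN
    have hk10 : k ≤ 10 := Nat.le_of_dvd (by norm_num) hk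
    have : c = 3 := by
      interval_cases k <;> omega
    rw [hC, this]
  -- an element of order 3 in C(P)
  obtain ⟨x', hx'⟩ := exists_prime_orderOf_dvd_card'
    (G := ↥(Subgroup.centralizer ((P : Subgroup G) : Set G))) 3 (by rw [hC33]; norm_num)
  obtain ⟨x, hxdef⟩ : ∃ x : G, x = (x' : G) := ⟨_, rfl⟩
  have hx3 : orderOf x = 3 := by rw [hxdef, Subgroup.orderOf_coe, hx']
  have hxC : x ∈ Subgroup.centralizer ((P : Subgroup G) : Set G) := hxdef ▸ x'.2
  have hx1 : x ≠ 1 := Cfsg.Agent.S1017.ne_one_of_orderOf_prime x (by norm_num) hx3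
  -- fixed points of x on Syl_11
  have hf11 := Cfsg.Agent.S1017.card_fixedBy_sylow_modEq P hP x hxC
  have hf3 := Cfsg.Agent.S1017.card_modEq_card_fixedBy (α := Sylow 11 G) x hx3
  have hfle := Cfsg.Agent.S1017.card_fixedBy_le (α := Sylow 11 G) x
  have hfne := Cfsg.Agent.S1017.card_fixedBy_ne (α := Sylow 11 G)
    (Cfsg.Agent.S1017.sylow_action_nontrivial (p := 11) (by rw [hn11]; norm_num)) x hx1
  rw [hn11] at hf3 hfle hfne
  have hfcases : Nat.card (fixedBy (Sylow 11 G) x) = 12 ∨ Nat.card (fixedBy (Sylow 11 G) x) = 45 := by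
    unfold Nat.ModEq at hf11 hf3
    omega
  have hcent := Cfsg.Agent.S1017.card_centralizer_eq P hP x hxC
    (by rw [hn11]; rcases hfcases with h | h <;> rw [h] <;> norm_num)
  set H : Subgroup G := Subgroup.centralizer ({x} : Set G) with hH
  set M' : Subgroup G := Subgroup.normalizer ((P : Subgroup G) : Set G) ⊓ H with hM'
  have hM'66 : Nat.card M' ∣ 66 := by rw [← hNP]; exact Subgroup.card_dvd_of_le inf_le_left
  have hPH : (P : Subgroup G) ≤ H := (Cfsg.Agent.S1017.le_centralizer_singleton_iff _ x).2 hxC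
  have h11M : 11 ∣ Nat.card M' := by
    rw [← hP]; exact Subgroup.card_dvd_of_le (le_inf Subgroup.le_normalizer hPH)
  have hxH : x ∈ H := Subgroup.mem_centralizer_singleton_iff.2 rfl
  have h3M : 3 ∣ Nat.card M' := by
    have hle : Subgroup.zpowers x ≤ M' := by
      rw [Subgroup.zpowers_le]
      exact ⟨Subgroup.centralizer_le_normalizer _ hxC, hxH⟩
    have h := Subgroup.card_dvd_of_le hle
    rwa [Nat.card_zpowers, hx3] at h
  have hHdvd : Nat.card H ∣ 5148 := by rw [← hG]; exact Subgroup.card_subgroup_dvd_card H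
  have hH396 : Nat.card H = 396 := by
    have hMc : Nat.card M' = 33 ∨ Nat.card M' = 66 := by
      have hle : Nat.card M' ≤ 66 := Nat.le_of_dvd (by norm_num) hM'66
      generalize Nat.card M' = m at *
      interval_cases m <;> omega
    rw [hcent] at hHdvd ⊢
    rcases hfcases with h | h <;> rcases hMc with h' | h' <;> rw [h, h'] at hHdvd ⊢ <;>
      first | rfl | (exfalso; revert hHdvd; decide)
  have hidx : H.index = 13 := by
    have := H.card_mul_index
    rw [hH396, hG] at this
    omega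
  -- a generator y of P
  obtain ⟨y', hy'⟩ := exists_prime_orderOf_dvd_card' (G := ↥(P : Subgroup G)) 11 (by rw [hP])
  obtain ⟨y, hydef⟩ : ∃ y : G, y = (y' : G) := ⟨_, rfl⟩
  have hy11 : orderOf y = 11 := by rw [hydef, Subgroup.orderOf_coe]; exact hy'
  have hyP : y ∈ (P : Subgroup G) := hydef ▸ y'.2
  have hy1 : y ≠ 1 := Cfsg.Agent.S1017.ne_one_of_orderOf_prime y (by norm_num) hy11
  have hyH : y ∈ H := hPH hyP
  have hzP := (Cfsg.Agent.S1017.zpowers_eq_of_card_prime (P : Subgroup G) hP y hyP hy1).1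
  have hfy := Cfsg.Agent.S1017.card_modEq_card_fixedBy (α := G ⧸ H) y hy11
  have hcardX : Nat.card (G ⧸ H) = 13 := hidx
  have hbase := Cfsg.Agent.S1017.coset_fixed H y hyH
  have hex : ∃ a : G ⧸ H, a ∈ fixedBy (G ⧸ H) y ∧ a ≠ ((1 : G) : G ⧸ H) := by
    by_contra hcon
    push Not at hcon
    have hset : fixedBy (G ⧸ H) y = {((1 : G) : G ⧸ H)} := by
      ext a
      constructor
      · intro ha; exact hcon a ha
      · rintro rfl; exact hbase
    rw [hset, hcardX, Nat.card_coe_set_eq, Set.ncard_singleton] at hfy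
    revert hfy; decide
  obtain ⟨a, haf, hane⟩ := hex
  obtain ⟨g, rfl⟩ := QuotientGroup.mk_surjective a
  have hgH : g ∉ H := by
    intro hg
    apply hane
    rw [QuotientGroup.eq]
    simpa using hg
  have hconj : g⁻¹ * y * g ∈ H := by
    rw [mem_fixedBy, MulAction.Quotient.smul_mk, QuotientGroup.eq] at haf
    have h1 : (y • g)⁻¹ * g = (g⁻¹ * y * g)⁻¹ := by
      simp [smul_eq_mul, mul_assoc]
    rw [h1] at haf
    exact (Subgroup.inv_mem_iff H).1 haf
  -- z = g x g⁻¹ centralizes P
  set z : G := g * x * g⁻¹ with hz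
  have hcomm : Commute y z := by
    have h1 : x * (g⁻¹ * y * g) = (g⁻¹ * y * g) * x := (Subgroup.mem_centralizer_singleton_iff.1 hconj).symm
    have h2 : y * z = g * ((g⁻¹ * y * g) * x) * g⁻¹ := by rw [hz]; group
    have h3 : z * y = g * (x * (g⁻¹ * y * g)) * g⁻¹ := by rw [hz]; group
    show y * z = z * y
    rw [h2, h3, h1]
  have hzC : z ∈ Subgroup.centralizer ((P : Subgroup G) : Set G) := by
    rw [Subgroup.mem_centralizer_iff]
    intro w hw
    have hw' : w ∈ Subgroup.zpowers y := by rw [hzP]; exact hw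
    obtain ⟨n, rfl⟩ := Subgroup.mem_zpowers_iff.1 hw'
    exact (hcomm.zpow_left n).eq
  have hz3 : z ^ 3 = 1 := by
    rw [hz, conj_pow, ← hx3, pow_orderOf_eq_one]; group
  have hzmem : z ∈ Subgroup.zpowers x :=
    Cfsg.Agent.Helper17.SylowCount.mem_zpowers_of_pow_eq_one (p := 11) (r := 3) (by norm_num) (by norm_num) (P : Subgroup G) hP hC33 x
      hxC hx3 z hzC hz3
  -- the normalizer of ⟨x⟩
  set M : Subgroup G := Subgroup.normalizer ((Subgroup.zpowers x : Subgroup G) : Set G) with hM
  have hgM : g ∈ M := by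
    apply Subgroup.mem_normalizer_fintype
    intro n hn
    obtain ⟨i, rfl⟩ := Subgroup.mem_zpowers_iff.1 hn
    have : g * x ^ i * g⁻¹ = z ^ i := by rw [hz, conj_zpow]
    rw [this]
    exact Subgroup.zpow_mem _ hzmem i
  have hHM : H ≤ M := by
    intro h hh
    apply Subgroup.mem_normalizer_fintype
    intro n hn
    obtain ⟨i, rfl⟩ := Subgroup.mem_zpowers_iff.1 hn
    have hc : Commute x h := (Subgroup.mem_centralizer_singleton_iff.1 hh).symm
    have : h * x ^ i * h⁻¹ = x ^ i := by
      have := (hc.zpow_left i).eq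
      rw [← this]; group
    rw [this]
    exact Subgroup.zpow_mem _ (Subgroup.mem_zpowers x) i
  have hcardlt : Nat.card M ≠ Nat.card H := by
    intro h
    have heq : H = M := Subgroup.eq_of_le_of_card_ge hHM (by rw [h])
    exact hgH (heq ▸ hgM)
  have hd1 : Nat.card H ∣ Nat.card M := Subgroup.card_dvd_of_le hHM
  have hd2 : Nat.card M ∣ 5148 := by rw [← hG]; exact Subgroup.card_subgroup_dvd_card M
  have hMcard : Nat.card M = 5148 := by
    rw [hH396] at hcardlt hd1
    obtain ⟨j, hj⟩ := hd1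
    rw [hj] at hd2 hcardlt ⊢
    have hj13 : j ∣ 13 := by
      have : 396 * j ∣ 396 * 13 := by norm_num; exact hd2
      exact Nat.dvd_of_mul_dvd_mul_left (by norm_num) this
    have hjle : j ≤ 13 := Nat.le_of_dvd (by norm_num) hj13
    interval_cases j <;> omega
  have hMtop : M = ⊤ := by
    rw [← Subgroup.card_eq_iff_eq_top, hMcard, hG]
  have hnorm : (Subgroup.zpowers x).Normal := Subgroup.normalizer_eq_top_iff.1 hMtop
  apply normal_card_absurd (Subgroup.zpowers x) hnorm
  · rw [Nat.card_zpowers, hx3]; norm_num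
  · rw [Nat.card_zpowers, hx3, hG]; norm_num

end Cfsg.Agent.Helper65.SV
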