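import Mathlib
import Cfsg.Agent.Lib.Helper84.Sp4Defs

set_option autoImplicit false

namespace Cfsg.Agent.Helper65.Sp4

open Matrix Cfsg.Agent.Helper84.Sp4

variable {F : Type*} [Field F]

theorem h65r1_neg_one_mem_Q : (-1 : SL2 F) ∈ (Q : Subgroup (SL2 F)) := by
  apply Subgroup.mem_sup_left
  apply Subgroup.subset_closure
  refine ⟨?_, 1, ?_⟩
  · rw [Tor, Subgroup.mem_centralizer_iff]
    intro h _
    simp
  · simp

theorem h65r1_sw_mul_sw : (sw : Sp4 F) * sw = 1 := by
  apply Subtype.ext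
  show swM * swM = (1 : Matrix (Fin 2 ⊕ Fin 2) (Fin 2 ⊕ Fin 2) F)
  ext i j
  rcases i with i | i <;> rcases j with j | j <;> fin_cases i <;> fin_cases j <;>
    simp [swM, Matrix.mul_apply, Fintype.sum_sum_type, Fin.sum_univ_two]

theorem h65r1_emb_mul (A B C D : SL2 F) : (emb (A, B) : Sp4 F) * emb (C, D) = emb (A * C, B * D) := by
  rw [← map_mul, Prod.mk_mul_mk]

theorem h65r1_emb_one : (emb ((1, 1) : SL2 F × SL2 F) : Sp4 F) = 1 := map_one emb

/-- the normal form of the elements of `R1` -/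
def h65R1Form (g : Sp4 F) : Prop :=
  ∃ b ∈ (Q : Subgroup (SL2 F)), ∃ e : SL2 F, (e = 1 ∨ e = -1) ∧ ∃ d : Sp4 F, (d = 1 ∨ d = sw) ∧
    g = emb (b, e * b) * d

theorem h65r1_form_mul (hsw : ∀ A B : SL2 F, (sw : Sp4 F) * emb (A, B) * sw⁻¹ = emb (B, A))
    {g g' : Sp4 F} (hg : h65R1Form g) (hg' : h65R1Form g') : h65R1Form (g * g') := by
  obtain ⟨b, hb, e, he, d, hd, rfl⟩ := hg
  obtain ⟨c, hc, e', he', d', hd', rfl⟩ := hg'
  have hswc : ∀ A B : SL2 F, (sw : Sp4 F) * emb (A, B) = emb (B, A) * sw := by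
    intro A B
    rw [← hsw A B, inv_mul_cancel_right]
  have hee : e * e' = 1 ∨ e * e' = -1 := by
    rcases he with rfl | rfl <;> rcases he' with rfl | rfl <;> simp
  have he'Q : e' ∈ (Q : Subgroup (SL2 F)) := by
    rcases he' with rfl | rfl
    · exact Subgroup.one_mem _
    · exact h65r1_neg_one_mem_Q
  rcases hd with rfl | rfl
  · refine ⟨b * c, Subgroup.mul_mem _ hb hc, e * e', hee, d', hd', ?_⟩
    rw [mul_one, ← mul_assoc, h65r1_emb_mul]
    congr 3
    rcases he with rfl | rfl <;> rcases he' with rfl | rfl <;> simp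
  · refine ⟨b * (e' * c), Subgroup.mul_mem _ hb (Subgroup.mul_mem _ he'Q hc), e * e', hee,
      sw * d', ?_, ?_⟩
    · rcases hd' with rfl | rfl
      · right; rw [mul_one]
      · left; exact h65r1_sw_mul_sw
    · rw [mul_assoc (emb (b, e * b)) sw, ← mul_assoc sw, hswc, mul_assoc (emb (e' * c, c)),
        ← mul_assoc (emb (b, e * b)), h65r1_emb_mul]
      congr 3
      rcases he with rfl | rfl <;> rcases he' with rfl | rfl <;> simp

theorem h65r1_form_inv (hsw : ∀ A B : SL2 F, (sw : Sp4 F) * emb (A, B) * sw⁻¹ = emb (B, A))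
    {g : Sp4 F} (hg : h65R1Form g) : h65R1Form g⁻¹ := by
  obtain ⟨b, hb, e, he, d, hd, rfl⟩ := hg
  have hswc : ∀ A B : SL2 F, (sw : Sp4 F) * emb (A, B) = emb (B, A) * sw := by
    intro A B
    rw [← hsw A B, inv_mul_cancel_right]
  have heQ : e ∈ (Q : Subgroup (SL2 F)) := by
    rcases he with rfl | rfl
    · exact Subgroup.one_mem _
    · exact h65r1_neg_one_mem_Q
  have hswinv : (sw : Sp4 F)⁻¹ = sw := inv_eq_of_mul_eq_one_left h65r1_sw_mul_sw
  have hinv : ∀ A B : SL2 F, (emb (A, B) : Sp4 F)⁻¹ = emb (A⁻¹, B⁻¹) := by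
    intro A B
    rw [← map_inv, Prod.inv_mk]
  rcases hd with rfl | rfl
  · refine ⟨b⁻¹, Subgroup.inv_mem _ hb, e, he, 1, Or.inl rfl, ?_⟩
    rw [mul_one, mul_one, hinv]
    congr 3
    rcases he with rfl | rfl <;> simp
  · refine ⟨e * b⁻¹, Subgroup.mul_mem _ heQ (Subgroup.inv_mem _ hb), e, he, sw, Or.inr rfl, ?_⟩
    rw [_root_.mul_inv_rev, hswinv, hinv, hswc]
    congr 3 <;> (rcases he with rfl | rfl <;> simp)

/-! ### (R1A) membership in `R1` -/

theorem mem_R1_iff [Finite F] (h2 : (2 : F) ≠ 0)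
    (hsw : ∀ A B : SL2 F, (sw : Sp4 F) * emb (A, B) * sw⁻¹ = emb (B, A)) (g : Sp4 F) :
    g ∈ (R1 : Subgroup (Sp4 F)) ↔ ∃ b ∈ (Q : Subgroup (SL2 F)),
      g = emb (b, b) ∨ g = emb (b, -b) ∨ g = emb (b, b) * sw ∨ g = emb (b, -b) * sw := by
  have hform : g ∈ (R1 : Subgroup (Sp4 F)) ↔ h65R1Form g := by
    constructor
    · intro hg
      have hle : (R1 : Subgroup (Sp4 F)) ≤
          { carrier := {g | h65R1Form g}
            mul_mem' := fun ha hb => h65r1_form_mul hsw ha hb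
            one_mem' := ⟨1, Subgroup.one_mem _, 1, Or.inl rfl, 1, Or.inl rfl, by
              rw [mul_one, mul_one, h65r1_emb_one]⟩
            inv_mem' := fun ha => h65r1_form_inv hsw ha } := by
        rw [R1, Subgroup.closure_le]
        rintro x (⟨b, hb, rfl⟩ | hx)
        · exact ⟨b, hb, 1, Or.inl rfl, 1, Or.inl rfl, by rw [one_mul, mul_one]⟩
        · rcases hx with rfl | hx
          · refine ⟨-1, h65r1_neg_one_mem_Q, -1, Or.inr rfl, 1, Or.inl rfl, ?_⟩
            rw [mul_one, tt]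
            congr 2
            simp
          · rw [Set.mem_singleton_iff] at hx
            subst hx
            exact ⟨1, Subgroup.one_mem _, 1, Or.inl rfl, sw, Or.inr rfl, by
              rw [mul_one, h65r1_emb_one, one_mul]⟩
      exact hle hg
    · rintro ⟨b, hb, e, he, d, hd, rfl⟩
      have hbb : ∀ c ∈ (Q : Subgroup (SL2 F)), (emb (c, c) : Sp4 F) ∈ (R1 : Subgroup (Sp4 F)) :=
        fun c hc => Subgroup.subset_closure (Or.inl ⟨c, hc, rfl⟩)
      have htt : (tt : Sp4 F) ∈ (R1 : Subgroup (Sp4 F)) :=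
        Subgroup.subset_closure (Or.inr (Or.inl rfl))
      have hswm : (sw : Sp4 F) ∈ (R1 : Subgroup (Sp4 F)) :=
        Subgroup.subset_closure (Or.inr (Or.inr rfl))
      refine Subgroup.mul_mem _ ?_ ?_
      · rcases he with rfl | rfl
        · rw [one_mul]; exact hbb b hb
        · have h1 : (emb (b, -1 * b) : Sp4 F) = emb (-b, -b) * tt := by
            rw [tt, h65r1_emb_mul]
            congr 2 <;> simp
          rw [h1]
          refine Subgroup.mul_mem _ (hbb _ ?_) htt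
          have : -b = -1 * b := by simp
          rw [this]
          exact Subgroup.mul_mem _ h65r1_neg_one_mem_Q hb
      · rcases hd with rfl | rfl
        · exact Subgroup.one_mem _
        · exact hswm
  rw [hform]
  constructor
  · rintro ⟨b, hb, e, he, d, hd, rfl⟩
    refine ⟨b, hb, ?_⟩
    rcases he with rfl | rfl <;> rcases hd with rfl | rfl
    · left; rw [one_mul, mul_one]
    · right; right; left; rw [one_mul]
    · right; left; rw [mul_one, neg_one_mul]
    · right; right; right; rw [neg_one_mul]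
  · rintro ⟨b, hb, h | h | h | h⟩
    · exact ⟨b, hb, 1, Or.inl rfl, 1, Or.inl rfl, by rw [one_mul, mul_one, h]⟩
    · exact ⟨b, hb, -1, Or.inr rfl, 1, Or.inl rfl, by rw [mul_one, neg_one_mul, h]⟩
    · exact ⟨b, hb, 1, Or.inl rfl, sw, Or.inr rfl, by rw [one_mul, h]⟩
    · exact ⟨b, hb, -1, Or.inr rfl, sw, Or.inr rfl, by rw [neg_one_mul, h]⟩

end Cfsg.Agent.Helper65.Sp4
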