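import Mathlib
import Cfsg.Agent.Lib.Helper84.Sp4Defs
import Cfsg.Agent.Lib.Helper42.Sp4B1
import Cfsg.Agent.Lib.Helper42.Sp4B2
import Cfsg.Agent.Lib.Helper42.Sp4B3
import Cfsg.Agent.Lib.Helper65.Sp4R1A

set_option autoImplicit false

namespace Cfsg.Agent.Helper65.Sp4

open Matrix Cfsg.Agent.Helper84.Sp4

variable {F : Type*} [Field F]

theorem h65dd_g1 {G : Type*} [Group G] (u h : G) :
    u * (u * (u * (u * h * u⁻¹) * u⁻¹) * u⁻¹) * u⁻¹ = u ^ 4 * h * (u ^ 4)⁻¹ := by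
  simp only [pow_succ, pow_zero, one_mul, _root_.mul_inv_rev, mul_assoc]

theorem h65dd_g2 {G : Type*} [Group G] (d u : G) :
    (d * u) ^ 2 = d * (u * d * u⁻¹) * u ^ 2 := by
  simp only [pow_succ, pow_zero, one_mul, mul_assoc, inv_mul_cancel_left]

theorem h65dd_g3 {G : Type*} [Group G] (e u : G) :
    (e⁻¹ * u ^ 2) ^ 2 = e⁻¹ * (u * (u * e⁻¹ * u⁻¹) * u⁻¹) * u ^ 4 := by
  simp only [pow_succ, pow_zero, one_mul, mul_assoc, inv_mul_cancel_left]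

theorem h65dd_g4 {G : Type*} [Group G] (d e u : G) :
    d * (d⁻¹ * e⁻¹) * u ^ 2 = e⁻¹ * u ^ 2 := by group

/-- the quaternion relation used in (DDGEN) -/
theorem h65dd_rel [Finite F] :
    ((i0 : SL2 F) * (i0 * (i0 * j0))) * (i0 * j0) = 1 := by
  have hii : (i0 : SL2 F) * i0 = -1 := Cfsg.Agent.Helper42.Sp4.i0_mul_i0
  have hjN : (j0 : SL2 F) ∈ (NTor : Set (SL2 F)) := Cfsg.Agent.Helper42.Sp4.j0_mem
  have hjj : (j0 : SL2 F) * j0 = -1 := Cfsg.Agent.Helper42.Sp4.NTor_mul_self hjN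
  have hji : (j0 : SL2 F) * i0 * j0⁻¹ = i0⁻¹ := (Cfsg.Agent.Helper42.Sp4.mem_NTor_iff j0).1 hjN
  have h1 : (j0 : SL2 F) * i0 = i0⁻¹ * j0 := by
    rw [← hji]; group
  calc ((i0 : SL2 F) * (i0 * (i0 * j0))) * (i0 * j0)
      = i0 * i0 * (i0 * (j0 * i0) * j0) := by group
    _ = i0 * i0 * (i0 * (i0⁻¹ * j0) * j0) := by rw [h1]
    _ = (i0 * i0) * (j0 * j0) := by group
    _ = 1 := by rw [hii, hjj]; exact Cfsg.Agent.Helper42.Sp4.b1_neg_one_mul_neg_one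

theorem dd_mem_closure [Finite F] (h2 : (2 : F) ≠ 0)
    (hQ8 : ∀ X : SL2 F, X ∈ (Q : Subgroup (SL2 F)) ↔ X = 1 ∨ X = -1 ∨ X = i0 ∨ X = i0⁻¹ ∨
      X = j0 ∨ X = j0⁻¹ ∨ X = i0 * j0 ∨ X = (i0 * j0)⁻¹)
    (hR1 : ∀ g : Sp4 F, g ∈ (R1 : Subgroup (Sp4 F)) ↔ ∃ b ∈ (Q : Subgroup (SL2 F)),
      g = emb (b, b) ∨ g = emb (b, -b) ∨ g = emb (b, b) * sw ∨ g = emb (b, -b) * sw)
    (hdN : (dd : Sp4 F) ∈ Subgroup.normalizer ((R1 : Subgroup (Sp4 F)) : Set (Sp4 F)))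
    (hu4 : (uu : Sp4 F) ^ 4 = 1) (hut : (uu : Sp4 F) * tt * uu⁻¹ = sw)
    (hus : (uu : Sp4 F) * sw * uu⁻¹ = tt * zc)
    (hui : (uu : Sp4 F) * emb (i0, i0) * uu⁻¹ = emb (i0, i0))
    (huj : (uu : Sp4 F) * emb (j0, j0) * uu⁻¹ = emb (i0 * j0, i0 * j0))
    (hud : (uu : Sp4 F) * dd * uu⁻¹ = dd⁻¹ * emb ((i0 * j0)⁻¹, (i0 * j0)⁻¹)) :
    (dd : Sp4 F) ∈ Subgroup.closure {u : Sp4 F |
      u ∈ Subgroup.normalizer ((R1 : Subgroup (Sp4 F)) : Set (Sp4 F)) ∧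
        ∃ m : ℕ, u ^ (2 ^ m) = 1} := by
  have hii : (i0 : SL2 F) * i0 = -1 := Cfsg.Agent.Helper42.Sp4.i0_mul_i0
  have hiQ : (i0 : SL2 F) ∈ (Q : Subgroup (SL2 F)) :=
    (hQ8 i0).2 (Or.inr (Or.inr (Or.inl rfl)))
  have hjQ : (j0 : SL2 F) ∈ (Q : Subgroup (SL2 F)) :=
    (hQ8 j0).2 (Or.inr (Or.inr (Or.inr (Or.inr (Or.inl rfl)))))
  have hbb : ∀ b ∈ (Q : Subgroup (SL2 F)), (emb (b, b) : Sp4 F) ∈ (R1 : Subgroup (Sp4 F)) :=
    fun b hb => (hR1 _).2 ⟨b, hb, Or.inl rfl⟩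
  have hswR : (sw : Sp4 F) ∈ (R1 : Subgroup (Sp4 F)) :=
    (hR1 _).2 ⟨1, Subgroup.one_mem _, Or.inr (Or.inr (Or.inl (by rw [h65r1_emb_one, one_mul])))⟩
  have httR : (tt : Sp4 F) ∈ (R1 : Subgroup (Sp4 F)) :=
    (hR1 _).2 ⟨-1, h65r1_neg_one_mem_Q, Or.inr (Or.inl (by rw [tt, neg_neg]))⟩
  have hzcR : (zc : Sp4 F) ∈ (R1 : Subgroup (Sp4 F)) := hbb (-1) h65r1_neg_one_mem_Q
  -- conjugation by `uu` maps `emb (b, b)`, `b ∈ Q`, into `R1`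
  have hK : ∀ b ∈ (Q : Subgroup (SL2 F)), (uu : Sp4 F) * emb (b, b) * uu⁻¹ ∈
      (R1 : Subgroup (Sp4 F)) := by
    have hKi : (i0 : SL2 F) ∈ ((R1 : Subgroup (Sp4 F)).comap
        (MulAut.conj (uu : Sp4 F)).toMonoidHom).comap
          (emb.comp (MonoidHom.prod (MonoidHom.id (SL2 F)) (MonoidHom.id (SL2 F)))) := by
      show (uu : Sp4 F) * emb (i0, i0) * uu⁻¹ ∈ (R1 : Subgroup (Sp4 F))
      rw [hui]; exact hbb _ hiQ
    have hKj : (j0 : SL2 F) ∈ ((R1 : Subgroup (Sp4 F)).comap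
        (MulAut.conj (uu : Sp4 F)).toMonoidHom).comap
          (emb.comp (MonoidHom.prod (MonoidHom.id (SL2 F)) (MonoidHom.id (SL2 F)))) := by
      show (uu : Sp4 F) * emb (j0, j0) * uu⁻¹ ∈ (R1 : Subgroup (Sp4 F))
      rw [huj]; exact hbb _ (Subgroup.mul_mem _ hiQ hjQ)
    intro b hb
    have hbK : b ∈ ((R1 : Subgroup (Sp4 F)).comap
        (MulAut.conj (uu : Sp4 F)).toMonoidHom).comap
          (emb.comp (MonoidHom.prod (MonoidHom.id (SL2 F)) (MonoidHom.id (SL2 F)))) := by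
      rcases (hQ8 b).1 hb with rfl | rfl | rfl | rfl | rfl | rfl | rfl | rfl
      · exact Subgroup.one_mem _
      · rw [← hii]; exact Subgroup.mul_mem _ hKi hKi
      · exact hKi
      · exact Subgroup.inv_mem _ hKi
      · exact hKj
      · exact Subgroup.inv_mem _ hKj
      · exact Subgroup.mul_mem _ hKi hKj
      · exact Subgroup.inv_mem _ (Subgroup.mul_mem _ hKi hKj)
    exact hbK
  have hcR : ∀ g ∈ (R1 : Subgroup (Sp4 F)), (uu : Sp4 F) * g * uu⁻¹ ∈ (R1 : Subgroup (Sp4 F)) := by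
    have hle : (R1 : Subgroup (Sp4 F)) ≤
        (R1 : Subgroup (Sp4 F)).comap (MulAut.conj (uu : Sp4 F)).toMonoidHom := by
      conv_lhs => rw [R1]
      rw [Subgroup.closure_le]
      rintro x (⟨b, hb, rfl⟩ | hx)
      · exact hK b hb
      · rcases hx with rfl | hx
        · show (uu : Sp4 F) * tt * uu⁻¹ ∈ (R1 : Subgroup (Sp4 F))
          rw [hut]; exact hswR
        · rw [Set.mem_singleton_iff] at hx
          subst hx
          show (uu : Sp4 F) * sw * uu⁻¹ ∈ (R1 : Subgroup (Sp4 F))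
          rw [hus]; exact Subgroup.mul_mem _ httR hzcR
    intro g hg
    exact hle hg
  have huN : (uu : Sp4 F) ∈ Subgroup.normalizer ((R1 : Subgroup (Sp4 F)) : Set (Sp4 F)) := by
    rw [Subgroup.mem_normalizer_iff]
    intro h
    constructor
    · exact hcR h
    · intro hh
      have h3 := hcR _ (hcR _ (hcR _ hh))
      rw [h65dd_g1, hu4, one_mul, inv_one, mul_one] at h3
      exact h3
  -- `(dd * uu) ^ 4 = 1`
  have hEk : (emb (i0 * j0, i0 * j0) : Sp4 F) = emb (i0, i0) * emb (j0, j0) :=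
    (h65r1_emb_mul _ _ _ _).symm
  have hE : (emb ((i0 * j0)⁻¹, (i0 * j0)⁻¹) : Sp4 F) = (emb (i0, i0) * emb (j0, j0))⁻¹ := by
    rw [← hEk, ← map_inv, Prod.inv_mk]
  have hci : (MulAut.conj (uu : Sp4 F)) (emb (i0, i0)) = emb (i0, i0) := by
    rw [MulAut.conj_apply]; exact hui
  have hcj : (MulAut.conj (uu : Sp4 F)) (emb (j0, j0)) = emb (i0, i0) * emb (j0, j0) := by
    rw [MulAut.conj_apply, huj, hEk]
  have hcc : (MulAut.conj (uu : Sp4 F)) ((MulAut.conj (uu : Sp4 F))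
      ((emb (i0, i0) * emb (j0, j0))⁻¹)) =
      (emb (i0, i0) * (emb (i0, i0) * (emb (i0, i0) * emb (j0, j0))))⁻¹ := by
    rw [map_inv, map_inv, map_mul, hci, hcj, map_mul, hci, map_mul, hci, hcj]
  have hp2 : ((dd : Sp4 F) * uu) ^ 2 = (emb (i0, i0) * emb (j0, j0))⁻¹ * uu ^ 2 := by
    rw [h65dd_g2, hud, hE, h65dd_g4]
  have hp4 : ((dd : Sp4 F) * uu) ^ 4 = 1 := by
    have e1 : ((dd : Sp4 F) * uu) ^ 4 = (((dd : Sp4 F) * uu) ^ 2) ^ 2 := by rw [← pow_mul]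
    have e2 : ((emb (i0, i0) * emb (j0, j0) : Sp4 F)⁻¹ * uu ^ 2) ^ 2 =
        (emb (i0, i0) * emb (j0, j0))⁻¹ *
          ((MulAut.conj (uu : Sp4 F)) ((MulAut.conj (uu : Sp4 F))
            ((emb (i0, i0) * emb (j0, j0))⁻¹))) * uu ^ 4 := by
      rw [MulAut.conj_apply, MulAut.conj_apply]; exact h65dd_g3 _ _
    rw [e1, hp2, e2, hcc, hu4, mul_one, ← _root_.mul_inv_rev]
    simp only [h65r1_emb_mul]
    rw [h65dd_rel, h65r1_emb_one, inv_one]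
  -- conclusion
  have hmem1 : (dd : Sp4 F) * uu ∈ Subgroup.closure {u : Sp4 F |
      u ∈ Subgroup.normalizer ((R1 : Subgroup (Sp4 F)) : Set (Sp4 F)) ∧
        ∃ m : ℕ, u ^ (2 ^ m) = 1} :=
    Subgroup.subset_closure ⟨Subgroup.mul_mem _ hdN huN, 2, by
      have : (2 : ℕ) ^ 2 = 4 := by norm_num
      rw [this]; exact hp4⟩
  have hmem2 : (uu : Sp4 F)⁻¹ ∈ Subgroup.closure {u : Sp4 F |
      u ∈ Subgroup.normalizer ((R1 : Subgroup (Sp4 F)) : Set (Sp4 F)) ∧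
        ∃ m : ℕ, u ^ (2 ^ m) = 1} :=
    Subgroup.subset_closure ⟨Subgroup.inv_mem _ huN, 2, by
      have : (2 : ℕ) ^ 2 = 4 := by norm_num
      rw [this, inv_pow, hu4, inv_one]⟩
  have := Subgroup.mul_mem _ hmem1 hmem2
  rwa [mul_inv_cancel_right] at this

end Cfsg.Agent.Helper65.Sp4
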