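import Mathlib
import Cfsg.Prelude.Def_KGroupFacts

set_option autoImplicit false

namespace Cfsg.Agent.Helper65

universe u v w

section

variable {G : Type u} [CommGroup G] {Q : Type v} [Group Q] {H : Type w} [Group H]

/-- the pullback of `χ : G → Q` and `τ : H → Q` -/
def pullback (χ : G →* Q) (τ : H →* Q) : Subgroup (G × H) :=
  (χ.comp (MonoidHom.fst G H)).eqLocus (τ.comp (MonoidHom.snd G H))

theorem mem_pullback (χ : G →* Q) (τ : H →* Q) (x : G × H) :
    x ∈ pullback χ τ ↔ χ x.1 = τ x.2 := Iff.rfl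

/-- the projection of the pullback to `G` -/
def pullbackFst (χ : G →* Q) (τ : H →* Q) : pullback χ τ →* G :=
  (MonoidHom.fst G H).comp (pullback χ τ).subtype

/-- the projection of the pullback to `H` -/
def pullbackSnd (χ : G →* Q) (τ : H →* Q) : pullback χ τ →* H :=
  (MonoidHom.snd G H).comp (pullback χ τ).subtype

theorem pullbackFst_stem (χ : G →* Q) (hχ : Function.Surjective χ) (τ : H →* Q)
    (hτ : Cfsg.IsStemExtension τ) : Cfsg.IsStemExtension (pullbackFst χ τ) := by
  refine ⟨?_, ?_, ?_⟩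
  · intro g
    obtain ⟨h, hh⟩ := hτ.1 (χ g)
    exact ⟨⟨(g, h), hh.symm⟩, rfl⟩
  · intro x hx
    rw [MonoidHom.mem_ker] at hx
    have hx1 : x.1.1 = 1 := hx
    have hx2 : x.1.2 ∈ τ.ker := by
      rw [MonoidHom.mem_ker]
      have := x.2
      rw [mem_pullback] at this
      rw [← this, hx1, map_one]
    have hc := Subgroup.mem_center_iff.1 (hτ.2.1 hx2)
    rw [Subgroup.mem_center_iff]
    intro y
    apply Subtype.ext
    apply Prod.ext
    · show y.1.1 * x.1.1 = x.1.1 * y.1.1
      rw [mul_comm]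
    · show y.1.2 * x.1.2 = x.1.2 * y.1.2
      exact hc y.1.2
  · intro x hx
    rw [MonoidHom.mem_ker] at hx
    have hx1 : x.1.1 = 1 := hx
    have hx2 : x.1.2 ∈ τ.ker := by
      rw [MonoidHom.mem_ker]
      have := x.2
      rw [mem_pullback] at this
      rw [← this, hx1, map_one]
    have hsnd : Function.Surjective (pullbackSnd χ τ) := by
      intro h
      obtain ⟨g, hg⟩ := hχ (τ h)
      exact ⟨⟨(g, h), hg⟩, rfl⟩
    have hmap : (commutator (pullback χ τ)).map (pullbackSnd χ τ) = commutator H := by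
      rw [map_commutator_eq, MonoidHom.range_eq_top.2 hsnd, commutator_def]
    have hmem : x.1.2 ∈ (commutator (pullback χ τ)).map (pullbackSnd χ τ) := by
      rw [hmap]; exact hτ.2.2 hx2
    obtain ⟨γ, hγ, hγx⟩ := hmem
    have hγ1 : γ.1.1 = 1 := by
      have h1 : (pullbackFst χ τ) γ ∈ (commutator (pullback χ τ)).map (pullbackFst χ τ) :=
        ⟨γ, hγ, rfl⟩
      rw [map_commutator_eq] at h1
      have h2 : ⁅(pullbackFst χ τ).range, (pullbackFst χ τ).range⁆ = ⊥ := by
        rw [Subgroup.commutator_eq_bot_iff_le_centralizer]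
        intro a _
        rw [Subgroup.mem_centralizer_iff]
        intro b _
        exact mul_comm b a
      rw [h2, Subgroup.mem_bot] at h1
      exact h1
    have : x = γ := by
      apply Subtype.ext
      apply Prod.ext
      · rw [hx1, hγ1]
      · exact hγx.symm
    rw [this]; exact hγ

theorem pullbackFst_ker_ne_bot (χ : G →* Q) (τ : H →* Q) (h : H) (hh : h ∈ τ.ker) (h1 : h ≠ 1) :
    (pullbackFst χ τ).ker ≠ ⊥ := by
  intro hbot
  have hmem : ((1 : G), h) ∈ pullback χ τ := by
    rw [mem_pullback, map_one]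
    exact ((MonoidHom.mem_ker).1 hh).symm
  have : (⟨((1 : G), h), hmem⟩ : pullback χ τ) ∈ (pullbackFst χ τ).ker := by
    rw [MonoidHom.mem_ker]; rfl
  rw [hbot, Subgroup.mem_bot] at this
  apply h1
  have := congrArg (fun z : pullback χ τ => z.1.2) this
  exact this

end

end Cfsg.Agent.Helper65
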