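import Mathlib
import Cfsg.Prelude.Def_Local
import Cfsg.Agent.Lib.Helper89.TH1Defs
import Cfsg.Agent.Lib.Helper54.Solv

/-!
# TH1 piece (CA) (helper89 server, S3797): case A, `C_W(K) = 1` forces `|G : O_2(G)|` odd.
-/

set_option autoImplicit false

namespace Cfsg.Agent.Helper65.TH1

open Cfsg Subgroup Cfsg.Agent.Helper89.TH1
open scoped commutatorElement

universe u

variable {G : Type u} [Group G] [Finite G]

omit [Finite G] in
/-- a nontrivial element killed by a power of 2 has a power of order exactly 2 -/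
theorem h65_exists_invol {x : G} (hx : x ≠ 1) (h : ∃ n : ℕ, x ^ 2 ^ n = 1) :
    ∃ i : ℕ, x ^ 2 ^ i ≠ 1 ∧ (x ^ 2 ^ i) ^ 2 = 1 := by
  classical
  have hn := Nat.find_spec h
  have hmin := fun m => Nat.find_min h (m := m)
  rcases hfind : Nat.find h with _ | i
  · rw [hfind, pow_zero, pow_one] at hn
    exact absurd hn hx
  · refine ⟨i, ?_, ?_⟩
    · exact hmin i (by rw [hfind]; exact Nat.lt_succ_self i)
    · rw [hfind] at hn
      rw [← pow_mul, ← pow_succ]
      exact hn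

theorem h65_pCore_normal : (pCore 2 G).Normal :=
  Subgroup.sSup_normal _ (fun _ h => h.1)

theorem h65_Q_inf_K {K : Subgroup G} (hodd : Odd (Nat.card K)) : pCore 2 G ⊓ K = ⊥ := by
  have : Fact (Nat.Prime 2) := ⟨Nat.prime_two⟩
  apply Subgroup.inf_eq_bot_of_coprime
  obtain ⟨n, hn⟩ := IsPGroup.exists_card_eq (Cfsg.Agent.Helper54.isPGroup_pCore (p := 2) (G := G))
  rw [hn]
  exact Nat.Coprime.pow_left n (Nat.coprime_two_left.mpr hodd)

/-- `Q ∩ N(K)` centralizes `K` -/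
theorem h65_comm_of_mem {K : Subgroup G} (hodd : Odd (Nat.card K)) {q k : G}
    (hq : q ∈ pCore 2 G) (hqN : q ∈ normalizer (K : Set G)) (hk : k ∈ K) : q * k = k * q := by
  have hQn : (pCore 2 G).Normal := h65_pCore_normal
  have h1 : q * k * q⁻¹ ∈ K := (Subgroup.mem_normalizer_iff.mp hqN k).mp hk
  have h2 : q * k * q⁻¹ * k⁻¹ ∈ K := K.mul_mem h1 (K.inv_mem hk)
  have h3 : q * k * q⁻¹ * k⁻¹ ∈ pCore 2 G := by
    have h4 : k * q⁻¹ * k⁻¹ ∈ pCore 2 G := hQn.conj_mem _ ((pCore 2 G).inv_mem hq) k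
    have : q * k * q⁻¹ * k⁻¹ = q * (k * q⁻¹ * k⁻¹) := by group
    rw [this]
    exact (pCore 2 G).mul_mem hq h4
  have h5 : q * k * q⁻¹ * k⁻¹ ∈ pCore 2 G ⊓ K := ⟨h3, h2⟩
  rw [h65_Q_inf_K hodd, Subgroup.mem_bot] at h5
  calc q * k = q * k * q⁻¹ * k⁻¹ * (k * q) := by group
    _ = k * q := by rw [h5, one_mul]

/-- (CA) -/
theorem caseA {W K : Subgroup G} (hB : Base G W) (hK : KData G K)
    (hfix : ∀ w ∈ W, (∀ k ∈ K, k * w = w * k) → w = 1) : Odd (pCore 2 G).index := by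
  classical
  have : Fact (Nat.Prime 2) := ⟨Nat.prime_two⟩
  have hQn : (pCore 2 G).Normal := h65_pCore_normal
  have hQ2 : IsPGroup 2 (pCore 2 G) := Cfsg.Agent.Helper54.isPGroup_pCore
  -- Q ∩ H = 1
  have hQH : ∀ x : G, x ∈ pCore 2 G → x ∈ normalizer (K : Set G) → x = 1 := by
    intro x hxQ hxH
    by_contra hx1
    obtain ⟨n, hn⟩ := hQ2 ⟨x, hxQ⟩
    have hn' : x ^ 2 ^ n = 1 := by
      have := congrArg Subtype.val hn
      simpa using this
    obtain ⟨i, hi1, hi2⟩ := h65_exists_invol hx1 ⟨n, hn'⟩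
    apply hi1
    have htQ : x ^ 2 ^ i ∈ pCore 2 G := Subgroup.pow_mem _ hxQ _
    have htH : x ^ 2 ^ i ∈ normalizer (K : Set G) := Subgroup.pow_mem _ hxH _
    have htW : x ^ 2 ^ i ∈ W := hB.inv_mem _ hi2
    apply hfix _ htW
    intro k hk
    exact (h65_comm_of_mem hK.K_odd htQ htH hk).symm
  -- |H| is odd
  have hHodd : Odd (Nat.card (normalizer (K : Set G))) := by
    by_contra hne
    rw [Nat.not_odd_iff_even] at hne
    have h2 : 2 ∣ Nat.card (normalizer (K : Set G)) := hne.two_dvd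
    obtain ⟨t, ht⟩ := exists_prime_orderOf_dvd_card' 2 h2
    have ht2 : (t : G) ^ 2 = 1 := by
      have := pow_orderOf_eq_one t
      rw [ht] at this
      have := congrArg Subtype.val this
      simpa using this
    have htW : (t : G) ∈ W := hB.inv_mem _ ht2
    have ht1 : (t : G) = 1 := hQH _ (hB.W_le htW) t.2
    have : t = 1 := Subtype.ext ht1
    rw [this, orderOf_one] at ht
    norm_num at ht
  -- H → G/Q is onto
  let f : ↥(normalizer (K : Set G)) →* G ⧸ pCore 2 G :=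
    (QuotientGroup.mk' (pCore 2 G)).comp (normalizer (K : Set G)).subtype
  have hf : Function.Surjective f := by
    intro y
    obtain ⟨g, rfl⟩ := QuotientGroup.mk'_surjective (pCore 2 G) y
    obtain ⟨q, hq, hqg⟩ := hK.frat g
    refine ⟨⟨q * g, hqg⟩, ?_⟩
    show QuotientGroup.mk' (pCore 2 G) (q * g) = QuotientGroup.mk' (pCore 2 G) g
    rw [map_mul]
    have : QuotientGroup.mk' (pCore 2 G) q = 1 := by
      rw [QuotientGroup.mk'_apply, QuotientGroup.eq_one_iff]
      exact hq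
    rw [this, one_mul]
  have hdvd := Subgroup.card_dvd_of_surjective f hf
  rw [Subgroup.index_eq_card]
  exact Odd.of_dvd_nat hHodd hdvd

end Cfsg.Agent.Helper65.TH1
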