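import Mathlib
import Cfsg.Prelude.Def_Local
import Cfsg.Agent.Lib.Helper89.TH1Defs
import Cfsg.Agent.Lib.Helper54.Solv

/-!
# TH1 piece (HB1) (helper89 server, S3797): the hypotheses pass to `H = N_G(K)` in case B.
-/

set_option autoImplicit false

namespace Cfsg.Agent.Helper65.TH1

open Cfsg Subgroup Cfsg.Agent.Helper89.TH1
open scoped commutatorElement

universe u

variable {G : Type u} [Group G] [Finite G]

/-- (HB1) -/
theorem H_hyps {W K : Subgroup G} (hB : Base G W) (hK : KData G K) (hKne : K ≠ ⊥)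
    (hKW : ∀ w ∈ W, ∀ k ∈ K, k * w = w * k) :
    TwoInv ↥(normalizer (K : Set G)) ∧ OneClass ↥(normalizer (K : Set G)) ∧
      normalizer (K : Set G) ≠ ⊤ := by
  classical
  -- W ≤ H
  have hWH : ∀ w ∈ W, w ∈ normalizer (K : Set G) := by
    intro w hw
    rw [Subgroup.mem_normalizer_iff]
    intro k
    constructor
    · intro hk
      have : w * k * w⁻¹ = k := by
        rw [← hKW w hw k hk, mul_inv_cancel_right]
      rw [this]; exact hk
    · intro hk
      have h1 := hKW w hw _ hk
      -- (w k w⁻¹) w = w (w k w⁻¹)  ⇒  k = w k w⁻¹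
      have : k = w * k * w⁻¹ := by
        have h2 : w * k * w⁻¹ * w = w * (w * k * w⁻¹) := h1
        have h3 : w * k = w * (w * k * w⁻¹) := by
          rw [← h2]; group
        exact mul_left_cancel h3
      rw [this]; exact hk
  -- elements of W commute
  have hWcomm : ∀ a ∈ W, ∀ b ∈ W, a * b = b * a := fun a ha b hb =>
    hB.W_central a ha b (hB.W_le hb)
  refine ⟨?_, ?_, ?_⟩
  · -- TwoInv H
    have h4 := hB.W_card
    have hWncard : ((W : Set G)).ncard = Nat.card W := (Nat.card_coe_set_eq _).symm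
    obtain ⟨x, hxW, hx1⟩ : ∃ x ∈ W, x ≠ 1 := by
      by_contra hcon
      push_neg at hcon
      have hsub : (W : Set G) ⊆ {1} := fun y hy => hcon y hy
      have := Set.ncard_le_ncard hsub (Set.toFinite _)
      rw [Set.ncard_singleton, hWncard] at this
      omega
    obtain ⟨y, hyW, hy1, hyx⟩ : ∃ y ∈ W, y ≠ 1 ∧ y ≠ x := by
      by_contra hcon
      push_neg at hcon
      have hsub : (W : Set G) ⊆ {1, x} := by
        intro y hy
        by_cases h1 : y = 1
        · exact Or.inl h1
        · exact Or.inr (hcon y hy h1)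
      have := Set.ncard_le_ncard hsub (Set.toFinite _)
      have h2 : ({1, x} : Set G).ncard ≤ 2 := by
        have := Set.ncard_insert_le (1 : G) ({x} : Set G)
        rw [Set.ncard_singleton] at this
        exact this
      rw [hWncard] at this
      omega
    refine ⟨⟨x, hWH x hxW⟩, ⟨y, hWH y hyW⟩, ?_, ?_, ?_, ?_, ?_, ?_⟩
    · intro h; exact hyx (congrArg Subtype.val h).symm
    · intro h; exact hx1 (congrArg Subtype.val h)
    · exact Subtype.ext (hB.W_exp x hxW)
    · intro h; exact hy1 (congrArg Subtype.val h)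
    · exact Subtype.ext (hB.W_exp y hyW)
    · exact Subtype.ext (hWcomm x hxW y hyW)
  · -- OneClass H
    intro x y hx1 hx2 hy1 hy2
    have hxW : (x : G) ∈ W := hB.inv_mem _ (by
      have := congrArg Subtype.val hx2
      simpa using this)
    have hyW : (y : G) ∈ W := hB.inv_mem _ (by
      have := congrArg Subtype.val hy2
      simpa using this)
    have hx1' : (x : G) ≠ 1 := fun h => hx1 (Subtype.ext h)
    have hy1' : (y : G) ≠ 1 := fun h => hy1 (Subtype.ext h)
    obtain ⟨g, hg⟩ := hB.W_trans _ hxW _ hyW hx1' hy1'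
    obtain ⟨q, hq, hqg⟩ := hK.frat g
    rw [isConj_iff]
    refine ⟨⟨q * g, hqg⟩, ?_⟩
    apply Subtype.ext
    show q * g * (x : G) * (q * g)⁻¹ = (y : G)
    have h1 : q * g * (x : G) * (q * g)⁻¹ = q * (g * (x : G) * g⁻¹) * q⁻¹ := by group
    rw [h1, hg, ← hB.W_central _ hyW q hq, mul_inv_cancel_right]
  · -- H ≠ ⊤
    intro htop
    have hKn : K.Normal := Subgroup.normalizer_eq_top_iff.mp htop
    have hcop : (Nat.card K).Coprime 2 := (Nat.coprime_two_left.mpr hK.K_odd).symm
    have hle := Cfsg.Agent.Helper54.le_pPrimeCore hKn hcop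
    rw [hB.core] at hle
    exact hKne (le_bot_iff.mp hle)

end Cfsg.Agent.Helper65.TH1
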