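import Mathlib
import Cfsg.Agent.Lib.Helper14.TSPDefs
import Cfsg.Agent.Lib.Helper14.PolarDerange
import Cfsg.Agent.Lib.Helper13.SympGeom

set_option autoImplicit false

namespace Cfsg.Agent.Helper65.TSP

open Matrix Module Polynomial Cfsg.Agent.S0776 Cfsg.Agent.Helper13 Cfsg.Agent.Helper14.PolarPairs
open Cfsg.Agent.Helper42.SemiConj Cfsg.Agent.Helper44.StarInv Cfsg.Agent.Helper44.SpBlocks
open Cfsg.Agent.Helper14.TSP

universe u

section finite

variable {F : Type u} [Field F] [Fintype F]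

/-- (C5) -/
theorem exists_block_odd (p : ℕ) [Fact p.Prime] [CharP F p] (d : ℕ) (r : ℕ) (hr : r.Prime)
    (hr2 : r ≠ 2) (hrp : r ≠ p) (hodd : Odd (orderOf ((Fintype.card F : ℕ) : ZMod r)))
    (hle : orderOf ((Fintype.card F : ℕ) : ZMod r) ≤ d) :
    ∃ x : GL (Fin d ⊕ Fin d) F, x ∈ Cfsg.spGL d F ∧ ∃ f₀ : F[X], x.val ^ r = 1 ∧
      Irreducible f₀ ∧ f₀.natDegree = orderOf ((Fintype.card F : ℕ) : ZMod r) ∧
      kdi x.val f₀ = f₀.natDegree ∧ kdi x.val (X - C 1) + 2 * f₀.natDegree = 2 * d := by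
  classical
  haveI : Fact r.Prime := ⟨hr⟩
  set q := Fintype.card F with hq
  set e := orderOf ((q : ℕ) : ZMod r) with he
  have hcard := cyc_card (F := F) r hr hrp
  rw [← hq, ← he] at hcard
  have hr3 : 2 ≤ r - 1 := by
    have := hr.two_le
    rcases Nat.lt_or_ge 2 r with h | h
    · omega
    · exact absurd (by omega) hr2
  have hnonempty : (cycFactors F r).Nonempty := by
    rw [Finset.nonempty_iff_ne_empty]
    intro h0
    rw [h0, Finset.card_empty, zero_mul] at hcard
    omega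
  obtain ⟨f₀, hf₀⟩ := hnonempty
  have hdeg : f₀.natDegree = e := cyc_natDegree r hr hrp f₀ hf₀
  have hst : star r f₀ ≠ f₀ := star_ne_self_of_odd r hr hr2 hrp f₀ hf₀ hodd
  have hfp := mem_pow_of_mem_cyc r f₀ hf₀
  have hne1 : f₀ ≠ X - 1 := by
    intro h
    rw [h] at hf₀
    exact X_sub_one_notMem_cyc r hr hrp hf₀
  have hne2 : star r f₀ ≠ X - 1 := by
    intro h
    have := star_mem_cyc r hr hrp f₀ hf₀
    rw [h] at this
    exact X_sub_one_notMem_cyc r hr hrp this
  have hsp := star_mem r hr hrp f₀ hfp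
  have h1 := spReal_pair (F := F) r hr hrp f₀ hfp
  have h2 := spReal_pair (F := F) r hr hrp (X - 1) (X_sub_one_mem_pow r)
  have h3 := spReal_nsmul _ r _ h2 (d - e)
  have h4 := spReal_add _ r _ _ h1 h3
  have hX1 : (X - 1 : F[X]).natDegree = 1 := by
    have h1 : (X - 1 : F[X]) = X - C 1 := by rw [map_one]
    rw [h1]; exact natDegree_X_sub_C 1
  have hsum : ∑ f ∈ powFactors F r, (((if f = f₀ then f₀.natDegree else 0) +
        (if f = star r f₀ then f₀.natDegree else 0)) +
      (d - e) * ((if f = X - 1 then (X - 1 : F[X]).natDegree else 0) +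
        (if f = star r (X - 1) then (X - 1 : F[X]).natDegree else 0))) = 2 * d := by
    rw [Finset.sum_add_distrib, ← Finset.mul_sum, Finset.sum_add_distrib, Finset.sum_add_distrib,
      star_X_sub_one,
      Finset.sum_ite_eq' (powFactors F r) f₀, if_pos hfp,
      Finset.sum_ite_eq' (powFactors F r) (star r f₀), if_pos hsp,
      Finset.sum_ite_eq' (powFactors F r) (X - 1 : F[X]), if_pos (X_sub_one_mem_pow r), hX1, hdeg]
    omega
  obtain ⟨A, hA1, hA2⟩ := exists_sp_of_real d r hr hrp _ h4 hsum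
  refine ⟨(toSpGL A : Cfsg.spGL d F), (toSpGL A).2, f₀, ?_, cyc_irr r f₀ hf₀, hdeg, ?_, ?_⟩
  · rw [toSpGL_val]
    have := congrArg (fun B : Matrix.symplecticGroup (Fin d) F => B.val) hA1
    simpa using this
  · rw [toSpGL_val, hA2 f₀ hfp, if_pos rfl, if_neg (Ne.symm hst), if_neg hne1, star_X_sub_one,
      if_neg hne1]
    simp
  · have hXC : (X - C 1 : F[X]) = X - 1 := by rw [map_one]
    rw [toSpGL_val, hXC, hA2 _ (X_sub_one_mem_pow r), if_neg (Ne.symm hne1),
      if_neg (Ne.symm hne2), if_pos rfl, star_X_sub_one, if_pos rfl, hX1, hdeg]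
    omega

end finite

end Cfsg.Agent.Helper65.TSP
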