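import Mathlib
import Cfsg.Agent.Lib.Helper96.SympInvol

set_option autoImplicit false

namespace Cfsg.Agent.Helper65.TSP

open Matrix Module Polynomial
open scoped Kronecker

universe u

section general

variable {F : Type u} [Field F]
variable {V : Type*} [AddCommGroup V] [Module F V]

/-- inductive core of (IND): relative to an invariant non-degenerate subspace `C` of dimension at
least `2 n`. -/
theorem h65_ind_aux [FiniteDimensional F V] (f : V → V → F)
    (hf : Cfsg.Agent.Helper96.SympInvol.AltForm f) (x : V →ₗ[F] V)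
    (hxf : ∀ u w, f (x u) (x w) = f u w) (A₀ : Matrix (Fin 2) (Fin 2) F)
    (pick : ∀ C : Submodule F V, (∀ u ∈ C, x u ∈ C) → (∀ u ∈ C, u ≠ 0 → ∃ w ∈ C, f u w ≠ 0) →
      C ≠ ⊥ → ∀ κ : F, κ ≠ 0 → ∃ u ∈ C, ∃ v ∈ C, ∃ ε : F, ε ≠ 0 ∧ f u v = κ ∧
        x u = ε • (A₀ 0 0 • u + A₀ 1 0 • v) ∧ x v = ε • (A₀ 0 1 • u + A₀ 1 1 • v)) :
    ∀ (n : ℕ) (C : Submodule F V), (∀ u ∈ C, x u ∈ C) →
      (∀ u ∈ C, u ≠ 0 → ∃ w ∈ C, f u w ≠ 0) → 2 * n ≤ finrank F C →
      ∀ κ : Fin n → F, (∀ k, κ k ≠ 0) →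
      ∃ (u v : Fin n → V) (ε : Fin n → F), (∀ k, u k ∈ C) ∧ (∀ k, v k ∈ C) ∧ (∀ k, ε k ≠ 0) ∧
        (∀ k k', f (u k) (u k') = 0) ∧
        (∀ k k', f (v k) (v k') = 0) ∧ (∀ k k', f (u k) (v k') = if k = k' then κ k else 0) ∧
        ∀ k, x (u k) = ε k • (A₀ 0 0 • u k + A₀ 1 0 • v k) ∧
          x (v k) = ε k • (A₀ 0 1 • u k + A₀ 1 1 • v k) := by
  intro n
  induction n with
  | zero =>
    intro C _ _ _ κ _
    exact ⟨fun k => k.elim0, fun k => k.elim0, fun k => k.elim0, fun k => k.elim0,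
      fun k => k.elim0, fun k => k.elim0, fun k => k.elim0, fun k => k.elim0, fun k => k.elim0,
      fun k => k.elim0⟩
  | succ n ih =>
    intro C hCx hCnd hCn κ hκ
    have hC0 : C ≠ ⊥ := by
      rintro rfl
      rw [finrank_bot] at hCn
      omega
    obtain ⟨u0, hu0C, v0, hv0C, ε0, hε0, huv0, hxu0, hxv0⟩ := pick C hCx hCnd hC0 (κ 0) (hκ 0)
    have hκ0 : κ 0 ≠ 0 := hκ 0
    have hvu0 : f v0 u0 = - κ 0 := by rw [hf.swap, huv0]
    -- the determinant relation
    have hdet : ε0 * ε0 * (A₀ 0 0 * A₀ 1 1 - A₀ 0 1 * A₀ 1 0) = 1 := by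
      have h := hxf u0 v0
      rw [hxu0, hxv0] at h
      simp only [hf.add_left, hf.add_right, hf.smul_left, hf.smul_right, hf.self, huv0, hvu0] at h
      have h' : (ε0 * ε0 * (A₀ 0 0 * A₀ 1 1 - A₀ 0 1 * A₀ 1 0) - 1) * κ 0 = 0 := by
        linear_combination h
      rcases mul_eq_zero.mp h' with h'' | h''
      · linear_combination h''
      · exact absurd h'' hκ0
    have hdet0 : A₀ 0 0 * A₀ 1 1 - A₀ 0 1 * A₀ 1 0 ≠ 0 := by
      intro h
      rw [h, mul_zero] at hdet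
      exact zero_ne_one hdet
    let C' : Submodule F V :=
      { carrier := {w | w ∈ C ∧ f w u0 = 0 ∧ f w v0 = 0}
        add_mem' := by
          rintro a b ⟨ha, ha1, ha2⟩ ⟨hb, hb1, hb2⟩
          exact ⟨C.add_mem ha hb, by rw [hf.add_left, ha1, hb1, add_zero],
            by rw [hf.add_left, ha2, hb2, add_zero]⟩
        zero_mem' := ⟨C.zero_mem, hf.zero_left _, hf.zero_left _⟩
        smul_mem' := by
          rintro c a ⟨ha, ha1, ha2⟩
          exact ⟨C.smul_mem c ha, by rw [hf.smul_left, ha1, mul_zero],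
            by rw [hf.smul_left, ha2, mul_zero]⟩ }
    have memC' : ∀ w, w ∈ C' ↔ w ∈ C ∧ f w u0 = 0 ∧ f w v0 = 0 := fun w => Iff.rfl
    have hC'le : C' ≤ C := fun w hw => ((memC' w).mp hw).1
    have hC'x : ∀ w ∈ C', x w ∈ C' := by
      intro w hw
      rw [memC'] at hw ⊢
      obtain ⟨hwC, h1, h2⟩ := hw
      have e1 := hxf w u0
      have e2 := hxf w v0
      rw [hxu0, hf.smul_right, hf.add_right, hf.smul_right, hf.smul_right, h1] at e1
      rw [hxv0, hf.smul_right, hf.add_right, hf.smul_right, hf.smul_right, h2] at e2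
      have e1' : A₀ 0 0 * f (x w) u0 + A₀ 1 0 * f (x w) v0 = 0 :=
        (mul_eq_zero.mp e1).resolve_left hε0
      have e2' : A₀ 0 1 * f (x w) u0 + A₀ 1 1 * f (x w) v0 = 0 :=
        (mul_eq_zero.mp e2).resolve_left hε0
      refine ⟨hCx w hwC, ?_, ?_⟩
      · have : (A₀ 0 0 * A₀ 1 1 - A₀ 0 1 * A₀ 1 0) * f (x w) u0 = 0 := by
          linear_combination A₀ 1 1 * e1' - A₀ 1 0 * e2'
        exact (mul_eq_zero.mp this).resolve_left hdet0
      · have : (A₀ 0 0 * A₀ 1 1 - A₀ 0 1 * A₀ 1 0) * f (x w) v0 = 0 := by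
          linear_combination A₀ 0 0 * e2' - A₀ 0 1 * e1'
        exact (mul_eq_zero.mp this).resolve_left hdet0
    -- projection to C'
    have hproj : ∀ y ∈ C, y - ((κ 0)⁻¹ * f y v0) • u0 + ((κ 0)⁻¹ * f y u0) • v0 ∈ C' := by
      intro y hy
      rw [memC']
      refine ⟨C.add_mem (C.sub_mem hy (C.smul_mem _ hu0C)) (C.smul_mem _ hv0C), ?_, ?_⟩
      · rw [hf.add_left, hf.sub_left, hf.smul_left, hf.smul_left, hf.self, hvu0]
        field_simp
        ring
      · rw [hf.add_left, hf.sub_left, hf.smul_left, hf.smul_left, hf.self, huv0]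
        field_simp
        ring
    have hC'nd : ∀ w ∈ C', w ≠ 0 → ∃ y ∈ C', f w y ≠ 0 := by
      intro w hw hw0
      obtain ⟨_, h1, h2⟩ := (memC' w).mp hw
      obtain ⟨y, hyC, hy⟩ := hCnd w (hC'le hw) hw0
      refine ⟨_, hproj y hyC, ?_⟩
      rw [hf.add_right, hf.sub_right, hf.smul_right, hf.smul_right, h1, h2]
      simpa using hy
    -- dimension
    have hCle : C ≤ C' ⊔ Submodule.span F ({u0, v0} : Set V) := by
      intro y hy
      have h1 := hproj y hy
      have h2 : ((κ 0)⁻¹ * f y v0) • u0 - ((κ 0)⁻¹ * f y u0) • v0 ∈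
          Submodule.span F ({u0, v0} : Set V) :=
        Submodule.sub_mem _
          (Submodule.smul_mem _ _ (Cfsg.Agent.Helper96.SympInvol.mem_pair_left u0 v0))
          (Submodule.smul_mem _ _ (Cfsg.Agent.Helper96.SympInvol.mem_pair_right u0 v0))
      have : y = (y - ((κ 0)⁻¹ * f y v0) • u0 + ((κ 0)⁻¹ * f y u0) • v0) +
          (((κ 0)⁻¹ * f y v0) • u0 - ((κ 0)⁻¹ * f y u0) • v0) := by abel
      rw [this]
      exact Submodule.add_mem _ (Submodule.mem_sup_left h1) (Submodule.mem_sup_right h2)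
    have hS2 : finrank F (Submodule.span F ({u0, v0} : Set V)) ≤ 2 := by
      classical
      have h := finrank_span_finset_le_card (R := F) ({u0, v0} : Finset V)
      have h' : (({u0, v0} : Finset V) : Set V) = ({u0, v0} : Set V) := by simp
      rw [h'] at h
      exact h.trans Finset.card_le_two
    have hC'n : 2 * n ≤ finrank F C' := by
      have h1 := Submodule.finrank_mono hCle
      have h2 := Submodule.finrank_add_le_finrank_add_finrank C'
        (Submodule.span F ({u0, v0} : Set V))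
      omega
    obtain ⟨u', v', ε', hu'C, hv'C, hε', huu', hvv', huv', hmode'⟩ :=
      ih C' hC'x hC'nd hC'n (fun k => κ k.succ) (fun k => hκ k.succ)
    have hu'1 : ∀ j, f (u' j) u0 = 0 := fun j => ((memC' _).mp (hu'C j)).2.1
    have hu'2 : ∀ j, f (u' j) v0 = 0 := fun j => ((memC' _).mp (hu'C j)).2.2
    have hv'1 : ∀ j, f (v' j) u0 = 0 := fun j => ((memC' _).mp (hv'C j)).2.1
    have hv'2 : ∀ j, f (v' j) v0 = 0 := fun j => ((memC' _).mp (hv'C j)).2.2
    refine ⟨Fin.cons u0 u', Fin.cons v0 v', Fin.cons ε0 ε', ?_, ?_, ?_, ?_, ?_, ?_, ?_⟩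
    · intro k
      refine Fin.cases ?_ (fun j => ?_) k
      · simpa using hu0C
      · simpa using hC'le (hu'C j)
    · intro k
      refine Fin.cases ?_ (fun j => ?_) k
      · simpa using hv0C
      · simpa using hC'le (hv'C j)
    · intro k
      refine Fin.cases ?_ (fun j => ?_) k
      · simpa using hε0
      · simpa using hε' j
    · intro k k'
      refine Fin.cases ?_ (fun j => ?_) k <;> refine Fin.cases ?_ (fun j' => ?_) k'
      · simp only [Fin.cons_zero]; exact hf.self _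
      · simp only [Fin.cons_zero, Fin.cons_succ]; rw [hf.swap, hu'1, neg_zero]
      · simp only [Fin.cons_zero, Fin.cons_succ]; exact hu'1 j
      · simp only [Fin.cons_succ]; exact huu' j j'
    · intro k k'
      refine Fin.cases ?_ (fun j => ?_) k <;> refine Fin.cases ?_ (fun j' => ?_) k'
      · simp only [Fin.cons_zero]; exact hf.self _
      · simp only [Fin.cons_zero, Fin.cons_succ]; rw [hf.swap, hv'2, neg_zero]
      · simp only [Fin.cons_zero, Fin.cons_succ]; exact hv'2 j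
      · simp only [Fin.cons_succ]; exact hvv' j j'
    · intro k k'
      refine Fin.cases ?_ (fun j => ?_) k <;> refine Fin.cases ?_ (fun j' => ?_) k'
      · simp only [Fin.cons_zero, if_true]; exact huv0
      · simp only [Fin.cons_zero, Fin.cons_succ]
        rw [hf.swap, hv'1, neg_zero, if_neg (Fin.succ_ne_zero j').symm]
      · simp only [Fin.cons_zero, Fin.cons_succ]
        rw [hu'2, if_neg (Fin.succ_ne_zero j)]
      · simp only [Fin.cons_succ]
        rw [huv' j j']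
        simp only [Fin.succ_inj]
    · intro k
      refine Fin.cases ?_ (fun j => ?_) k
      · simp only [Fin.cons_zero]; exact ⟨hxu0, hxv0⟩
      · simp only [Fin.cons_succ]; exact hmode' j

/-- (IND) peeling hyperbolic planes. -/
theorem exists_adapted_of_pick [FiniteDimensional F V] (f : V → V → F)
    (hf : Cfsg.Agent.Helper96.SympInvol.AltForm f) (x : V →ₗ[F] V)
    (hxf : ∀ u w, f (x u) (x w) = f u w) (A₀ : Matrix (Fin 2) (Fin 2) F)
    (pick : ∀ C : Submodule F V, (∀ u ∈ C, x u ∈ C) → (∀ u ∈ C, u ≠ 0 → ∃ w ∈ C, f u w ≠ 0) →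
      C ≠ ⊥ → ∀ κ : F, κ ≠ 0 → ∃ u ∈ C, ∃ v ∈ C, ∃ ε : F, ε ≠ 0 ∧ f u v = κ ∧
        x u = ε • (A₀ 0 0 • u + A₀ 1 0 • v) ∧ x v = ε • (A₀ 0 1 • u + A₀ 1 1 • v))
    (hnd : ∀ u, u ≠ 0 → ∃ w, f u w ≠ 0) (d : ℕ) (hd : finrank F V = 2 * d)
    (κ : Fin d → F) (hκ : ∀ k, κ k ≠ 0) :
    ∃ (u v : Fin d → V) (ε : Fin d → F), (∀ k, ε k ≠ 0) ∧ (∀ k k', f (u k) (u k') = 0) ∧
      (∀ k k', f (v k) (v k') = 0) ∧ (∀ k k', f (u k) (v k') = if k = k' then κ k else 0) ∧
      ∀ k, x (u k) = ε k • (A₀ 0 0 • u k + A₀ 1 0 • v k) ∧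
        x (v k) = ε k • (A₀ 0 1 • u k + A₀ 1 1 • v k) := by
  obtain ⟨u, v, ε, _, _, hε, huu, hvv, huv, hmode⟩ :=
    h65_ind_aux f hf x hxf A₀ pick d ⊤ (fun _ _ => Submodule.mem_top)
      (fun u _ hu => let ⟨w, hw⟩ := hnd u hu; ⟨w, Submodule.mem_top, hw⟩)
      (by rw [finrank_top, hd]) κ hκ
  exact ⟨u, v, ε, hε, huu, hvv, huv, hmode⟩

end general

end Cfsg.Agent.Helper65.TSP
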