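import Mathlib
import Cfsg.Agent.Lib.Helper14.TSPDefs
import Cfsg.Agent.Lib.Helper14.TSPAdapted
import Cfsg.Agent.Lib.Helper13.SympGeom
import Cfsg.Agent.Lib.Helper96.SympInvol
import Cfsg.Agent.Lib.Helper70.TSPE0
import Cfsg.Agent.Lib.Helper70.TSPE2
import Cfsg.Agent.Lib.Helper70.TSPE3
import Cfsg.Agent.Lib.Helper74.TSPE1
import Cfsg.Agent.Lib.Helper74.TSPPP
import Cfsg.Agent.Lib.Helper9.TSPPN
import Cfsg.Agent.Lib.Helper71.TSPB1
import Cfsg.Agent.Lib.Helper71.TSPB2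
import Cfsg.Agent.Lib.Helper71.TSPB3
import Cfsg.Agent.Lib.Helper71.TSPB4
import Cfsg.Agent.Lib.Helper65.TSPIND

set_option autoImplicit false

/-!
TSP server (helper14, S5980): piece (ECONV) `conj_mem_tensor_two`, assembled from the pieces
E0-E3 (helper70, helper74), B1-B4 (helper71), IND (helper65), PP (helper74), PN (helper9).
-/

namespace Cfsg.Agent.Helper65.TSP

open Matrix Module Polynomial
open scoped Kronecker
open Cfsg.Agent.Helper14.TSP Cfsg.Agent.Helper14.TSPSigs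

universe u

section finite

variable {F : Type u} [Field F]

/-- the invertible diagonal matrix with non-zero entries `ε` -/
noncomputable def h65_diagGL {b : ℕ} (ε : Fin b → F) (hε : ∀ k, ε k ≠ 0) : GL (Fin b) F :=
  ⟨Matrix.diagonal ε, Matrix.diagonal (fun k => (ε k)⁻¹),
    by
      rw [Matrix.diagonal_mul_diagonal]
      have : (fun i => ε i * (ε i)⁻¹) = fun _ => (1 : F) := by
        funext i; exact mul_inv_cancel₀ (hε i)
      rw [this, Matrix.diagonal_one],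
    by
      rw [Matrix.diagonal_mul_diagonal]
      have : (fun i => (ε i)⁻¹ * ε i) = fun _ => (1 : F) := by
        funext i; exact inv_mul_cancel₀ (hε i)
      rw [this, Matrix.diagonal_one]⟩

theorem h65_diagGL_val {b : ℕ} (ε : Fin b → F) (hε : ∀ k, ε k ≠ 0) :
    (h65_diagGL ε hε).val = Matrix.diagonal ε := rfl

/-- core of (ECONV): from an adapted family of mode `A₀` to the conjugate in the tensor subgroup. -/
theorem h65_econv_core (d b : ℕ) (hab : 2 * d = 2 * b)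
    (e : (Fin d ⊕ Fin d) ≃ Fin 2 × Fin b) (P : GL (Fin d ⊕ Fin d) F)
    (G₂ : Matrix (Fin b) (Fin b) F) (c γ : F)
    (hSc : ∀ X Y : Fin 2 × Fin b → F,
      Cfsg.sympForm d F (P.val *ᵥ (X ∘ e)) (P.val *ᵥ (Y ∘ e)) =
        c * Cfsg.Geo.formOfGram id ((!![0, γ; -γ, 0] : Matrix (Fin 2) (Fin 2) F) ⊗ₖ G₂) X Y)
    (T : GL (Fin b) F) (δ : Fin b → F) (hT : T.valᵀ * G₂ * T.val = Matrix.diagonal δ)
    (x : GL (Fin d ⊕ Fin d) F) (A₀ : GL (Fin 2) F)
    (u v : Fin b → (Fin d ⊕ Fin d → F)) (ε : Fin b → F) (hε : ∀ k, ε k ≠ 0)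
    (hκ : ∀ k, c * γ * δ k ≠ 0)
    (huu : ∀ k k', Cfsg.sympForm d F (u k) (u k') = 0)
    (hvv : ∀ k k', Cfsg.sympForm d F (v k) (v k') = 0)
    (huv : ∀ k k', Cfsg.sympForm d F (u k) (v k') = if k = k' then c * γ * δ k else 0)
    (hmode : ∀ k, Matrix.toLin' x.val (u k) = ε k • (A₀.val 0 0 • u k + A₀.val 1 0 • v k) ∧
      Matrix.toLin' x.val (v k) = ε k • (A₀.val 0 1 • u k + A₀.val 1 1 • v k)) :
    ∃ g ∈ Cfsg.spGL d F, g⁻¹ * x * g ∈ Cfsg.Geo.tensorProductSubgroup 2 b e P := by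
  have hform : Cfsg.Agent.Helper96.SympInvol.AltForm (Cfsg.sympForm d F) :=
    ⟨Cfsg.Agent.Helper13.sympForm_add_left, Cfsg.Agent.Helper13.sympForm_smul_left,
      Cfsg.Agent.Helper13.sympForm_add_right, Cfsg.Agent.Helper13.sympForm_smul_right,
      Cfsg.Agent.Helper13.sympForm_self⟩
  have hdim : Module.finrank F (Fin d ⊕ Fin d → F) = 2 * b := by
    rw [Module.finrank_fintype_fun_eq_card, Fintype.card_sum, Fintype.card_fin, ← hab]
    ring
  have hbij := Cfsg.Agent.Helper71.TSP.adaptedMap_bijective (Cfsg.sympForm d F) hform hdim u v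
    (fun k => c * γ * δ k) hκ huu hvv huv
  let Θ₀ : (Fin 2 × Fin b → F) ≃ₗ[F] (Fin d ⊕ Fin d → F) :=
    LinearEquiv.ofBijective (adaptedMap (F := F) u v) hbij
  have hΘ₀ : ∀ Y, Θ₀ Y = adaptedMap u v Y := fun Y => rfl
  -- the twist
  let Tm : Matrix (Fin 2 × Fin b) (Fin 2 × Fin b) F := (1 : Matrix (Fin 2) (Fin 2) F) ⊗ₖ T.val
  let Ti : Matrix (Fin 2 × Fin b) (Fin 2 × Fin b) F :=
    (1 : Matrix (Fin 2) (Fin 2) F) ⊗ₖ (T⁻¹ : GL (Fin b) F).val
  have hTT : T.val * (T⁻¹ : GL (Fin b) F).val = 1 := by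
    rw [← Units.val_mul, mul_inv_cancel, Units.val_one]
  have hTT' : (T⁻¹ : GL (Fin b) F).val * T.val = 1 := by
    rw [← Units.val_mul, inv_mul_cancel, Units.val_one]
  have hTmTi : Tm * Ti = 1 := by
    show (1 : Matrix (Fin 2) (Fin 2) F) ⊗ₖ T.val * ((1 : Matrix (Fin 2) (Fin 2) F) ⊗ₖ _) = 1
    rw [← Matrix.mul_kronecker_mul, hTT, one_mul, Matrix.one_kronecker_one]
  have hTiTm : Ti * Tm = 1 := by
    show (1 : Matrix (Fin 2) (Fin 2) F) ⊗ₖ _ * ((1 : Matrix (Fin 2) (Fin 2) F) ⊗ₖ T.val) = 1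
    rw [← Matrix.mul_kronecker_mul, hTT', one_mul, Matrix.one_kronecker_one]
  let L : (Fin 2 × Fin b → F) ≃ₗ[F] (Fin 2 × Fin b → F) :=
    LinearEquiv.ofLinear (Matrix.toLin' Ti) (Matrix.toLin' Tm)
      (by rw [← Matrix.toLin'_mul, hTiTm, Matrix.toLin'_one])
      (by rw [← Matrix.toLin'_mul, hTmTi, Matrix.toLin'_one])
  have hL : ∀ X, L X = Ti *ᵥ X := fun X => by
    show Matrix.toLin' Ti X = _
    rw [Matrix.toLin'_apply]
  have hTmL : ∀ X, Tm *ᵥ (L X) = X := fun X => by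
    rw [hL, Matrix.mulVec_mulVec, hTmTi, Matrix.one_mulVec]
  let Θ : (Fin 2 × Fin b → F) ≃ₗ[F] (Fin d ⊕ Fin d → F) := L.trans Θ₀
  have hΘ : ∀ X, Θ X = adaptedMap u v (L X) := fun X => rfl
  let B : GL (Fin b) F := T * h65_diagGL ε hε * T⁻¹
  refine Cfsg.Agent.Helper74.TSP.conj_mem_of_isometry e P
    (fun X Y => c * Cfsg.Geo.formOfGram id ((!![0, γ; -γ, 0] : Matrix (Fin 2) (Fin 2) F) ⊗ₖ G₂) X Y)
    hSc x Θ ?_ A₀ B ?_
  · intro X Y
    rw [hΘ, hΘ, Cfsg.Agent.Helper71.TSP.adaptedMap_form (Cfsg.sympForm d F) hform u v (fun k => c * γ * δ k)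
      huu hvv huv]
    show _ = c * Cfsg.Geo.formOfGram id _ X Y
    conv_rhs => rw [← hTmL X, ← hTmL Y]
    rw [Cfsg.Agent.Helper71.TSP.formOfGram_twist γ G₂ T.val δ hT, Finset.mul_sum]
    refine Finset.sum_congr rfl fun k _ => ?_
    ring
  · intro X
    rw [hΘ, hΘ, ← Matrix.toLin'_apply, Cfsg.Agent.Helper71.TSP.adaptedMap_intertwine (Matrix.toLin' x.val) u v ε
      A₀.val hmode]
    congr 1
    rw [hL, hL, Matrix.mulVec_mulVec, Matrix.mulVec_mulVec]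
    congr 1
    show A₀.val ⊗ₖ Matrix.diagonal ε * ((1 : Matrix (Fin 2) (Fin 2) F) ⊗ₖ _) =
      (1 : Matrix (Fin 2) (Fin 2) F) ⊗ₖ _ * (A₀.val ⊗ₖ (T * h65_diagGL ε hε * T⁻¹ : GL (Fin b) F).val)
    rw [← Matrix.mul_kronecker_mul, ← Matrix.mul_kronecker_mul, mul_one, one_mul,
      Units.val_mul, Units.val_mul, h65_diagGL_val, ← mul_assoc, ← mul_assoc, hTT', one_mul]


/-- (ECONV) the converse direction. -/
theorem conj_mem_tensor_two [Fintype F] (h2 : (2 : F) ≠ 0) (d b : ℕ) (hd : 1 ≤ d)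
    (hab : 2 * d = 2 * b)
    (e : (Fin d ⊕ Fin d) ≃ Fin 2 × Fin b) (P : GL (Fin d ⊕ Fin d) F)
    (f₁ : (Fin 2 → F) → (Fin 2 → F) → F) (f₂ : (Fin b → F) → (Fin b → F) → F)
    (hf₁ : Cfsg.Geo.IsSymplecticForm f₁) (hf₂ : Cfsg.Geo.IsSymmetricForm f₂)
    (hS : Cfsg.Geo.IsTensorFormStructure id (Cfsg.sympForm d F) f₁ f₂ e P)
    (x : GL (Fin d ⊕ Fin d) F) (hx : x ∈ Cfsg.spGL d F) (z : F)
    (hz : x.val ^ 2 = z • (1 : Matrix (Fin d ⊕ Fin d) (Fin d ⊕ Fin d) F)) :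
    ∃ g ∈ Cfsg.spGL d F, g⁻¹ * x * g ∈ Cfsg.Geo.tensorProductSubgroup 2 b e P := by
  obtain ⟨c, hc, hSc⟩ := hS
  obtain ⟨γ, hγ, hG₁⟩ := Cfsg.Agent.Helper70.TSP.gram_symplectic_two f₁ hf₁
  obtain ⟨T, δ, hδ, hT⟩ := Cfsg.Agent.Helper70.TSP.gram_symmetric_diag h2 f₂ hf₂
  rw [hG₁] at hSc
  have hκ : ∀ k, c * γ * δ k ≠ 0 := fun k => mul_ne_zero (mul_ne_zero hc hγ) (hδ k)
  have hform : Cfsg.Agent.Helper96.SympInvol.AltForm (Cfsg.sympForm d F) :=
    ⟨Cfsg.Agent.Helper13.sympForm_add_left, Cfsg.Agent.Helper13.sympForm_smul_left,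
      Cfsg.Agent.Helper13.sympForm_add_right, Cfsg.Agent.Helper13.sympForm_smul_right,
      Cfsg.Agent.Helper13.sympForm_self⟩
  have hnd : ∀ u : Fin d ⊕ Fin d → F, u ≠ 0 → ∃ w, Cfsg.sympForm d F u w ≠ 0 := by
    intro u hu
    obtain ⟨w, hw⟩ := Cfsg.Agent.Helper13.exists_partner hu
    exact ⟨w, by rw [hw]; exact one_ne_zero⟩
  have hxf : ∀ u w, Cfsg.sympForm d F (Matrix.toLin' x.val u) (Matrix.toLin' x.val w) =
      Cfsg.sympForm d F u w := by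
    intro u w
    rw [Matrix.toLin'_apply, Matrix.toLin'_apply]
    exact hx u w
  have hdim : Module.finrank F (Fin d ⊕ Fin d → F) = 2 * b := by
    rw [Module.finrank_fintype_fun_eq_card, Fintype.card_sum, Fintype.card_fin, ← hab]
    ring
  have hmul : x.val * x.val = z • (1 : Matrix (Fin d ⊕ Fin d) (Fin d ⊕ Fin d) F) := by
    rw [← hz, pow_two]
  have hxx : ∀ v, Matrix.toLin' x.val (Matrix.toLin' x.val v) = z • v := by
    intro v
    rw [← LinearMap.comp_apply, ← Matrix.toLin'_mul, hmul]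
    simp
  rcases Cfsg.Agent.Helper70.TSP.sq_scalar_cases d hd x hx z hz with hz1 | hz1
  · -- z = 1
    have hxx1 : ∀ v, Matrix.toLin' x.val (Matrix.toLin' x.val v) = v := by
      intro v; rw [hxx, hz1, one_smul]
    obtain ⟨u, v, ε, hε, huu, hvv, huv, hmode⟩ :=
      Cfsg.Agent.Helper65.TSP.exists_adapted_of_pick (Cfsg.sympForm d F) hform
        (Matrix.toLin' x.val) hxf
        (1 : Matrix (Fin 2) (Fin 2) F)
        (fun C hC hCnd hC0 κ hκ => Cfsg.Agent.Helper74.TSP.pick_pos h2 (Cfsg.sympForm d F)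
          hform (Matrix.toLin' x.val) hxf hxx1 C hC hCnd hC0 κ hκ)
        hnd b hdim (fun k => c * γ * δ k) hκ
    exact h65_econv_core d b hab e P (Cfsg.Geo.gramMatrix f₂) c γ hSc T δ hT x
      ⟨1, 1, one_mul 1, one_mul 1⟩ u v ε hε hκ huu hvv huv hmode
  · -- z = -1
    have hxx1 : ∀ v, Matrix.toLin' x.val (Matrix.toLin' x.val v) = -v := by
      intro v; rw [hxx, hz1, neg_smul, one_smul]
    obtain ⟨u, v, ε, hε, huu, hvv, huv, hmode⟩ :=
      Cfsg.Agent.Helper65.TSP.exists_adapted_of_pick (Cfsg.sympForm d F) hform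
        (Matrix.toLin' x.val) hxf
        (!![0, -1; 1, 0] : Matrix (Fin 2) (Fin 2) F)
        (fun C hC hCnd hC0 κ hκ => Cfsg.Agent.Helper9.TSP.pick_neg h2 (Cfsg.sympForm d F)
          hform (Matrix.toLin' x.val) hxf hxx1 C hC hCnd hC0 κ hκ)
        hnd b hdim (fun k => c * γ * δ k) hκ
    exact h65_econv_core d b hab e P (Cfsg.Geo.gramMatrix f₂) c γ hSc T δ hT x
      ⟨!![0, -1; 1, 0], !![0, 1; -1, 0],
        by ext i j; fin_cases i <;> fin_cases j <;> simp [Matrix.mul_apply, Fin.sum_univ_two],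
        by ext i j; fin_cases i <;> fin_cases j <;> simp [Matrix.mul_apply, Fin.sum_univ_two]⟩
      u v ε hε hκ huu hvv huv hmode

end finite

end Cfsg.Agent.Helper65.TSP
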