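import Mathlib

set_option autoImplicit false

namespace Cfsg.Agent.Helper65.TU

/-- Lucas, one digit at a time: `C(p^a m + p^a - 1, p^a) ≡ m (mod p)` -/
theorem h65_choose_pow_modEq (p : ℕ) [Fact p.Prime] (a m : ℕ) :
    Nat.choose (p ^ a * m + p ^ a - 1) (p ^ a) ≡ m [MOD p] := by
  induction a with
  | zero => simp [Nat.ModEq]
  | succ a ih =>
    have hp : p.Prime := Fact.out
    have hp1 : 1 ≤ p := hp.one_lt.le
    have hpos : 1 ≤ p ^ a := Nat.one_le_pow _ _ hp.pos
    have hN : p ^ (a + 1) * m + p ^ (a + 1) - 1 = p * (p ^ a * m + p ^ a - 1) + (p - 1) := by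
      have h1 : p ^ (a + 1) * m + p ^ (a + 1) = p * (p ^ a * m + p ^ a) := by ring
      rw [h1]
      have h2 : 1 ≤ p ^ a * m + p ^ a := by omega
      obtain ⟨k, hk⟩ : ∃ k, p ^ a * m + p ^ a = k + 1 := ⟨p ^ a * m + p ^ a - 1, by omega⟩
      rw [hk]
      have : k + 1 - 1 = k := by omega
      rw [this]
      have h3 : p * (k + 1) = p * k + p := by ring
      rw [h3]
      omega
    have hmod : (p ^ (a + 1) * m + p ^ (a + 1) - 1) % p = p - 1 := by
      rw [hN, Nat.mul_add_mod]
      exact Nat.mod_eq_of_lt (by have := hp.one_lt; omega)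
    have hdiv : (p ^ (a + 1) * m + p ^ (a + 1) - 1) / p = p ^ a * m + p ^ a - 1 := by
      rw [hN, Nat.mul_add_div hp.pos]
      have : (p - 1) / p = 0 := Nat.div_eq_of_lt (by have := hp.one_lt; omega)
      rw [this, add_zero]
    have hkmod : p ^ (a + 1) % p = 0 := by
      rw [pow_succ]; exact Nat.mul_mod_left _ _
    have hkdiv : p ^ (a + 1) / p = p ^ a := by
      rw [pow_succ]; exact Nat.mul_div_cancel _ hp.pos
    have key := Choose.choose_modEq_choose_mod_mul_choose_div_nat
      (n := p ^ (a + 1) * m + p ^ (a + 1) - 1) (k := p ^ (a + 1)) (p := p)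
    rw [hmod, hdiv, hkmod, hkdiv, Nat.choose_zero_right, one_mul] at key
    exact key.trans ih

/-- (LUC) -/
theorem exists_offset (p n : ℕ) [Fact p.Prime] (hn : 4 ≤ n) :
    ∃ a : ℕ, n = p ^ a ∨ (p ^ a + 3 ≤ n ∧ ¬ p ∣ Nat.choose (n - 1 + p ^ a) (n - 1)) := by
  have hp : p.Prime := Fact.out
  obtain ⟨a, m, hm, hnm⟩ := Nat.exists_eq_pow_mul_and_not_dvd (by omega : n ≠ 0) p hp.ne_one
  refine ⟨a, ?_⟩
  by_cases hm1 : m = 1
  · left; rw [hnm, hm1, mul_one]
  · right
    have hm0 : m ≠ 0 := by
      intro h; rw [h, mul_zero] at hnm; omega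
    have hm2 : 2 ≤ m := by omega
    have hpos : 1 ≤ p ^ a := Nat.one_le_pow _ _ hp.pos
    constructor
    · -- p^a + 3 ≤ n
      by_cases hs1 : p ^ a = 1
      · omega
      · by_cases hs2 : p ^ a = 2
        · -- then p = 2 and m odd, so m ≥ 3
          have hp2 : p = 2 := by
            have h2 : p ∣ 2 := by
              rw [← hs2]
              apply dvd_pow_self
              intro h0; rw [h0, pow_zero] at hs1; exact hs1 rfl
            exact (Nat.prime_dvd_prime_iff_eq hp Nat.prime_two).mp h2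
          have hm3 : 3 ≤ m := by
            by_contra hlt
            have : m = 2 := by omega
            apply hm; rw [this, hp2]
          rw [hnm, hs2]; omega
        · have hs3 : 3 ≤ p ^ a := by omega
          rw [hnm]
          nlinarith
    · -- not divisible
      have hsym : Nat.choose (n - 1 + p ^ a) (n - 1) = Nat.choose (n - 1 + p ^ a) (p ^ a) :=
        Nat.choose_symm_add
      have hN : n - 1 + p ^ a = p ^ a * m + p ^ a - 1 := by
        rw [hnm]
        have : 1 ≤ p ^ a * m := by nlinarith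
        omega
      rw [hsym, hN]
      intro hdvd
      have h1 := h65_choose_pow_modEq p a m
      have h2 : Nat.choose (p ^ a * m + p ^ a - 1) (p ^ a) ≡ 0 [MOD p] :=
        (Nat.modEq_zero_iff_dvd).mpr hdvd
      have h3 : m ≡ 0 [MOD p] := h1.symm.trans h2
      exact hm ((Nat.modEq_zero_iff_dvd).mp h3)

end Cfsg.Agent.Helper65.TU
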