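import Mathlib
import Cfsg.Agent.Lib.Helper65.MetaIso
import Cfsg.Agent.Lib.Helper91.SylowTabs

set_option autoImplicit false

namespace Cfsg.Agent.Helper65

namespace TabMeta

open Cfsg Cfsg.Agent.Helper7 Cfsg.Agent.Helper91

/-- table of a power -/
def powTab (l : List ℕ) : ℕ → List ℕ
  | 0 => idTab
  | k + 1 => mulTab (powTab l k) l

theorem tab_pow {σ : Equiv.Perm GolayPt} {l : List ℕ} (h : Tab σ l) (hlen : l.length = 24)
    (k : ℕ) : Tab (σ ^ k) (powTab l k) := by
  induction k with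
  | zero => rw [pow_zero]; exact tab_one
  | succ k ih => rw [pow_succ]; exact ih.mul h hlen

theorem powTab_length (l : List ℕ) (hlen : l.length = 24) (k : ℕ) : (powTab l k).length = 24 := by
  cases k with
  | zero => rfl
  | succ k => rw [powTab, mulTab_length, hlen]

variable {H : Subgroup (Equiv.Perm GolayPt)} {L : List (List ℕ)}

/-- a subgroup given by a list of tables, all of the form `a^i b^j` with metacyclic relations,
has trivial Schur multiplier under the numerical condition of `trivial_mult_of_metacyclic` -/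
theorem trivial_mult_tabSubgroup (hgood : GoodTabs H L) (hone : idTab ∈ L)
    (hmul : ∀ l1 ∈ L, ∀ l2 ∈ L, mulTab l1 l2 ∈ L) (hnd : L.Nodup)
    (la lb : List ℕ) (hla : la ∈ L) (hlb : lb ∈ L) (m n r : ℕ)
    (hm : 0 < m) (hn : 0 < n) (hr : 0 < r) (hrn : r ^ n ≡ 1 [MOD m])
    (hlen : L.length = m * n)
    (h1 : powTab la m = idTab) (h2 : powTab lb n = idTab)
    (h3 : mulTab lb la = mulTab (powTab la r) lb)
    (hall : ∀ l ∈ L, ∃ i < m, ∃ j < n, l = mulTab (powTab la i) (powTab lb j))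
    (hnum : Nat.gcd m (r - 1) * Nat.gcd m (∑ i ∈ Finset.range n, r ^ i) / m = 1) :
    Cfsg.HasCyclicSchurMultiplier ↥(tabSubgroup H L hgood hone hmul) 1 := by
  obtain ⟨σa, hσa, hta, hlena⟩ := hgood la hla
  obtain ⟨σb, hσb, htb, hlenb⟩ := hgood lb hlb
  set Q := tabSubgroup H L hgood hone hmul with hQ
  let a : ↥Q := ⟨⟨σa, hσa⟩, ⟨la, hla, hta⟩⟩
  let b : ↥Q := ⟨⟨σb, hσb⟩, ⟨lb, hlb, htb⟩⟩
  have hval : ∀ x y : ↥Q, ((x : ↥H) : Equiv.Perm GolayPt) = ((y : ↥H) : Equiv.Perm GolayPt) →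
      x = y := fun x y h => Subtype.ext (Subtype.ext h)
  have hcoe_pow : ∀ (x : ↥Q) (k : ℕ), (((x ^ k : ↥Q) : ↥H) : Equiv.Perm GolayPt) =
      ((x : ↥H) : Equiv.Perm GolayPt) ^ k := by
    intro x k
    rw [Subgroup.coe_pow, Subgroup.coe_pow]
  have hcoe_mul : ∀ (x y : ↥Q), (((x * y : ↥Q) : ↥H) : Equiv.Perm GolayPt) =
      ((x : ↥H) : Equiv.Perm GolayPt) * ((y : ↥H) : Equiv.Perm GolayPt) := by
    intro x y
    rw [Subgroup.coe_mul, Subgroup.coe_mul]
  have hca : ((a : ↥H) : Equiv.Perm GolayPt) = σa := rfl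
  have hcb : ((b : ↥H) : Equiv.Perm GolayPt) = σb := rfl
  have ha : a ^ m = 1 := by
    apply hval
    rw [hcoe_pow, hca]
    have := tab_pow hta hlena m
    rw [h1] at this
    exact tab_unique this tab_one
  have hb : b ^ n = 1 := by
    apply hval
    rw [hcoe_pow, hcb]
    have := tab_pow htb hlenb n
    rw [h2] at this
    exact tab_unique this tab_one
  have hba : b * a * b⁻¹ = a ^ r := by
    rw [mul_inv_eq_iff_eq_mul]
    apply hval
    rw [hcoe_mul, hcoe_mul, hcoe_pow, hca, hcb]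
    have t1 := htb.mul hta hlena
    have t2 := (tab_pow hta hlena r).mul htb hlenb
    rw [h3] at t1
    exact tab_unique t1 t2
  have hgen : Subgroup.closure ({a, b} : Set ↥Q) = ⊤ := by
    rw [eq_top_iff]
    intro x _
    obtain ⟨l, hl, hxl⟩ := x.2
    obtain ⟨i, -, j, -, hlij⟩ := hall l hl
    rw [hlij] at hxl
    have hx : x = a ^ i * b ^ j := by
      apply hval
      rw [hcoe_mul, hcoe_pow, hcoe_pow, hca, hcb]
      exact tab_unique hxl ((tab_pow hta hlena i).mul (tab_pow htb hlenb j)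
        (powTab_length lb hlenb j))
    have hamem : a ∈ Subgroup.closure ({a, b} : Set ↥Q) :=
      Subgroup.subset_closure (Set.mem_insert _ _)
    have hbmem : b ∈ Subgroup.closure ({a, b} : Set ↥Q) :=
      Subgroup.subset_closure (Set.mem_insert_of_mem _ (Set.mem_singleton _))
    rw [hx]
    exact Subgroup.mul_mem _ (Subgroup.pow_mem _ hamem _) (Subgroup.pow_mem _ hbmem _)
  have hcard : Nat.card ↥Q = m * n := by
    rw [hQ, card_tabSubgroup hgood hone hmul hnd, hlen]
  exact MetaIso.trivial_mult_of_metacyclic a b m n r hm hn hr hrn ha hb hba hgen hcard hnum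

end TabMeta

end Cfsg.Agent.Helper65
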