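import Mathlib
import Cfsg.Prelude.Def_OddOrderLocal
import Cfsg.Agent.Lib.Helper98.TIHDefs

set_option autoImplicit false

namespace Cfsg.Agent.Helper65.ZTI

open Cfsg.Agent.Helper98.TIH
open scoped commutatorElement

universe u

/-- Burnside's normal `p`-complement in the form needed here: a normal complement `M` of the Sylow
`p`-subgroup `S` (with `N(S) ≤ C(S)`) which is `{x | x ^ m = 1}` for `m = |M|`. -/
theorem h65z_burnside {X : Type*} [Group X] [Finite X] {p : ℕ} [Fact p.Prime] (S : Sylow p X)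
    (hNC : Subgroup.normalizer (S : Set X) ≤ Subgroup.centralizer (S : Set X)) :
    ∃ M : Subgroup X, M.Normal ∧ Subgroup.IsComplement' M (S : Subgroup X) ∧
      ∃ m : ℕ, ∀ x : X, x ∈ M ↔ x ^ m = 1 := by
  have hp : p.Prime := Fact.out
  have hcompl := MonoidHom.ker_transferSylow_isComplement' S hNC
  have hnd := MonoidHom.not_dvd_card_ker_transferSylow S hNC
  refine ⟨(MonoidHom.transferSylow S hNC).ker, inferInstance, hcompl,
    Nat.card (MonoidHom.transferSylow S hNC).ker, ?_⟩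
  intro x
  constructor
  · intro hx
    have := pow_card_eq_one' (G := (MonoidHom.transferSylow S hNC).ker) (x := ⟨x, hx⟩)
    exact congrArg Subtype.val this
  · intro hx
    rw [MonoidHom.mem_ker]
    have h1 : ((MonoidHom.transferSylow S hNC) x) ^
        Nat.card (MonoidHom.transferSylow S hNC).ker = 1 := by rw [← map_pow, hx, map_one]
    obtain ⟨k, hk⟩ := S.2 ((MonoidHom.transferSylow S hNC) x)
    have hcop : Nat.Coprime (Nat.card (MonoidHom.transferSylow S hNC).ker) (p ^ k) :=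
      Nat.Coprime.pow_right k ((Nat.Prime.coprime_iff_not_dvd hp).2 hnd).symm
    have h3 : orderOf ((MonoidHom.transferSylow S hNC) x) ∣
        Nat.gcd (Nat.card (MonoidHom.transferSylow S hNC).ker) (p ^ k) :=
      Nat.dvd_gcd (orderOf_dvd_of_pow_eq_one h1) (orderOf_dvd_of_pow_eq_one hk)
    rw [hcop] at h3
    exact orderOf_eq_one_iff.1 (Nat.dvd_one.1 h3)

theorem eq_bot_of_normalizer_le_centralizer {G : Type u} [Group G] [Finite G] (K Q P : Subgroup G)
    (p : ℕ) (hp : p.Prime) (hPK : P ≤ K) (hcard : Nat.card P = p ^ (Nat.card K).factorization p)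
    (hNC : K ⊓ Subgroup.normalizer (P : Set G) ≤ Subgroup.centralizer (P : Set G))
    (hQK : Q ≤ Subgroup.normalizer (K : Set G)) (hPQ : P ≤ Subgroup.centralizer (Q : Set G))
    (hKQ : ⁅K, Q⁆ = K) : P = ⊥ := by
  have hpF : Fact p.Prime := ⟨hp⟩
  have hc' : Nat.card (P.subgroupOf K) = p ^ (Nat.card K).factorization p := by
    rw [← hcard]; exact Nat.card_congr (Subgroup.subgroupOfEquivOfLe hPK).toEquiv
  have hNC' : Subgroup.normalizer ((Sylow.ofCard (P.subgroupOf K) hc' : Sylow p K) : Set K) ≤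
      Subgroup.centralizer ((Sylow.ofCard (P.subgroupOf K) hc' : Sylow p K) : Set K) := by
    intro x hx
    have hx' : x ∈ Subgroup.normalizer ((P.subgroupOf K : Subgroup K) : Set K) := hx
    rw [← Subgroup.subgroupOf_normalizer_eq hPK, Subgroup.mem_subgroupOf] at hx'
    have hc := hNC ⟨x.2, hx'⟩
    rw [Subgroup.mem_centralizer_iff] at hc ⊢
    intro y hy
    have hy' : (y : G) ∈ P := hy
    exact Subtype.ext (hc y hy')
  obtain ⟨M, hMn, hcompl, m, hm⟩ := h65z_burnside (Sylow.ofCard (P.subgroupOf K) hc') hNC'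
  -- `M` is invariant under conjugation by `Q`
  have hMQ : ∀ z : K, z ∈ M → ∀ q ∈ Q, ∃ hz' : q * (z : G) * q⁻¹ ∈ K,
      (⟨q * (z : G) * q⁻¹, hz'⟩ : K) ∈ M := by
    intro z hz q hq
    have hz' : q * (z : G) * q⁻¹ ∈ K := (Subgroup.mem_normalizer_iff.1 (hQK hq) z).1 z.2
    refine ⟨hz', ?_⟩
    rw [hm] at hz ⊢
    apply Subtype.ext
    have h1 : ((z : G)) ^ m = 1 := by
      have := congrArg Subtype.val hz
      simpa using this
    show (q * (z : G) * q⁻¹) ^ m = 1
    rw [conj_pow, h1, mul_one, mul_inv_cancel]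
  -- all commutators lie in `M`
  have hle : K ≤ M.map K.subtype := by
    conv_lhs => rw [← hKQ]
    rw [Subgroup.commutator_le]
    intro k hk q hq
    have hx : (⟨k, hk⟩ : K) ∈ M ⊔ ((Sylow.ofCard (P.subgroupOf K) hc' : Sylow p K) : Subgroup K) := by
      rw [hcompl.sup_eq_top]; exact Subgroup.mem_top _
    rw [← SetLike.mem_coe, Subgroup.normal_mul] at hx
    obtain ⟨n, hn, a, ha, hna⟩ := hx
    have haP : (a : G) ∈ P := ha
    have hk' : k = (n : G) * (a : G) := by
      have := congrArg Subtype.val hna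
      simpa using this.symm
    have haq : (a : G) * q * (a : G)⁻¹ = q := by
      have := hPQ haP
      rw [Subgroup.mem_centralizer_iff] at this
      rw [← this q hq, mul_inv_cancel_right]
    obtain ⟨hz', hzM⟩ := hMQ n⁻¹ (M.inv_mem hn) q hq
    have e : ⁅k, q⁆ = (n : G) * (q * ((n⁻¹ : K) : G) * q⁻¹) := by
      rw [commutatorElement_def, hk']
      have : (n : G) * (a : G) * q * ((n : G) * (a : G))⁻¹ * q⁻¹ =
          (n : G) * ((a : G) * q * (a : G)⁻¹) * (n : G)⁻¹ * q⁻¹ := by group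
      rw [this, haq]
      simp [mul_assoc]
    rw [e]
    exact ⟨n * ⟨q * ((n⁻¹ : K) : G) * q⁻¹, hz'⟩, M.mul_mem hn hzM, rfl⟩
  have hMtop : M = ⊤ := by
    rw [eq_top_iff]
    intro x _
    obtain ⟨y, hy, hyx⟩ := hle x.2
    have : y = x := Subtype.ext hyx
    rwa [← this]
  have hdisj := hcompl.disjoint
  rw [hMtop] at hdisj
  have hS : ((Sylow.ofCard (P.subgroupOf K) hc' : Sylow p K) : Subgroup K) = ⊥ :=
    top_disjoint.1 hdisj
  have hS' : P.subgroupOf K = ⊥ := hS
  rw [Subgroup.subgroupOf_eq_bot] at hS'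
  have h1 : P ⊓ K = ⊥ := disjoint_iff.1 hS'
  rwa [inf_eq_left.2 hPK] at h1

end Cfsg.Agent.Helper65.ZTI
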